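/-
A subgroup containing the centralisers of the non-trivial elements of one of its normal elementary abelian
subgroups, carrying an invariant non-degenerate quadratic form which separates the fusion classes, is everything.
-/
import Cfsg.Agent.Lib.RankOneSetup.Basic

set_option autoImplicit false

namespace CfsgLib.Classical22.C6Plus

lemma two_zmod : (2 : ZMod 2) = 0 := rfl

variable {G : Type*} [Group G]

/-- The data: an elementary abelian normal subgroup of `N` with an invariant quadratic form. -/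
structure QuadSub (N E : Subgroup G) (q : G → ZMod 2) : Prop where
  le : E ≤ N
  conj : ∀ n ∈ N, ∀ a ∈ E, n * a * n⁻¹ ∈ E
  sq : ∀ a ∈ E, a * a = 1
  qconj : ∀ n ∈ N, ∀ a ∈ E, q (n * a * n⁻¹) = q a
  bilin : ∀ u ∈ E, ∀ v ∈ E, ∀ w ∈ E, q (u * v * w) = q (u * v) + q (u * w) + q (v * w) + q u + q v + q w
  cent : ∀ n ∈ N, (∀ u ∈ E, n * u * n⁻¹ = u) → n ∈ E
  nondeg : ∀ u ∈ E, u ≠ 1 → ∃ v ∈ E, q (u * v) ≠ q u + q v

namespace QuadSub

variable {N E : Subgroup G} {q : G → ZMod 2} (S : QuadSub N E q)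
include S

lemma comm {a b : G} (ha : a ∈ E) (hb : b ∈ E) : a * b = b * a := by
  have h1 := S.sq _ (E.mul_mem ha hb)
  have ha' := inv_eq_of_mul_eq_one_right (S.sq a ha)
  have hb' := inv_eq_of_mul_eq_one_right (S.sq b hb)
  have h2 := inv_eq_of_mul_eq_one_right h1
  rw [mul_inv_rev, ha', hb'] at h2
  exact h2.symm

lemma inv_eq {a : G} (ha : a ∈ E) : a⁻¹ = a := inv_eq_of_mul_eq_one_right (S.sq a ha)

lemma q_one : q 1 = 0 := by
  have h := S.bilin 1 E.one_mem 1 E.one_mem 1 E.one_mem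
  simp only [mul_one] at h
  revert h; generalize q 1 = t; revert t; decide

/-- The polar form. -/
abbrev bq (q : G → ZMod 2) (u v : G) : ZMod 2 := q (u * v) + q u + q v

omit S in
lemma add_self_two (t : ZMod 2) : t + t = 0 := by revert t; decide

lemma bq_symm {u v : G} (hu : u ∈ E) (hv : v ∈ E) : bq q u v = bq q v u := by
  unfold bq; rw [S.comm hu hv]; ring

lemma bq_self {u : G} (hu : u ∈ E) : bq q u u = 0 := by
  unfold bq; rw [S.sq u hu, S.q_one, zero_add, add_self_two]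

lemma bq_mul {u v w : G} (hu : u ∈ E) (hv : v ∈ E) (hw : w ∈ E) : bq q u (v * w) = bq q u v + bq q u w := by
  unfold bq
  rw [← mul_assoc, S.bilin u hu v hv w hw]
  linear_combination (q (v * w)) * two_zmod

lemma bq_conj {n u v : G} (hn : n ∈ N) (hu : u ∈ E) (hv : v ∈ E) :
    bq q (n * u * n⁻¹) (n * v * n⁻¹) = bq q u v := by
  unfold bq
  rw [show n * u * n⁻¹ * (n * v * n⁻¹) = n * (u * v) * n⁻¹ by group, S.qconj n hn _ (E.mul_mem hu hv),
    S.qconj n hn u hu, S.qconj n hn v hv]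

open scoped Classical in
/-- A subgroup times its orthogonal is everything, in cardinality. -/
lemma card_perp [Finite G] (X : Subgroup G) (hX : X ≤ E) :
    Nat.card X * Set.ncard {v : G | v ∈ E ∧ ∀ x ∈ X, bq q v x = 0} = Nat.card E := by
  haveI : Fintype G := Fintype.ofFinite G
  obtain ⟨χ, hχ0, hχ1, hχ⟩ : ∃ χ : ZMod 2 → ℤ, χ 0 = 1 ∧ χ 1 = -1 ∧ ∀ a b, χ (a + b) = χ a * χ b :=
    ⟨fun a => if a = 0 then 1 else -1, by simp, by simp, by decide⟩
  have hz : ∀ t : ZMod 2, t ≠ 0 → t = 1 := by decide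
  have hsum : ∀ (Y : Subgroup G) (f : G → ZMod 2), (∀ a ∈ Y, ∀ b ∈ Y, f (a * b) = f a + f b) →
      ∑ y ∈ Y.carrier.toFinset, χ (f y) = if ∀ y ∈ Y, f y = 0 then (Nat.card Y : ℤ) else 0 := by
    intro Y f hf
    split_ifs with h
    · rw [Finset.sum_congr rfl (g := fun _ => (1 : ℤ)) (fun y hy => by rw [h y (Set.mem_toFinset.1 hy), hχ0]),
        Finset.sum_const, nsmul_one]
      norm_cast
      rw [← Set.ncard_eq_toFinset_card', ← Nat.card_coe_set_eq]
      rfl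
    · push Not at h
      obtain ⟨y₀, hy₀, hy₀'⟩ := h
      have he : ∑ y ∈ Y.carrier.toFinset, χ (f y) = ∑ y ∈ Y.carrier.toFinset, χ (f (y₀ * y)) := by
        refine (Finset.sum_bij' (fun y _ => y₀ * y) (fun y _ => y₀⁻¹ * y) ?_ ?_ ?_ ?_ ?_).symm
        · intro y hy; rw [Set.mem_toFinset] at hy ⊢; exact Y.mul_mem hy₀ hy
        · intro y hy; rw [Set.mem_toFinset] at hy ⊢; exact Y.mul_mem (Y.inv_mem hy₀) hy
        · intro y _; group
        · intro y _; group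
        · intro y _; rfl
      have hneg : ∑ y ∈ Y.carrier.toFinset, χ (f (y₀ * y)) = - ∑ y ∈ Y.carrier.toFinset, χ (f y) := by
        rw [← Finset.sum_neg_distrib]
        exact Finset.sum_congr rfl fun y hy => by
          rw [hf _ hy₀ _ (Set.mem_toFinset.1 hy), hz _ hy₀', hχ, hχ1, neg_one_mul]
      omega
  have hcomm := Finset.sum_comm (s := X.carrier.toFinset) (t := E.carrier.toFinset) (f := fun x v => χ (bq q v x))
  have hrow : ∀ x ∈ X.carrier.toFinset, ∑ v ∈ E.carrier.toFinset, χ (bq q v x) =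
      if x = 1 then (Nat.card E : ℤ) else 0 := by
    intro x hx
    rw [Set.mem_toFinset] at hx
    have hxE : x ∈ E := hX hx
    rw [hsum E (fun v => bq q v x) fun a ha b hb => by
      rw [S.bq_symm (E.mul_mem ha hb) hxE, S.bq_mul hxE ha hb, S.bq_symm hxE ha, S.bq_symm hxE hb]]
    by_cases h1 : x = 1
    · rw [if_pos h1, if_pos]
      intro v _
      subst h1
      unfold bq
      rw [mul_one, S.q_one, add_zero, add_self_two]
    · rw [if_neg h1, if_neg]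
      intro hall
      obtain ⟨v, hv, hne⟩ := S.nondeg x hxE h1
      refine hne ?_
      have := hall v hv
      unfold bq at this
      rw [S.comm hv hxE] at this
      linear_combination this - (q x + q v) * two_zmod
  have hcol : ∀ v ∈ E.carrier.toFinset, ∑ x ∈ X.carrier.toFinset, χ (bq q v x) =
      if ∀ x ∈ X, bq q v x = 0 then (Nat.card X : ℤ) else 0 := by
    intro v hv
    rw [Set.mem_toFinset] at hv
    exact hsum X (fun x => bq q v x) fun a ha b hb => S.bq_mul (show v ∈ E from hv) (hX ha) (hX hb)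
  rw [Finset.sum_congr rfl hrow, Finset.sum_congr rfl hcol, Finset.sum_ite_eq',
    if_pos (show (1 : G) ∈ X.carrier.toFinset from Set.mem_toFinset.2 X.one_mem), ← Finset.sum_filter, Finset.sum_const, nsmul_eq_mul] at hcomm
  have hs : {v : G | v ∈ E ∧ ∀ x ∈ X, bq q v x = 0}.toFinset =
      E.carrier.toFinset.filter (fun v => ∀ x ∈ X, bq q v x = 0) := by
    ext v; simp
  rw [Set.ncard_eq_toFinset_card', hs, mul_comm]
  exact_mod_cast hcomm.symm

/-- An element of `N` moving `a` gives a non-trivial fixed element. -/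
lemma exists_fixed {t : G} (ht : t ∈ N) (ht2 : t * t = 1) {v : G} (hv : v ∈ E) (hv1 : v ≠ 1) :
    ∃ y ∈ E, y ≠ 1 ∧ t * y * t⁻¹ = y := by
  have hti : t⁻¹ = t := inv_eq_of_mul_eq_one_right ht2
  by_cases h : v * (t * v * t⁻¹) = 1
  · refine ⟨v, hv, hv1, ?_⟩
    rw [mul_eq_one_iff_inv_eq, S.inv_eq hv] at h
    exact h.symm
  · refine ⟨_, E.mul_mem hv (S.conj t ht v hv), h, ?_⟩
    rw [show t * (v * (t * v * t⁻¹)) * t⁻¹ = (t * v * t⁻¹) * ((t * t) * v * (t * t)⁻¹) by group, ht2, one_mul,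
      inv_one, mul_one, S.comm (S.conj t ht v hv) hv]

section Main

variable [Finite G] (hC : ∀ a ∈ E, a ≠ 1 → ∀ c : G, c * a * c⁻¹ = a → c ∈ N)
  (hfus : ∀ a ∈ E, a ≠ 1 → ∀ g : G, g * a * g⁻¹ ∈ E → q (g * a * g⁻¹) = q a)
  (htr : ∀ a ∈ E, ∀ a' ∈ E, a ≠ 1 → a' ≠ 1 → q a = q a' → ∃ n ∈ N, n * a * n⁻¹ = a')
include hC hfus htr

/-- Trivial intersections. -/
lemma mem_of_conj_mem_E {a : G} (ha : a ∈ E) (ha1 : a ≠ 1) {g : G} (hg : g * a * g⁻¹ ∈ E) : g ∈ N := by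
  obtain ⟨n, hn, hna⟩ := htr _ hg a ha (fun h => ha1 (by rw [← mul_right_inj g, ← mul_left_inj g⁻¹, h]; group)) ha1
    (hfus a ha ha1 g hg)
  have := hC a ha ha1 (n * g) (by
    calc n * g * a * (n * g)⁻¹ = n * (g * a * g⁻¹) * n⁻¹ := by group
      _ = a := hna)
  exact (Subgroup.mul_mem_cancel_left N hn).1 this

/-- No element of `E` has a conjugate in `N` other than inside `E`. -/
lemma mem_of_conj_mem {a : G} (ha : a ∈ E) (ha1 : a ≠ 1) (hk : 4 < Nat.card E) {h : G} (hh : h * a * h⁻¹ ∈ N) :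
    h ∈ N := by
  classical
  by_contra hN
  haveI : Fintype G := Fintype.ofFinite G
  let X : Subgroup G := E ⊓ N.map (MulAut.conj h).toMonoidHom
  let Y : Subgroup G := E ⊓ N.map (MulAut.conj h⁻¹).toMonoidHom
  have hXm : ∀ {x}, x ∈ X ↔ x ∈ E ∧ h⁻¹ * x * h ∈ N := fun {x} => by
    refine ⟨fun hx => ⟨hx.1, ?_⟩, fun hx => ⟨hx.1, ⟨_, hx.2, by simp [MulAut.conj_apply]; group⟩⟩⟩
    obtain ⟨n, hn, rfl⟩ := hx.2
    simpa [MulAut.conj_apply, mul_assoc] using hn
  have hYm : ∀ {u}, u ∈ Y ↔ u ∈ E ∧ h * u * h⁻¹ ∈ N := fun {u} => by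
    refine ⟨fun hx => ⟨hx.1, ?_⟩, fun hx => ⟨hx.1, ⟨_, hx.2, by simp [MulAut.conj_apply]; group⟩⟩⟩
    obtain ⟨n, hn, rfl⟩ := hx.2
    simpa [MulAut.conj_apply, mul_assoc] using hn
  have hcomm : ∀ x ∈ X, ∀ u ∈ Y, h * u * h⁻¹ * x * (h * u * h⁻¹)⁻¹ = x := by
    intro x hx u hu
    rw [hXm] at hx; rw [hYm] at hu
    obtain ⟨d, hd⟩ : ∃ d, d = x * (h * u * h⁻¹ * x * (h * u * h⁻¹)⁻¹) := ⟨_, rfl⟩
    have hdE : d ∈ E := hd ▸ E.mul_mem hx.1 (S.conj _ hu.2 x hx.1)
    have hd' : h⁻¹ * d * h ∈ E := by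
      have hxi : (h⁻¹ * x * h)⁻¹ = h⁻¹ * x * h := by
        rw [show (h⁻¹ * x * h)⁻¹ = h⁻¹ * x⁻¹ * h by group, S.inv_eq hx.1]
      have : h⁻¹ * d * h = (h⁻¹ * x * h) * u * (h⁻¹ * x * h)⁻¹ * u := by
        calc h⁻¹ * d * h = (h⁻¹ * x * h) * u * (h⁻¹ * x * h) * u⁻¹ := by rw [hd]; group
          _ = _ := by rw [hxi, S.inv_eq hu.1]
      rw [this]
      exact E.mul_mem (S.conj _ hx.2 u hu.1) hu.1
    by_contra hne
    have hd1 : d ≠ 1 := fun e => hne (by
      rw [hd, mul_eq_one_iff_inv_eq, S.inv_eq hx.1] at e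
      exact e.symm)
    exact hN (by simpa using N.inv_mem (S.mem_of_conj_mem_E hC hfus htr hdE hd1 (g := h⁻¹) (by rwa [inv_inv])))
  have hfixX : ∀ u ∈ Y, u ≠ 1 → ∀ y ∈ E, h * u * h⁻¹ * y * (h * u * h⁻¹)⁻¹ = y → y ∈ X := by
    intro u hu hu1 y hy hfix
    refine hXm.2 ⟨hy, hC u (hYm.1 hu).1 hu1 _ ?_⟩
    have h1 : h * u * h⁻¹ * y = y * (h * u * h⁻¹) := mul_inv_eq_iff_eq_mul.1 hfix
    calc h⁻¹ * y * h * u * (h⁻¹ * y * h)⁻¹ = h⁻¹ * (y * (h * u * h⁻¹)) * y⁻¹ * h := by group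
      _ = u := by rw [← h1]; group
  have hfixY : ∀ x ∈ X, x ≠ 1 → ∀ u ∈ E, h⁻¹ * x * h * u * (h⁻¹ * x * h)⁻¹ = u → u ∈ Y := by
    intro x hx hx1 u hu hfix
    refine hYm.2 ⟨hu, hC x (hXm.1 hx).1 hx1 _ ?_⟩
    have h1 : h⁻¹ * x * h * u = u * (h⁻¹ * x * h) := mul_inv_eq_iff_eq_mul.1 hfix
    calc h * u * h⁻¹ * x * (h * u * h⁻¹)⁻¹ = h * (u * (h⁻¹ * x * h)) * u⁻¹ * h⁻¹ := by group
      _ = x := by rw [← h1]; group
  have haY : a ∈ Y := hYm.2 ⟨ha, hh⟩
  -- both pieces are large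
  have hbig : ∀ (Z : Subgroup G) (t : G), t ∈ N → t * t = 1 → Z ≤ E →
      (∀ y ∈ E, t * y * t⁻¹ = y → y ∈ Z) → Nat.card E ≤ Nat.card Z * Nat.card Z := by
    intro Z t ht ht2 hZE hfix
    obtain ⟨d, hd⟩ : ∃ d : G → G, ∀ v, d v = v * (t * v * t⁻¹) := ⟨_, fun _ => rfl⟩
    have hdZ : ∀ v ∈ E.carrier.toFinset, d v ∈ Z.carrier.toFinset := by
      intro v hv
      rw [Set.mem_toFinset] at hv ⊢
      rw [hd]
      refine hfix _ (E.mul_mem hv (S.conj t ht v hv)) ?_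
      rw [show t * (v * (t * v * t⁻¹)) * t⁻¹ = (t * v * t⁻¹) * ((t * t) * v * (t * t)⁻¹) by group, ht2, one_mul,
        inv_one, mul_one, S.comm (S.conj t ht v hv) hv]
    have hle := Finset.card_le_mul_card_image_of_maps_to hdZ (Nat.card Z) (fun z _ => by
      by_cases hne : ((E.carrier.toFinset).filter fun v => d v = z).Nonempty
      · obtain ⟨v₀, hv₀⟩ := hne
        rw [Finset.mem_filter, Set.mem_toFinset] at hv₀
        refine le_trans (Finset.card_le_card_of_injOn (fun v => v₀ * v) (t := Z.carrier.toFinset) ?_ ?_) ?_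
        · intro v hv
          simp only [Finset.coe_filter, Set.mem_setOf_eq, Set.mem_toFinset] at hv
          rw [Finset.mem_coe, Set.mem_toFinset]
          refine hfix _ (E.mul_mem hv₀.1 hv.1) ?_
          have h1 : t * v₀ * t⁻¹ = v₀ * z := by rw [← hv₀.2, hd, ← mul_assoc, S.sq v₀ hv₀.1, one_mul]
          have h2 : t * v * t⁻¹ = z * v := by
            rw [← hv.2, hd, S.comm hv.1 (S.conj t ht v hv.1), mul_assoc (t * v * t⁻¹), S.sq v hv.1, mul_one]
          have hzE : z ∈ E := hv₀.2 ▸ hd v₀ ▸ E.mul_mem hv₀.1 (S.conj t ht v₀ hv₀.1)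
          rw [show t * (v₀ * v) * t⁻¹ = (t * v₀ * t⁻¹) * (t * v * t⁻¹) by group, h1, h2, mul_assoc,
            ← mul_assoc z, S.sq z hzE, one_mul]
        · intro v _ v' _ he; exact mul_left_cancel he
        · rw [← Set.ncard_eq_toFinset_card', ← Nat.card_coe_set_eq]; rfl
      · rw [Finset.not_nonempty_iff_eq_empty.1 hne, Finset.card_empty]; exact Nat.zero_le _)
    rw [← Set.ncard_eq_toFinset_card', ← Set.ncard_eq_toFinset_card', ← Nat.card_coe_set_eq,
      ← Nat.card_coe_set_eq] at hle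
    exact hle
  have hX := hbig X (h * a * h⁻¹) hh (by rw [show h * a * h⁻¹ * (h * a * h⁻¹) = h * (a * a) * h⁻¹ by group, S.sq a ha]; group)
    inf_le_left (hfixX a haY ha1)
  obtain ⟨x₀, hx₀, hx₀1⟩ : ∃ x ∈ X, x ≠ 1 := by
    by_contra hc
    push Not at hc
    have : Nat.card X = 1 := Subgroup.card_eq_one.2 ((Subgroup.eq_bot_iff_forall X).2 hc)
    rw [this] at hX; omega
  have hY := hbig Y (h⁻¹ * x₀ * h) (hXm.1 hx₀).2
    (by rw [show h⁻¹ * x₀ * h * (h⁻¹ * x₀ * h) = h⁻¹ * (x₀ * x₀) * h by group, S.sq x₀ (hXm.1 hx₀).1]; group)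
    inf_le_left (hfixY x₀ hx₀ hx₀1)
  obtain ⟨P, hP⟩ : ∃ P, P = {v : G | v ∈ E ∧ ∀ x ∈ X, bq q v x = 0} := ⟨_, rfl⟩
  have hXP := S.card_perp X inf_le_left
  rw [← hP] at hXP
  have hXE : ∀ x ∈ X, x ∈ E := fun x hx => hx.1
  -- the displacement of an element outside X
  have hdis : ∀ v ∈ E, v ∉ X → P.ncard = Nat.card X ∧ ∀ w ∈ X, q w = bq q v w := by
    intro v hv hvX
    obtain ⟨d, hd⟩ : ∃ d : G → G, ∀ u, d u = v * (h * u * h⁻¹ * v * (h * u * h⁻¹)⁻¹) := ⟨_, fun _ => rfl⟩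
    have hdE : ∀ u ∈ Y, d u ∈ E := fun u hu => hd u ▸ E.mul_mem hv (S.conj _ (hYm.1 hu).2 v hv)
    have hdd : ∀ u ∈ Y, h * u * h⁻¹ * d u * (h * u * h⁻¹)⁻¹ = d u := by
      intro u hu
      obtain ⟨t, ht⟩ : ∃ t, t = h * u * h⁻¹ := ⟨_, rfl⟩
      have ht2 : t * t = 1 := by
        rw [ht, show h * u * h⁻¹ * (h * u * h⁻¹) = h * (u * u) * h⁻¹ by group, S.sq u (hYm.1 hu).1]; group
      have htN : t ∈ N := ht ▸ (hYm.1 hu).2
      rw [hd, ← ht, show t * (v * (t * v * t⁻¹)) * t⁻¹ = (t * v * t⁻¹) * ((t * t) * v * (t * t)⁻¹) by group, ht2,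
        one_mul, inv_one, mul_one, S.comm (S.conj t htN v hv) hv]
    have hdX : ∀ u ∈ Y, d u ∈ X := fun u hu => by
      by_cases hu1 : u = 1
      · rw [hd, hu1, mul_one, mul_inv_cancel, one_mul, inv_one, mul_one, S.sq v hv]; exact X.one_mem
      · exact hfixX u hu hu1 _ (hdE u hu) (hdd u hu)
    have hdP : ∀ u ∈ Y, d u ∈ P := fun u hu => by
      rw [hP]
      refine ⟨hdE u hu, fun x hx => ?_⟩
      have hn := (hYm.1 hu).2
      rw [S.bq_symm (hdE u hu) (hXE x hx), hd, S.bq_mul (hXE x hx) hv (S.conj _ hn v hv)]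
      nth_rw 2 [← hcomm x hx u hu]
      rw [S.bq_conj hn (hXE x hx) hv, add_self_two]
    have hdq : ∀ u ∈ Y, q (d u) = bq q v (d u) := fun u hu => by
      have h1 : v * d u = h * u * h⁻¹ * v * (h * u * h⁻¹)⁻¹ := by rw [hd, ← mul_assoc, S.sq v hv, one_mul]
      unfold bq
      rw [h1, S.qconj _ (hYm.1 hu).2 v hv]
      linear_combination -(q v) * two_zmod
    have hinj : Set.InjOn d (Y : Set G) := by
      intro u hu u' hu' he
      rw [hd, hd, mul_right_inj] at he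
      by_contra hne
      refine hvX (hfixX (u'⁻¹ * u) (Y.mul_mem (Y.inv_mem hu') hu) (fun e => hne ?_) v hv ?_)
      · rw [inv_mul_eq_one] at e; exact e.symm
      · calc h * (u'⁻¹ * u) * h⁻¹ * v * (h * (u'⁻¹ * u) * h⁻¹)⁻¹
            = h * u'⁻¹ * h⁻¹ * (h * u * h⁻¹ * v * (h * u * h⁻¹)⁻¹) * (h * u' * h⁻¹) := by group
          _ = v := by rw [he]; group
    have hle1 : Nat.card Y ≤ P.ncard := by
      rw [show Nat.card Y = (Y : Set G).ncard from Nat.card_coe_set_eq _]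
      exact Set.ncard_le_ncard_of_injOn d hdP hinj
    have hle2 : Nat.card Y ≤ Nat.card X := by
      rw [show Nat.card Y = (Y : Set G).ncard from Nat.card_coe_set_eq _,
        show Nat.card X = (X : Set G).ncard from Nat.card_coe_set_eq _]
      exact Set.ncard_le_ncard_of_injOn d hdX hinj
    have hX0 : 0 < Nat.card X := Nat.card_pos
    have hY0 : 0 < Nat.card Y := Nat.card_pos
    have hPY : P.ncard = Nat.card Y := by
      refine le_antisymm ?_ hle1
      by_contra hlt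
      push Not at hlt
      have : Nat.card Y * Nat.card Y < Nat.card X * P.ncard := Nat.mul_lt_mul_of_le_of_lt hle2 hlt hX0
      omega
    have hXY : Nat.card X = Nat.card Y := by
      refine le_antisymm ?_ hle2
      by_contra hlt
      push Not at hlt
      have : Nat.card Y * Nat.card Y < Nat.card X * P.ncard := Nat.mul_lt_mul_of_lt_of_le hlt hPY.ge (by omega)
      omega
    refine ⟨hPY.trans hXY.symm, fun w hw => ?_⟩
    have himg : d '' (Y : Set G) = (X : Set G) := by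
      refine Set.eq_of_subset_of_ncard_le (Set.image_subset_iff.2 hdX) ?_
      rw [Set.ncard_image_of_injOn hinj, ← Nat.card_coe_set_eq, ← Nat.card_coe_set_eq]
      exact hXY.le
    obtain ⟨u, hu, rfl⟩ := (Set.ext_iff.1 himg w).2 hw
    exact hdq u hu
  -- three elements outside X
  obtain ⟨v, hv, hvX⟩ : ∃ v ∈ E, v ∉ X := by
    by_contra hc
    push Not at hc
    have hall := hXm.1 (hc a ha)
    exact hN (S.mem_of_conj_mem_E hC hfus htr ha ha1 (S.cent _ hh fun y hy => hcomm y (hc y hy) a haY))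
  have hPX := (hdis v hv hvX).1
  rw [hPX] at hXP
  obtain ⟨v', hv', hv'X, hvv'⟩ : ∃ v' ∈ E, v' ∉ X ∧ v * v' ∉ X := by
    by_contra hc
    push Not at hc
    have hsub : (E : Set G) ⊆ (X : Set G) ∪ (fun x => v * x) '' (X : Set G) := by
      intro w hw
      by_cases hwX : w ∈ X
      · exact Or.inl hwX
      · exact Or.inr ⟨v * w, hc w hw hwX, by show v * (v * w) = w; rw [← mul_assoc, S.sq v hv, one_mul]⟩
    have h1 := ((Set.ncard_le_ncard hsub).trans (Set.ncard_union_le _ _)).trans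
      (Nat.add_le_add_left (Set.ncard_image_le) _)
    rw [← Nat.card_coe_set_eq, ← Nat.card_coe_set_eq] at h1
    change Nat.card E ≤ Nat.card X + Nat.card X at h1
    have : Nat.card X ≤ 2 := Nat.le_of_mul_le_mul_left (by omega : Nat.card X * Nat.card X ≤ Nat.card X * 2) Nat.card_pos
    have : Nat.card X * Nat.card X ≤ 2 * 2 := Nat.mul_le_mul this this
    omega
  have h0 : ∀ w ∈ X, ∀ u ∈ E, u ∉ X → bq q u w = 0 := fun w hw u hu huX => by
    have e1 := (hdis v hv hvX).2 w hw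
    have e2 := (hdis v' hv' hv'X).2 w hw
    have e3 := (hdis _ (E.mul_mem hv hv') hvv').2 w hw
    rw [S.bq_symm (E.mul_mem hv hv') (hXE w hw), S.bq_mul (hXE w hw) hv hv', S.bq_symm (hXE w hw) hv,
      S.bq_symm (hXE w hw) hv', ← e1, ← e2, add_self_two] at e3
    rw [← (hdis u hu huX).2 w hw, e3]
  obtain ⟨u, hu, hne⟩ := S.nondeg x₀ (hXE _ hx₀) hx₀1
  refine hne ?_
  have key : bq q u x₀ = 0 := by
    by_cases huX : u ∈ X
    · have hmul : v * u ∉ X := fun hm => hvX (by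
        have := X.mul_mem hm (X.inv_mem huX)
        rwa [mul_inv_cancel_right] at this)
      have e := h0 _ hx₀ _ (E.mul_mem hv hu) hmul
      rw [S.bq_symm (E.mul_mem hv hu) (hXE _ hx₀), S.bq_mul (hXE _ hx₀) hv hu, S.bq_symm (hXE _ hx₀) hv,
        h0 _ hx₀ v hv hvX, zero_add] at e
      rwa [S.bq_symm hu (hXE _ hx₀)]
    · exact h0 _ hx₀ u hu huX
  unfold bq at key
  rw [S.comm hu (hXE _ hx₀)] at key
  linear_combination key - (q x₀ + q u) * two_zmod

/-- The conclusion. -/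
theorem eq_top (hk : 4 < Nat.card E) {e z : G} (he : e ∈ E) (he1 : e ≠ 1) (hz : z ∈ E) (hz1 : z ≠ 1)
    (hqez : q e ≠ q z) : N = ⊤ := by
  by_contra hne
  obtain ⟨h, hh⟩ : ∃ h, h ∉ N := by
    by_contra hc
    push Not at hc
    exact hne (eq_top_iff.2 fun g _ => hc g)
  obtain ⟨f, hf⟩ : ∃ f, f = h * z * h⁻¹ := ⟨_, rfl⟩
  have hf2 : f * f = 1 := by rw [hf, show h * z * h⁻¹ * (h * z * h⁻¹) = h * (z * z) * h⁻¹ by group, S.sq z hz]; group
  have he2 := S.sq e he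
  have key : ∀ {a : G}, a ∈ E → a ≠ 1 → ∀ {g : G}, g * a * g⁻¹ ∈ N → g * a * g⁻¹ ∈ E := fun {a} ha ha1 {g} hg =>
    S.conj g (S.mem_of_conj_mem hC hfus htr ha ha1 hk hg) a ha
  have hei := S.inv_eq he
  have hfi : f⁻¹ = f := inv_eq_of_mul_eq_one_right hf2
  rcases Nat.even_or_odd (orderOf (e * f)) with ⟨m, hm⟩ | hodd
  swap
  · obtain ⟨j, hj⟩ := CfsgLib.RankOneSetup.conj_of_odd_orderOf he2 hf2 hodd
    refine hqez ?_
    have hg : (h⁻¹ * (e * f) ^ j) * e * (h⁻¹ * (e * f) ^ j)⁻¹ = z := by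
      calc (h⁻¹ * (e * f) ^ j) * e * (h⁻¹ * (e * f) ^ j)⁻¹ = h⁻¹ * ((e * f) ^ j * e * ((e * f) ^ j)⁻¹) * h := by group
        _ = z := by rw [hj, hf]; group
    rw [← hg]
    exact (hfus e he he1 _ (by rw [hg]; exact hz)).symm
  -- the central involution
  obtain ⟨r, hr⟩ : ∃ r, r = e * f := ⟨_, rfl⟩
  rw [← hr] at hm
  have hrpos : 0 < orderOf r := orderOf_pos r
  obtain ⟨w, hw⟩ : ∃ w, w = r ^ m := ⟨_, rfl⟩
  have hw1 : w ≠ 1 := hw ▸ pow_ne_one_of_lt_orderOf (by omega) (by omega)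
  have hw2 : w * w = 1 := by rw [hw, ← pow_add, ← hm, pow_orderOf_eq_one]
  have hwi : w⁻¹ = w := inv_eq_of_mul_eq_one_right hw2
  have her : e * r * e⁻¹ = r⁻¹ := by rw [hr, hei, mul_inv_rev, hfi, hei, ← mul_assoc, he2, one_mul]
  have hej : ∀ j : ℕ, e * r ^ j * e⁻¹ = (r ^ j)⁻¹ := fun j => by rw [← conj_pow, her, inv_pow]
  have hew : e * w * e⁻¹ = w := by rw [hw, hej, ← hw, hwi]
  have hwe : w * e * w⁻¹ = e := by
    rw [mul_inv_eq_iff_eq_mul]; exact (mul_inv_eq_iff_eq_mul.1 hew).symm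
  have hwN : w ∈ N := hC e he he1 w hwe
  have hweN : e * w ∈ N := N.mul_mem (S.le he) hwN
  have hewE : e * w ∈ E := by
    obtain ⟨j, hj | hj⟩ := Nat.even_or_odd' m
    · have h1 : e * w = (r ^ j)⁻¹ * e * ((r ^ j)⁻¹)⁻¹ := by
        calc e * w = (e * r ^ j * e⁻¹) * e * r ^ j := by rw [hw, hj, two_mul, pow_add]; group
          _ = _ := by rw [hej, inv_inv]
      rw [h1] at hweN ⊢
      exact key he he1 hweN
    · have h1 : e * w = ((r ^ j)⁻¹ * h) * z * ((r ^ j)⁻¹ * h)⁻¹ := by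
        have hef : f = e * r := by rw [hr, ← mul_assoc, he2, one_mul]
        calc e * w = e * r ^ j * r * r ^ j := by
              rw [hw, hj, mul_assoc, mul_assoc, ← pow_succ', ← pow_add]; congr 2; omega
          _ = (e * r ^ j * e⁻¹) * (e * r) * r ^ j := by group
          _ = (r ^ j)⁻¹ * f * r ^ j := by rw [hej, ← hef]
          _ = _ := by rw [hf]; group
      rw [h1] at hweN ⊢
      exact key hz hz1 hweN
  have hwE : w ∈ E := by
    have := E.mul_mem he hewE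
    rwa [← mul_assoc, he2, one_mul] at this
  have hwf : f * w * f⁻¹ = w := by
    have hfe : f = e * r := by rw [hr, ← mul_assoc, he2, one_mul]
    have hrw : r * w * r⁻¹ = w := by
      rw [hw, show r * r ^ m = r ^ m * r from (Commute.self_pow r m).eq, mul_inv_cancel_right]
    rw [hfe, show e * r * w * (e * r)⁻¹ = e * (r * w * r⁻¹) * e⁻¹ by group, hrw, hew]
  exact hh (S.mem_of_conj_mem hC hfus htr hz hz1 hk (hf ▸ hC w hwE hw1 f hwf))

end Main

end QuadSub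

end CfsgLib.Classical22.C6Plus
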