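/-
Groups of matrices whose squares and commutators are signs: the quadratic space modulo the signs.
-/
import Cfsg.Agent.Lib.Classical22.C6Plus.Fusion
import Cfsg.Agent.Lib.Classical22.Asch.SpClassTwo
import Cfsg.Agent.Lib.Classical22.SympTypeFour.Frame

set_option autoImplicit false
set_option maxHeartbeats 800000

namespace CfsgLib.Classical22.C6Plus

open Matrix
open scoped MatrixGroups Classical

variable {ι : Type} [Fintype ι] [DecidableEq ι] {F : Type*} [Field F]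

lemma zmod_ne_zero : ∀ {t : ZMod 2}, t ≠ 0 → t = 1 := by decide

lemma zmod_self : ∀ t : ZMod 2, t + t = 0 := by decide

/-- Whether the square differs from one. -/
noncomputable def qv (a : GL ι F) : ZMod 2 := if a * a = 1 then 0 else 1

/-- Whether two elements fail to commute. -/
noncomputable def bv (a b : GL ι F) : ZMod 2 := if a * b = b * a then 0 else 1

/-- Squares and commutators are signs, absolutely irreducible, of order `2 ^ (1 + 2 * k)`. -/
structure Sign (R : Subgroup (GL ι F)) (k : ℕ) : Prop where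
  nonempty : Nonempty ι
  two_ne : (2 : F) ≠ 0
  neg : (-1 : GL ι F) ∈ R
  sq : ∀ a ∈ R, a * a = 1 ∨ a * a = -1
  comm : ∀ a ∈ R, ∀ b ∈ R, a * b = b * a ∨ a * b = -(b * a)
  irr : Cfsg.Geo.ActsAbsolutelyIrreducibly (Cfsg.Geo.matrixSet R)
  card : Nat.card R = 2 ^ (1 + 2 * k)
  four : 4 ≤ k
  center : ∀ a ∈ R, (∀ r ∈ R, a * r = r * a) → a = 1 ∨ a = -1

omit [Fintype ι] [DecidableEq ι] in
lemma two_smul_eq_zero {M : Type*} [AddCommGroup M] [Module F M] (h2 : (2 : F) ≠ 0) {x : M} (h : x = -x) : x = 0 := by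
  have h' : (2 : F) • x = 0 := by
    rw [two_smul]
    nth_rewrite 1 [h]
    exact neg_add_cancel _
  exact (smul_eq_zero.1 h').resolve_left h2

lemma qv_eq_zero {a : GL ι F} : qv a = 0 ↔ a * a = 1 := by
  unfold qv
  by_cases h : a * a = 1 <;> simp [h]

lemma bv_eq_zero {a b : GL ι F} : bv a b = 0 ↔ a * b = b * a := by
  unfold bv
  by_cases h : a * b = b * a <;> simp [h]

lemma qv_neg (a : GL ι F) : qv (-a) = qv a := by
  unfold qv; rw [neg_mul_neg]

lemma bv_neg (a b : GL ι F) : bv (-a) b = bv a b := by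
  by_cases h : a * b = b * a
  · rw [bv_eq_zero.2 h, bv_eq_zero, neg_mul, mul_neg, h]
  · unfold bv
    rw [if_neg h, if_neg (by rw [neg_mul, mul_neg, neg_inj]; exact h)]

lemma bv_self (a : GL ι F) : bv a a = 0 := bv_eq_zero.2 rfl

lemma bv_symm (a b : GL ι F) : bv a b = bv b a := by
  unfold bv
  by_cases h : a * b = b * a
  · rw [if_pos h, if_pos h.symm]
  · rw [if_neg h, if_neg (Ne.symm h)]

lemma qv_one : qv (1 : GL ι F) = 0 := qv_eq_zero.2 (one_mul _)

namespace Sign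

variable {R : Subgroup (GL ι F)} {k : ℕ} (S : Sign R k)
include S

lemma neg_mem {a : GL ι F} (ha : a ∈ R) : -a ∈ R := by
  rw [← neg_one_mul]; exact R.mul_mem S.neg ha

lemma ne_neg (a : GL ι F) : a ≠ -a := fun h => by
  haveI := S.nonempty
  exact S.two_ne (by
    obtain ⟨i⟩ := S.nonempty
    have h1 : ((a : Matrix ι ι F)) = -(a : Matrix ι ι F) := congrArg Units.val h
    exact absurd (two_smul_eq_zero S.two_ne h1) a.ne_zero)

lemma neg_one_ne_one : (-1 : GL ι F) ≠ 1 := (S.ne_neg 1).symm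

lemma inv_eq {a : GL ι F} (ha : a ∈ R) : a⁻¹ = a ∨ a⁻¹ = -a := by
  rcases S.sq a ha with h | h
  · exact Or.inl (inv_eq_of_mul_eq_one_right h)
  · exact Or.inr (inv_eq_of_mul_eq_one_right (by rw [mul_neg, h, neg_neg]))

lemma qv_eq_one {a : GL ι F} (ha : a ∈ R) : qv a = 1 ↔ a * a = -1 := by
  unfold qv
  rcases S.sq a ha with h | h
  · rw [if_pos h, h]; simp [S.neg_one_ne_one.symm]
  · rw [if_neg (by rw [h]; exact S.neg_one_ne_one), h]; simp

lemma bv_eq_one {a b : GL ι F} (ha : a ∈ R) (hb : b ∈ R) : bv a b = 1 ↔ a * b = -(b * a) := by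
  unfold bv
  rcases S.comm a ha b hb with h | h
  · rw [if_pos h, h]; simp [S.ne_neg (b * a)]
  · rw [if_neg (by rw [h]; exact (S.ne_neg _).symm)]; simp [h]

lemma bv_cases (a b : GL ι F) : bv a b = 0 ∨ bv a b = 1 := by
  by_cases h : bv a b = 0
  exacts [Or.inl h, Or.inr (zmod_ne_zero h)]

lemma qv_mul {a b : GL ι F} (ha : a ∈ R) (hb : b ∈ R) : qv (a * b) = qv a + qv b + bv a b := by
  have hne := S.neg_one_ne_one
  have hab := R.mul_mem ha hb
  have key : a * b * (a * b) = a * (b * a) * b := by group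
  rcases S.comm a ha b hb with h | h
  · have e : a * b * (a * b) = a * a * (b * b) := by rw [key, ← h]; group
    rw [bv_eq_zero.2 h]
    rcases S.sq a ha with h1 | h1 <;> rcases S.sq b hb with h2 | h2 <;>
      rw [h1, h2] at e <;> simp only [one_mul, mul_one, neg_mul_neg] at e
    · rw [qv_eq_zero.2 h1, qv_eq_zero.2 h2, qv_eq_zero.2 e]; decide
    · rw [qv_eq_zero.2 h1, (S.qv_eq_one hb).2 h2, (S.qv_eq_one hab).2 e]; decide
    · rw [(S.qv_eq_one ha).2 h1, qv_eq_zero.2 h2, (S.qv_eq_one hab).2 e]; decide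
    · rw [(S.qv_eq_one ha).2 h1, (S.qv_eq_one hb).2 h2, qv_eq_zero.2 e]; decide
  · have e : a * b * (a * b) = -(a * a * (b * b)) := by
      rw [key, show b * a = -(a * b) by rw [h, neg_neg], mul_neg, neg_mul]
      simp only [mul_assoc]
    rw [(S.bv_eq_one ha hb).2 h]
    rcases S.sq a ha with h1 | h1 <;> rcases S.sq b hb with h2 | h2 <;>
      rw [h1, h2] at e <;> simp only [one_mul, mul_one, neg_mul_neg, neg_neg] at e
    · rw [qv_eq_zero.2 h1, qv_eq_zero.2 h2, (S.qv_eq_one hab).2 e]; decide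
    · rw [qv_eq_zero.2 h1, (S.qv_eq_one hb).2 h2, qv_eq_zero.2 e]; decide
    · rw [(S.qv_eq_one ha).2 h1, qv_eq_zero.2 h2, qv_eq_zero.2 e]; decide
    · rw [(S.qv_eq_one ha).2 h1, (S.qv_eq_one hb).2 h2, (S.qv_eq_one hab).2 e]; decide

lemma bv_mul {a b c : GL ι F} (ha : a ∈ R) (hb : b ∈ R) (hc : c ∈ R) : bv (a * b) c = bv a c + bv b c := by
  have e1 : a * b * c = a * (b * c) := mul_assoc _ _ _
  rcases S.comm a ha c hc with h | h <;> rcases S.comm b hb c hc with h' | h'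
  · rw [bv_eq_zero.2 h, bv_eq_zero.2 h', add_zero, bv_eq_zero, e1, h', ← mul_assoc, h, mul_assoc]
  · rw [bv_eq_zero.2 h, (S.bv_eq_one hb hc).2 h', zero_add, S.bv_eq_one (R.mul_mem ha hb) hc, e1, h', mul_neg,
      ← mul_assoc, h, mul_assoc]
  · rw [(S.bv_eq_one ha hc).2 h, bv_eq_zero.2 h', add_zero, S.bv_eq_one (R.mul_mem ha hb) hc, e1, h', ← mul_assoc, h,
      neg_mul, mul_assoc]
  · rw [(S.bv_eq_one ha hc).2 h, (S.bv_eq_one hb hc).2 h', zmod_self, bv_eq_zero, e1, h', mul_neg, ← mul_assoc, h,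
      neg_mul, neg_neg, mul_assoc]

lemma bv_mul' {a b c : GL ι F} (ha : a ∈ R) (hb : b ∈ R) (hc : c ∈ R) : bv c (a * b) = bv c a + bv c b := by
  rw [bv_symm c, S.bv_mul ha hb hc, bv_symm a, bv_symm b]

lemma bv_one (a : GL ι F) : bv 1 a = 0 := bv_eq_zero.2 (by rw [one_mul, mul_one])

lemma bv_inv {a b : GL ι F} (ha : a ∈ R) : bv a⁻¹ b = bv a b := by
  rcases S.inv_eq ha with h | h <;> rw [h]
  rw [bv_neg]

lemma qv_inv {a : GL ι F} (ha : a ∈ R) : qv a⁻¹ = qv a := by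
  rcases S.inv_eq ha with h | h <;> rw [h]
  rw [qv_neg]

lemma eq_pm {a : GL ι F} (ha : a ∈ R) (h : ∀ r ∈ R, bv a r = 0) : a = 1 ∨ a = -1 :=
  S.center a ha fun r hr => bv_eq_zero.1 (h r hr)

/-- A common way of separating: `u` is independent of the list modulo the signs. -/
def Ind : List (GL ι F) → GL ι F → Prop
  | [], u => u ≠ 1 ∧ u ≠ -1
  | a :: l, u => Ind l u ∧ Ind l (u * a)

lemma sep : ∀ (l : List (GL ι F)) (u : GL ι F), u ∈ R → (∀ a ∈ l, a ∈ R) → Ind l u →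
    ∃ v ∈ R, (∀ a ∈ l, bv v a = 0) ∧ bv v u = 1 := by
  intro l
  induction l with
  | nil =>
    intro u hu _ h
    by_contra hcon
    push Not at hcon
    refine (S.eq_pm hu fun r hr => ?_).elim h.1 h.2
    by_contra hne
    exact hcon r hr (fun a ha => absurd ha (List.not_mem_nil)) (by rw [bv_symm]; exact zmod_ne_zero hne)
  | cons a l ih =>
    intro u hu hl h
    have haR := hl a List.mem_cons_self
    have hlR : ∀ b ∈ l, b ∈ R := fun b hb => hl b (List.mem_cons_of_mem _ hb)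
    obtain ⟨v, hv, hvl, hvu⟩ := ih u hu hlR h.1
    rcases S.bv_cases v a with ha | ha
    · exact ⟨v, hv, List.forall_mem_cons.2 ⟨ha, hvl⟩, hvu⟩
    obtain ⟨w, hw, hwl, hwu⟩ := ih (u * a) (R.mul_mem hu haR) hlR h.2
    rw [S.bv_mul' hu haR hw] at hwu
    rcases S.bv_cases w a with ha' | ha' <;> rw [ha'] at hwu
    · rw [add_zero] at hwu
      exact ⟨w, hw, List.forall_mem_cons.2 ⟨ha', hwl⟩, hwu⟩
    · have hwu0 : bv w u = 0 := by rcases S.bv_cases w u with e | e <;> simp_all [zmod_self]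
      refine ⟨v * w, R.mul_mem hv hw, List.forall_mem_cons.2 ⟨?_, fun b hb => ?_⟩, ?_⟩
      · rw [S.bv_mul hv hw haR, ha, ha', zmod_self]
      · rw [S.bv_mul hv hw (hlR b hb), hvl b hb, hwl b hb, add_zero]
      · rw [S.bv_mul hv hw hu, hvu, hwu0, add_zero]

omit S in
/-- The signs. -/
def pm (ι : Type) [Fintype ι] [DecidableEq ι] (F : Type*) [Field F] : Subgroup (GL ι F) :=
  Subgroup.zpowers (-1)

omit S in
lemma mem_pm {a : GL ι F} : a ∈ pm ι F ↔ a = 1 ∨ a = -1 := by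
  refine ⟨fun h => ?_, ?_⟩
  · obtain ⟨j, rfl⟩ := Subgroup.mem_zpowers_iff.1 h
    rcases Int.even_or_odd j with hj | hj
    · exact Or.inl hj.neg_one_zpow
    · exact Or.inr hj.neg_one_zpow
  · rintro (rfl | rfl)
    exacts [one_mem _, Subgroup.mem_zpowers _]

omit S in
instance pm_normal : (pm ι F).Normal :=
  ⟨fun a ha g => by
    rcases mem_pm.1 ha with rfl | rfl
    · rw [mul_one, mul_inv_cancel]; exact one_mem _
    · rw [mul_neg, mul_one, neg_mul, mul_inv_cancel]; exact Subgroup.mem_zpowers _⟩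

omit S in
/-- The projection. -/
noncomputable def proj : GL ι F →* GL ι F ⧸ pm ι F := QuotientGroup.mk' _

omit S in
lemma proj_eq {a b : GL ι F} : proj a = proj b ↔ b = a ∨ b = -a := by
  rw [proj, QuotientGroup.mk'_eq_mk']
  refine ⟨?_, ?_⟩
  · rintro ⟨z, hz, rfl⟩
    rcases mem_pm.1 hz with rfl | rfl
    exacts [Or.inl (mul_one a), Or.inr (mul_neg_one a)]
  · rintro (rfl | rfl)
    exacts [⟨1, one_mem _, mul_one _⟩, ⟨-1, mem_pm.2 (Or.inr rfl), mul_neg_one _⟩]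

omit S in
/-- The quadratic map modulo the signs. -/
noncomputable def qq : GL ι F ⧸ pm ι F → ZMod 2 := fun a =>
  Quotient.liftOn' a qv fun a b h => by
    rcases proj_eq.1 (Quotient.sound' h : proj a = proj b) with rfl | rfl
    exacts [rfl, (qv_neg a).symm]

omit S in
lemma qq_proj (a : GL ι F) : qq (proj a) = qv a := rfl

/-- The quadratic space. -/
lemma quadSub : QuadSub (R.map proj) (R.map proj) qq := by
  refine ⟨le_rfl, fun n hn a ha => mul_mem (mul_mem hn ha) (inv_mem hn), ?_, ?_, ?_, fun n hn _ => hn, ?_⟩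
  · rintro _ ⟨a, ha, rfl⟩
    rw [← map_mul, ← map_one proj, proj_eq]
    rcases S.sq a ha with h | h <;> rw [h]
    exacts [Or.inl rfl, Or.inr (neg_neg 1).symm]
  · rintro _ ⟨n, hn, rfl⟩ _ ⟨a, ha, rfl⟩
    rw [← map_inv, ← map_mul, ← map_mul, qq_proj, qq_proj]
    by_cases h : a * a = 1
    · rw [qv_eq_zero.2 h, qv_eq_zero]
      rw [show n * a * n⁻¹ * (n * a * n⁻¹) = n * (a * a) * n⁻¹ by group, h]; group
    · have h1 : a * a = -1 := (S.sq a ha).resolve_left h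
      rw [(S.qv_eq_one ha).2 h1, S.qv_eq_one (R.mul_mem (R.mul_mem hn ha) (R.inv_mem hn))]
      rw [show n * a * n⁻¹ * (n * a * n⁻¹) = n * (a * a) * n⁻¹ by group, h1, mul_neg_one, neg_mul, mul_inv_cancel]
  · rintro _ ⟨u, hu, rfl⟩ _ ⟨v, hv, rfl⟩ _ ⟨w, hw, rfl⟩
    simp only [← map_mul, qq_proj]
    rw [S.qv_mul (R.mul_mem hu hv) hw, S.qv_mul hu hv, S.qv_mul hu hw, S.qv_mul hv hw, S.bv_mul hu hv hw]
    linear_combination -(qv u + qv v + qv w) * two_zmod
  · rintro _ ⟨u, hu, rfl⟩ h1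
    obtain ⟨v, hv, -, hvu⟩ := S.sep [] u hu (fun a ha => absurd ha List.not_mem_nil) ⟨fun e => h1 (by rw [e, map_one]),
      fun e => h1 (by rw [e, ← map_one proj, proj_eq]; exact Or.inr (neg_neg 1).symm)⟩
    refine ⟨proj v, ⟨v, hv, rfl⟩, ?_⟩
    rw [← map_mul, qq_proj, qq_proj, qq_proj, S.qv_mul hu hv, bv_symm, hvu]
    intro e
    exact absurd (show (1 : ZMod 2) = 0 by linear_combination e) (by decide)

lemma bq_proj {u v : GL ι F} (hu : u ∈ R) (hv : v ∈ R) : QuadSub.bq qq (proj u) (proj v) = bv u v := by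
  unfold QuadSub.bq
  rw [← map_mul, qq_proj, qq_proj, qq_proj, S.qv_mul hu hv]
  linear_combination (qv u + qv v) * two_zmod

variable [Fintype F]

lemma two_card_le {U : Subgroup (GL ι F)} (hU : (-1 : GL ι F) ∈ U) :
    Nat.card U = 2 * Nat.card (U.map proj) := by
  have hle : pm ι F ≤ U := fun z hz => by
    rcases mem_pm.1 hz with rfl | rfl
    exacts [U.one_mem, hU]
  have h2 : Nat.card (pm ι F) = 2 := by
    rw [pm, Nat.card_zpowers, orderOf_eq_prime_iff]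
    exact ⟨by rw [_root_.sq, neg_mul_neg, one_mul], S.neg_one_ne_one⟩
  obtain ⟨f, hf⟩ : ∃ f : U →* GL ι F ⧸ pm ι F, f = proj.comp U.subtype := ⟨_, rfl⟩
  have hr : f.range = U.map proj := by rw [hf, MonoidHom.range_comp, Subgroup.range_subtype]
  have hk : f.ker = (pm ι F).subgroupOf U := by
    rw [hf, ← MonoidHom.comap_ker, proj, QuotientGroup.ker_mk']; rfl
  rw [← Subgroup.card_mul_index f.ker, Subgroup.index_ker, hr, hk,
    Nat.card_congr (Subgroup.subgroupOfEquivOfLe hle).toEquiv, h2]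

/-- An isotropic subgroup has at most the order of its orthogonal complement. -/
lemma card_perp' {U : Subgroup (GL ι F)} (hU : U ≤ R) (hUn : (-1 : GL ι F) ∈ U) {W : Subgroup (GL ι F)}
    (hW : ∀ v, v ∈ W ↔ v ∈ R ∧ ∀ u ∈ U, bv v u = 0) : Nat.card U * Nat.card W = 2 * Nat.card R := by
  have hWn : (-1 : GL ι F) ∈ W := (hW _).2 ⟨S.neg, fun u _ => by rw [bv_neg, S.bv_one]⟩
  have h := S.quadSub.card_perp (U.map proj) (Subgroup.map_mono hU)
  have hset : {v | v ∈ R.map proj ∧ ∀ x ∈ U.map proj, QuadSub.bq qq v x = 0} = (W.map proj : Set _) := by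
    ext v
    constructor
    · rintro ⟨⟨v, hv, rfl⟩, hv'⟩
      exact ⟨v, (hW v).2 ⟨hv, fun u hu => by rw [← S.bq_proj hv (hU hu)]; exact hv' _ ⟨u, hu, rfl⟩⟩, rfl⟩
    · rintro ⟨v, hv, rfl⟩
      refine ⟨⟨v, ((hW v).1 hv).1, rfl⟩, ?_⟩
      rintro _ ⟨u, hu, rfl⟩
      rw [S.bq_proj ((hW v).1 hv).1 (hU hu)]
      exact ((hW v).1 hv).2 u hu
  rw [hset, ← Nat.card_coe_set_eq] at h
  rw [S.two_card_le hUn, S.two_card_le hWn, S.two_card_le S.neg]
  have h' : Nat.card (U.map proj) * Nat.card (W.map proj) = Nat.card (R.map proj) := h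
  rw [← h']; ring

/-- The common centraliser in `R` of three elements. -/
lemma perp_three {u₁ u₂ u₃ : GL ι F} (h₁ : u₁ ∈ R) (h₂ : u₂ ∈ R) (h₃ : u₃ ∈ R) :
    ∃ U : Subgroup (GL ι F), (∀ v, v ∈ U ↔ v ∈ R ∧ bv v u₁ = 0 ∧ bv v u₂ = 0 ∧ bv v u₃ = 0) ∧
      Nat.card R ≤ 8 * Nat.card U := by
  obtain ⟨φ, hφ⟩ : ∃ φ : R →* Multiplicative (ZMod 2 × ZMod 2 × ZMod 2),
      ∀ v : R, φ v = Multiplicative.ofAdd (bv (v : GL ι F) u₁, bv (v : GL ι F) u₂, bv (v : GL ι F) u₃) :=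
    ⟨{ toFun := fun v => Multiplicative.ofAdd (bv (v : GL ι F) u₁, bv (v : GL ι F) u₂, bv (v : GL ι F) u₃)
       map_one' := by simp [S.bv_one]
       map_mul' := fun a b => by simp [S.bv_mul a.2 b.2, h₁, h₂, h₃, ← ofAdd_add] }, fun v => rfl⟩
  refine ⟨φ.ker.map R.subtype, fun v => ?_, ?_⟩
  · constructor
    · rintro ⟨w, hw, rfl⟩
      rw [SetLike.mem_coe, MonoidHom.mem_ker, hφ] at hw
      have := congrArg Multiplicative.toAdd hw
      simp only [toAdd_ofAdd, toAdd_one, Prod.ext_iff, Prod.fst_zero, Prod.snd_zero] at this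
      exact ⟨w.2, this.1, this.2.1, this.2.2⟩
    · rintro ⟨hv, e1, e2, e3⟩
      exact ⟨⟨v, hv⟩, by rw [SetLike.mem_coe, MonoidHom.mem_ker, hφ]; simp [e1, e2, e3], rfl⟩
  · rw [← Nat.card_congr (φ.ker.equivMapOfInjective R.subtype R.subtype_injective).toEquiv,
      ← Subgroup.card_mul_index φ.ker, Subgroup.index_ker, mul_comm 8]
    refine Nat.mul_le_mul_left _ ((Nat.card_le_card_of_injective _ Subtype.val_injective).trans ?_)
    simp [Nat.card_eq_fintype_card]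

lemma big : 512 ≤ Nat.card R := by
  rw [S.card]
  exact le_trans (by norm_num) (Nat.pow_le_pow_right (by norm_num : 1 ≤ 2) (show 1 + 2 * 4 ≤ _ by have := S.four; omega))

/-- The common centraliser of three elements is not commutative. -/
lemma exists_pair {u₁ u₂ u₃ : GL ι F} (h₁ : u₁ ∈ R) (h₂ : u₂ ∈ R) (h₃ : u₃ ∈ R) :
    ∃ v ∈ R, ∃ w ∈ R, bv v w = 1 ∧ (bv v u₁ = 0 ∧ bv v u₂ = 0 ∧ bv v u₃ = 0) ∧
      (bv w u₁ = 0 ∧ bv w u₂ = 0 ∧ bv w u₃ = 0) := by
  obtain ⟨U, hU, hle⟩ := S.perp_three h₁ h₂ h₃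
  by_contra hcon
  push Not at hcon
  have hUR : U ≤ R := fun v hv => ((hU v).1 hv).1
  have hUn : (-1 : GL ι F) ∈ U := (hU _).2 ⟨S.neg, by simp [bv_neg, S.bv_one]⟩
  obtain ⟨W, hW⟩ : ∃ W : Subgroup (GL ι F), ∀ v, v ∈ W ↔ v ∈ R ∧ ∀ u ∈ U, bv v u = 0 :=
    ⟨R ⊓ Subgroup.centralizer U, fun v => by
      rw [Subgroup.mem_inf, Subgroup.mem_centralizer_iff]
      exact and_congr_right fun _ => forall₂_congr fun u _ => by rw [bv_eq_zero, eq_comm]⟩
  have hUW : U ≤ W := fun v hv => (hW v).2 ⟨hUR hv, fun u hu => by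
    by_contra hne
    obtain ⟨-, a, b, c⟩ := (hU v).1 hv
    obtain ⟨hu', a', b', c'⟩ := (hU u).1 hu
    exact hcon v (hUR hv) u hu' (zmod_ne_zero hne) ⟨a, b, c⟩ a' b' c'⟩
  have h := S.card_perp' hUR hUn hW
  have h' := Nat.mul_le_mul_left (Nat.card U) (Subgroup.card_le_of_le hUW)
  have := S.big
  have h8 : Nat.card R * Nat.card R ≤ 8 * Nat.card U * (8 * Nat.card U) := Nat.mul_le_mul hle hle
  nlinarith

/-- Prescribed values of the form and the square. -/
lemma exists_q {u₁ u₂ u₃ v₀ : GL ι F} (h₁ : u₁ ∈ R) (h₂ : u₂ ∈ R) (h₃ : u₃ ∈ R) (h₀ : v₀ ∈ R) (t : ZMod 2) :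
    ∃ v ∈ R, qv v = t ∧ bv v u₁ = bv v₀ u₁ ∧ bv v u₂ = bv v₀ u₂ ∧ bv v u₃ = bv v₀ u₃ := by
  by_contra hcon
  push Not at hcon
  obtain ⟨z, hz, w, hw, hzw, ⟨a, b, c⟩, ⟨a', b', c'⟩⟩ := S.exists_pair h₁ h₂ h₃
  have key : ∀ y ∈ R, bv y u₁ = 0 → bv y u₂ = 0 → bv y u₃ = 0 → qv (v₀ * y) = t + 1 := by
    intro y hy e1 e2 e3
    have hne : qv (v₀ * y) ≠ t := fun e => by
      refine hcon _ (R.mul_mem h₀ hy) e ?_ ?_ ?_ <;> rw [S.bv_mul h₀ hy (by assumption)]
      · rw [e1, add_zero]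
      · rw [e2, add_zero]
      · rw [e3, add_zero]
    revert hne; generalize qv (v₀ * y) = s; clear hcon; revert s t; decide
  have e0 := key 1 R.one_mem (S.bv_one _) (S.bv_one _) (S.bv_one _)
  have ez := key z hz a b c
  have ew := key w hw a' b' c'
  have ezw := key (z * w) (R.mul_mem hz hw) (by rw [S.bv_mul hz hw h₁, a, a', add_zero])
    (by rw [S.bv_mul hz hw h₂, b, b', add_zero]) (by rw [S.bv_mul hz hw h₃, c, c', add_zero])
  rw [mul_one] at e0
  rw [S.qv_mul h₀ (R.mul_mem hz hw), S.bv_mul' hz hw h₀, S.qv_mul hz hw, hzw, e0] at ezw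
  rw [S.qv_mul h₀ hz, e0] at ez
  rw [S.qv_mul h₀ hw, e0] at ew
  have : (1 : ZMod 2) = 0 := by linear_combination ezw - ez - ew
  exact absurd this (by decide)

end Sign

end CfsgLib.Classical22.C6Plus
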