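/-
Representatives of the signed group modulo signs form a basis of the matrices; consequences for elements commuting
with the group up to signs.
-/
import Cfsg.Agent.Lib.Classical22.C6Plus.Frame

set_option autoImplicit false
set_option maxHeartbeats 800000

namespace CfsgLib.Classical22.C6Plus

open Matrix
open scoped MatrixGroups Classical

variable {ι : Type} [Fintype ι] [DecidableEq ι] {F : Type*} [Field F]

namespace Sign

variable {R : Subgroup (GL ι F)} {k : ℕ} (S : Sign R k)
include S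

lemma trace_zero {x : GL ι F} (hx : x ∈ R) (h1 : x ≠ 1) (h2 : x ≠ -1) : Matrix.trace (x : Matrix ι ι F) = 0 := by
  obtain ⟨y, hy, -, hyx⟩ := S.sep [] x hx (fun a ha => absurd ha List.not_mem_nil) ⟨h1, h2⟩
  refine Aschbacher.trace_eq_zero_of_conj (y := y) (c := (-1 : F)) (fun h => S.two_ne (by linear_combination -h)) ?_
  rw [Units.val_mul, Units.val_mul, show (y : Matrix ι ι F) * x = -((x : Matrix ι ι F) * y) from
    congrArg Units.val ((S.bv_eq_one hy hx).1 hyx), neg_mul, mul_assoc, Units.mul_inv, mul_one, neg_one_smul]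

variable [Fintype F]

/-- A set of representatives modulo the signs, forming a basis. -/
lemma exists_basis : ∃ (κ : Type) (_ : Fintype κ) (s : κ → GL ι F) (b : Module.Basis κ F (Matrix ι ι F)),
    (∀ u, b u = (s u : Matrix ι ι F)) ∧ (∀ u, s u ∈ R) ∧ (∀ u v, (s u)⁻¹ * s v ∈ pm ι F → u = v) ∧
      Fintype.card κ = 2 ^ (2 * k) ∧ 2 ^ k = Fintype.card ι := by
  haveI := S.nonempty
  haveI : Finite (GL ι F) := inferInstance
  obtain ⟨Z, hZ⟩ : ∃ Z : Subgroup R, Z = (pm ι F).subgroupOf R := ⟨_, rfl⟩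
  have hZm : ∀ a : R, a ∈ Z ↔ (a : GL ι F) ∈ pm ι F := fun a => by rw [hZ]; exact Subgroup.mem_subgroupOf
  haveI : Fintype (R ⧸ Z) := Fintype.ofFinite _
  obtain ⟨e, -⟩ : ∃ _e : Fin (Fintype.card (R ⧸ Z)) ≃ R ⧸ Z, True := ⟨(Fintype.equivFin _).symm, trivial⟩
  obtain ⟨s, hs⟩ : ∃ s : Fin (Fintype.card (R ⧸ Z)) → GL ι F, ∀ u, s u = ((Quotient.out (e u) : R) : GL ι F) :=
    ⟨_, fun _ => rfl⟩
  have hsR : ∀ u, s u ∈ R := fun u => hs u ▸ SetLike.coe_mem _
  have hdiv : ∀ u v, (s u)⁻¹ * s v ∈ pm ι F → u = v := fun u v h => e.injective (by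
    rw [← QuotientGroup.out_eq' (e u), ← QuotientGroup.out_eq' (e v)]
    refine QuotientGroup.eq.2 ?_
    rw [hZm]
    simpa [hs] using h)
  have htr0 : ∀ u v, u ≠ v → Matrix.trace (((s v)⁻¹ * s u : GL ι F) : Matrix ι ι F) = 0 := fun u v hne =>
    S.trace_zero (R.mul_mem (R.inv_mem (hsR v)) (hsR u)) (fun h => hne (hdiv v u (h ▸ one_mem _)).symm)
      fun h => hne (hdiv v u (h ▸ mem_pm.2 (Or.inr rfl))).symm
  have hcover : ∀ x ∈ R, ∃ u, x = s u ∨ x = -s u := fun x hx => by
    refine ⟨e.symm (QuotientGroup.mk (⟨x, hx⟩ : R)), ?_⟩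
    obtain ⟨u, hu⟩ : ∃ u, u = e.symm (QuotientGroup.mk (⟨x, hx⟩ : R)) := ⟨_, rfl⟩
    rw [← hu]
    have h2 := QuotientGroup.eq.1 ((QuotientGroup.out_eq' (e u)).trans (by rw [hu, e.apply_symm_apply] :
      (e u) = QuotientGroup.mk (⟨x, hx⟩ : R)))
    rw [hZm, mem_pm] at h2
    simp only [Subgroup.coe_mul, Subgroup.coe_inv, ← hs] at h2
    rcases h2 with h2 | h2
    · exact Or.inl (inv_mul_eq_one.1 h2).symm
    · refine Or.inr ?_
      rw [inv_mul_eq_iff_eq_mul] at h2
      rw [h2, mul_neg_one]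
  have hspan : ⊤ ≤ Submodule.span F (Set.range fun u => (s u : Matrix ι ι F)) := by
    rw [← Algebra.top_toSubmodule, ← show Aschbacher.alg R = ⊤ from Asch.full_of_absIrr S.irr,
      Aschbacher.alg_toSubmodule]
    refine Submodule.span_le.2 ?_
    rintro _ ⟨x, hx, rfl⟩
    obtain ⟨u, rfl | rfl⟩ := hcover x hx
    · exact Submodule.subset_span ⟨u, rfl⟩
    · exact Submodule.neg_mem _ (Submodule.subset_span ⟨u, rfl⟩)
  have hnF : (Fintype.card ι : F) ≠ 0 := by
    intro h0
    obtain ⟨i⟩ := S.nonempty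
    have key : ∀ X : Matrix ι ι F, X ∈ Submodule.span F (Set.range fun u => (s u : Matrix ι ι F)) →
        Matrix.trace X = 0 := by
      intro X hX
      induction hX using Submodule.span_induction with
      | mem Y hY =>
        obtain ⟨u, rfl⟩ := hY
        dsimp only
        by_cases h1 : s u = 1
        · rw [h1, Units.val_one, Matrix.trace_one, h0]
        by_cases h2 : s u = -1
        · rw [h2, Units.val_neg, Units.val_one, Matrix.trace_neg, Matrix.trace_one, h0, neg_zero]
        exact S.trace_zero (hsR u) h1 h2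
      | zero => exact Matrix.trace_zero ..
      | add A B _ _ hA hB => rw [Matrix.trace_add, hA, hB, add_zero]
      | smul c A _ hA => rw [Matrix.trace_smul, hA, smul_zero]
    simpa using key (Matrix.single i i 1) (hspan Submodule.mem_top)
  have hli : LinearIndependent F fun u => (s u : Matrix ι ι F) := by
    rw [Fintype.linearIndependent_iff]
    intro c hc v
    have h1 := congrArg (fun X => Matrix.trace (((s v)⁻¹ : GL ι F).val * X)) hc
    simp only [Finset.mul_sum, Matrix.trace_sum, mul_smul_comm, Matrix.trace_smul, mul_zero, Matrix.trace_zero,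
      ← Units.val_mul] at h1
    rw [Finset.sum_eq_single v (fun u _ hu => by rw [htr0 u v hu, smul_zero]) (by simp),
      inv_mul_cancel, Units.val_one, Matrix.trace_one, smul_eq_mul] at h1
    exact (mul_eq_zero.1 h1).resolve_right hnF
  have hZ2 : Nat.card Z = 2 := by
    rw [hZ, Nat.card_congr (Subgroup.subgroupOfEquivOfLe (fun z hz => by
      rcases mem_pm.1 hz with rfl | rfl
      exacts [R.one_mem, S.neg] : pm ι F ≤ R)).toEquiv, pm, Nat.card_zpowers, orderOf_eq_prime_iff]
    exact ⟨by rw [_root_.sq, neg_mul_neg, one_mul], S.neg_one_ne_one⟩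
  have hκ : Fintype.card (R ⧸ Z) = 2 ^ (2 * k) := by
    have h := Subgroup.card_eq_card_quotient_mul_card_subgroup Z
    rw [S.card, hZ2, Nat.card_eq_fintype_card, pow_add] at h
    omega
  have hdim := Module.finrank_eq_card_basis (Module.Basis.mk hli hspan)
  rw [Module.finrank_matrix, Module.finrank_self, mul_one, Fintype.card_fin, hκ] at hdim
  refine ⟨_, inferInstance, s, Module.Basis.mk hli hspan, fun u => Module.Basis.mk_apply hli hspan u, hsR, hdiv,
    by rw [Fintype.card_fin, hκ], ?_⟩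
  have h2 : (2 ^ k) * (2 ^ k) = 2 ^ (2 * k) := by rw [← pow_add, two_mul]
  exact (Nat.mul_self_inj.1 (hdim.trans h2.symm)).symm

lemma card_index : Fintype.card ι = 2 ^ k := by
  obtain ⟨-, -, -, -, -, -, -, -, h⟩ := S.exists_basis
  exact h.symm

/-- A matrix commuting up to prescribed signs with the elements of a set is a combination of elements of `R` with
the same signs. -/
lemma exists_expansion (m : Matrix ι ι F) :
    ∃ (T : Finset (GL ι F)) (c : GL ι F → F), m = ∑ u ∈ T, c u • (u : Matrix ι ι F) ∧ (∀ u ∈ T, u ∈ R ∧ c u ≠ 0) ∧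
      ∀ a ∈ R, ∀ e : F, (a : Matrix ι ι F) * m = e • (m * (a : Matrix ι ι F)) →
        ∀ u ∈ T, (a : Matrix ι ι F) * u = e • ((u : Matrix ι ι F) * a) := by
  obtain ⟨κ, hκ, s, b, hb, hsR, hdiv, -, -⟩ := S.exists_basis
  have hinj : Function.Injective s := fun u v h => hdiv u v (by rw [h, inv_mul_cancel]; exact one_mem _)
  obtain ⟨c, hc⟩ : ∃ c : GL ι F → F, ∀ u, c (s u) = b.repr m u :=
    ⟨Function.extend s (fun u => b.repr m u) 0, fun u => hinj.extend_apply _ _ u⟩
  have hm : m = ∑ u, c (s u) • (s u : Matrix ι ι F) := by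
    simp_rw [hc, ← hb]
    exact (b.sum_repr m).symm
  refine ⟨(Finset.univ.filter fun u => c (s u) ≠ 0).image s, c, ?_, ?_, ?_⟩
  · rw [Finset.sum_image fun u _ v _ h => hinj h, Finset.sum_filter, hm]
    exact Finset.sum_congr rfl fun u _ => by
      by_cases h : c (s u) = 0
      · rw [if_neg (not_not.2 h), h, zero_smul]
      · rw [if_pos h]
  · intro u hu
    obtain ⟨i, hi, rfl⟩ := Finset.mem_image.1 hu
    exact ⟨hsR i, (Finset.mem_filter.1 hi).2⟩
  intro a ha e he u hu
  obtain ⟨i, hi, rfl⟩ := Finset.mem_image.1 hu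
  -- multiply the expansion by `a` on both sides
  have hσ : ∀ j, ∃ β : F, (a : Matrix ι ι F) * s j = β • ((s j : Matrix ι ι F) * a) := fun j => by
    rcases S.comm a ha (s j) (hsR j) with h | h
    · exact ⟨1, by rw [one_smul, ← Units.val_mul, h, Units.val_mul]⟩
    · exact ⟨-1, by rw [neg_one_smul, ← Units.val_mul, h, Units.val_neg, Units.val_mul]⟩
  choose β hβ using hσ
  rw [hm, Finset.mul_sum, Finset.sum_mul, Finset.smul_sum] at he
  simp only [mul_smul_comm, hβ, smul_mul_assoc, smul_smul] at he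
  have h2 : ∑ j, ((c (s j) * β j) - e * c (s j)) • (s j : Matrix ι ι F) = 0 := by
    have h3 := congrArg (· * ((a⁻¹ : GL ι F) : Matrix ι ι F)) he
    simp only [Finset.sum_mul, smul_mul_assoc, mul_assoc, Units.mul_inv, mul_one] at h3
    simp only [sub_smul, Finset.sum_sub_distrib, h3, sub_self]
  have h4 := Fintype.linearIndependent_iff.1 (by
    have := b.linearIndependent
    rwa [show (fun u => (s u : Matrix ι ι F)) = ⇑b from funext fun u => (hb u).symm]) _ h2 i
  have h5 : β i = e := by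
    have : c (s i) * (β i - e) = 0 := by linear_combination h4
    exact sub_eq_zero.1 ((mul_eq_zero.1 this).resolve_left (Finset.mem_filter.1 hi).2)
  rw [hβ, h5]

lemma scalar_pm_iff {u v : GL ι F} (hu : u ∈ R) (hv : v ∈ R) (h : ∀ r ∈ R, bv u r = bv v r) : v = u ∨ v = -u := by
  rcases S.eq_pm (R.mul_mem (R.inv_mem hu) hv) (fun r hr => by
    rw [S.bv_mul (R.inv_mem hu) hv hr, S.bv_inv hu, h r hr, zmod_self]) with e | e
  · exact Or.inl (inv_mul_eq_one.1 e).symm
  · exact Or.inr (by rw [inv_mul_eq_iff_eq_mul.1 e, mul_neg_one])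

/-- A matrix commuting up to signs with `R` is a multiple of an element of `R`. -/
lemma cent {m : Matrix ι ι F} (hm : ∀ r ∈ R, ∃ e : F, (r : Matrix ι ι F) * m = e • (m * (r : Matrix ι ι F))) :
    m = 0 ∨ ∃ u ∈ R, ∃ c : F, m = c • (u : Matrix ι ι F) := by
  obtain ⟨T, c, hsum, hT, hsign⟩ := S.exists_expansion m
  rcases T.eq_empty_or_nonempty with rfl | ⟨u, hu⟩
  · exact Or.inl (by rw [hsum, Finset.sum_empty])
  refine Or.inr ⟨u, (hT u hu).1, ?_⟩
  have hall : ∀ v ∈ T, v = u ∨ v = -u := fun v hv => S.scalar_pm_iff (hT u hu).1 (hT v hv).1 fun r hr => by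
    obtain ⟨e, he⟩ := hm r hr
    have h1 := hsign r hr e he u hu
    have h2 := hsign r hr e he v hv
    by_cases he1 : e = 1
    · subst he1
      rw [one_smul] at h1 h2
      rw [bv_eq_zero.2 (Units.ext h1.symm : u * r = r * u), bv_eq_zero.2 (Units.ext h2.symm : v * r = r * v)]
    · have key : ∀ w ∈ R, (r : Matrix ι ι F) * w = e • ((w : Matrix ι ι F) * r) → bv w r = 1 := fun w hw hh =>
        zmod_ne_zero fun h0 => he1 (by
          have hrw : (r : Matrix ι ι F) * w = (w : Matrix ι ι F) * r := (congrArg Units.val (bv_eq_zero.1 h0)).symm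
          rw [hrw] at hh
          have h6 : ((1 : F) - e) • ((w : Matrix ι ι F) * r) = 0 := by rw [sub_smul, one_smul, ← hh, sub_self]
          haveI := S.nonempty
          exact (sub_eq_zero.1 ((smul_eq_zero.1 h6).resolve_right (w * r).ne_zero)).symm)
      rw [key u (hT u hu).1 h1, key v (hT v hv).1 h2]
  have hsub : ∀ v ∈ T, ∃ d : F, c v • (v : Matrix ι ι F) = d • (u : Matrix ι ι F) := fun v hv => by
    rcases hall v hv with rfl | rfl
    exacts [⟨_, rfl⟩, ⟨-c (-u), by rw [Units.val_neg, smul_neg, neg_smul]⟩]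
  choose d hd using hsub
  exact ⟨∑ v ∈ T.attach, d v.1 v.2, by
    rw [hsum, ← Finset.sum_attach, Finset.sum_smul]
    exact Finset.sum_congr rfl fun v _ => hd v.1 v.2⟩

end Sign

/-- The hypotheses of the statement give the structure. -/
theorem sign_of_type [Fintype F] [Nonempty ι] {R : Subgroup (GL ι F)} {k : ℕ} (h2 : (2 : F) ≠ 0)
    (hR : Cfsg.Geo.IsSymplecticTypeGroup 2 R)
    (hirr : Cfsg.Geo.ActsAbsolutelyIrreducibly (Cfsg.Geo.matrixSet R))
    (hcard : Nat.card R = 2 ^ (1 + 2 * k)) (hZ : Nat.card (Subgroup.center R) = 2) (h4 : 4 ≤ k) : Sign R k := by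
  haveI : Fact (Nat.Prime 2) := ⟨Nat.prime_two⟩
  obtain ⟨z, hz⟩ := exists_prime_orderOf_dvd_card' (G := Subgroup.center R) 2 (by rw [hZ])
  have hz2 : ((z : R) : GL ι F) * ((z : R) : GL ι F) = 1 := by
    have h := pow_orderOf_eq_one z
    rw [hz, sq] at h
    exact congrArg (fun u : Subgroup.center R => ((u : R) : GL ι F)) h
  have hcs : ∀ w : R, w ∈ Subgroup.center R → (w : GL ι F) * w = 1 → (w : GL ι F) = 1 ∨ (w : GL ι F) = -1 := by
    intro w hw hw2
    obtain ⟨c, -, hc⟩ := SympTypeFour.scalar_of_commute hirr fun a ha =>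
      (congrArg Subtype.val (Subgroup.mem_center_iff.1 hw ⟨a, ha⟩)).symm
    have h1 := congrArg Units.val hw2
    rw [Units.val_mul, hc, smul_mul_smul_comm, one_mul, Units.val_one] at h1
    obtain ⟨i⟩ := ‹Nonempty ι›
    have h3 : c * c = 1 := by simpa using congrFun (congrFun h1 i) i
    rcases mul_self_eq_one_iff.1 h3 with rfl | rfl
    · exact Or.inl (Units.ext (by rw [hc, one_smul, Units.val_one]))
    · exact Or.inr (Units.ext (by rw [hc, neg_one_smul, Units.val_neg, Units.val_one]))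
  have hz1 : ((z : R) : GL ι F) ≠ 1 := fun h => by
    have : z = 1 := Subtype.ext (Subtype.ext h)
    rw [this, orderOf_one] at hz
    norm_num at hz
  have hzm : ((z : R) : GL ι F) = -1 := (hcs z.1 z.2 hz2).resolve_left hz1
  have hp4 : ∀ q : R, q ^ 4 = 1 := fun q => by
    have h := Monoid.pow_exponent_eq_one q
    rwa [hR.exponent_eq, show 2 * Nat.gcd 2 2 = 4 from rfl] at h
  obtain ⟨hcm, hsq, -⟩ := CfsgLib.Local.symplectic_four (Q := R) ⟨hR.pGroup, hR.cyclic_of_characteristic⟩ hp4 z.2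
    (Subtype.ext (by rw [Subgroup.coe_pow, sq]; exact hz2)) fun h => hz1 (congrArg Subtype.val h)
  refine ⟨‹_›, h2, hzm ▸ (z : R).2, fun a ha => ?_, fun a ha b hb => ?_, hirr, hcard, h4, fun a ha hcomm => ?_⟩
  · rcases hsq ⟨a, ha⟩ with h | h <;> have h' := congrArg Subtype.val h <;>
      simp only [Subgroup.coe_pow, sq, OneMemClass.coe_one, hzm] at h'
    · exact Or.inl h'
    · exact Or.inr h'
  · rcases hcm ⟨a, ha⟩ ⟨b, hb⟩ with h | h <;> have h' := congrArg Subtype.val h <;>
      simp only [Subgroup.coe_mul, Subgroup.coe_inv, OneMemClass.coe_one, hzm, mul_inv_eq_iff_eq_mul, one_mul] at h'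
    · exact Or.inl h'
    · exact Or.inr (by rw [h', neg_mul, neg_mul, one_mul])
  · have hw : (⟨a, ha⟩ : R) ∈ Subgroup.center R :=
      Subgroup.mem_center_iff.2 fun y => Subtype.ext (hcomm y y.2).symm
    refine hcs _ hw ?_
    have h := pow_card_eq_one' (x := (⟨_, hw⟩ : Subgroup.center R))
    rw [hZ, sq] at h
    exact congrArg (fun u : Subgroup.center R => ((u : R) : GL ι F)) h

end CfsgLib.Classical22.C6Plus
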