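/-
Elements of Omega normalising the signed group: products of two transvections of the quadratic space.
-/
import Cfsg.Agent.Lib.Classical22.C6Plus.Basis
import Cfsg.Agent.Lib.Classical22.OrthMaxMatrix
import Cfsg.Agent.Lib.Classical22.OrthSubfieldMatrix
import Cfsg.Agent.Lib.Classical.SpinorCriterion
import Cfsg.Agent.Lib.Techniques.SmallFixedAction

set_option autoImplicit false
set_option maxHeartbeats 1000000

namespace CfsgLib.Classical22.C6Plus

open Matrix CfsgLib.Classical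
open scoped MatrixGroups Classical

variable {ι : Type} [Fintype ι] [DecidableEq ι] {F : Type*} [Field F] [Fintype F]

/-- The group together with the quadratic form it preserves. -/
structure Data (R : Subgroup (GL ι F)) (k : ℕ) (Q : QuadraticForm F (ι → F)) : Prop where
  sign : Sign R k
  nondeg : PolarNondeg Q
  le : R ≤ Cfsg.isometryGroup F ⇑Q

/-- `1 + a`, when invertible. -/
noncomputable def tv (a : GL ι F) : GL ι F := by
  classical exact if h : IsUnit (1 + (a : Matrix ι ι F)) then h.unit else 1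

/-- The product of two transvections, scaled to an isometry. -/
noncomputable def pr (a b : GL ι F) : GL ι F := (tv (-a))⁻¹ * tv b

/-- The transvection of the quadratic space along `a`. -/
noncomputable def T (a r : GL ι F) : GL ι F := if bv r a = 0 then r else a * r

/-- The elements of Omega normalising `R`. -/
noncomputable def NR (R : Subgroup (GL ι F)) (Q : QuadraticForm F (ι → F)) : Subgroup (GL ι F) :=
  Cfsg.Geo.subgroupNormalizer R ⊓ Cfsg.Geo.omegaGL ⇑Q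

lemma mem_iso {Q : QuadraticForm F (ι → F)} {g : GL ι F} :
    g ∈ Cfsg.isometryGroup F ⇑Q ↔ ∀ v, Q ((g : Matrix ι ι F) *ᵥ v) = Q v :=
  ⟨fun h v => h v v, fun h u _ => h u⟩

lemma omega_le {Q : QuadraticForm F (ι → F)} : Cfsg.Geo.omegaGL ⇑Q ≤ Cfsg.isometryGroup F ⇑Q :=
  Subgroup.map_subtype_le _

lemma omega_conj {Q : QuadraticForm F (ι → F)} {g w : GL ι F} (hg : g ∈ Cfsg.isometryGroup F ⇑Q)
    (hw : w ∈ Cfsg.isometryGroup F ⇑Q) : g * w * g⁻¹ * w⁻¹ ∈ Cfsg.Geo.omegaGL ⇑Q := by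
  rw [OrthSubfield.omegaGL_eq_commutator, ← commutatorElement_def]
  exact Subgroup.commutator_mem_commutator hg hw

lemma sq_mem_omega {Q : QuadraticForm F (ι → F)} (hQ : PolarNondeg Q) (hn : 5 ≤ Fintype.card ι) {g : GL ι F}
    (hg : g ∈ Cfsg.isometryGroup F ⇑Q) : g * g ∈ Cfsg.Geo.omegaGL ⇑Q := by
  refine ⟨⟨g, hg⟩ * ⟨g, hg⟩, ?_, rfl⟩
  rw [SetLike.mem_coe, mem_Omega_iff, map_mul]
  exact Spin.sq_mem_commutator Q hQ (Or.inr (by rw [Module.finrank_pi]; omega)) _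

namespace Data

variable {R : Subgroup (GL ι F)} {k : ℕ} {Q : QuadraticForm F (ι → F)} (D : Data R k Q)
include D

lemma two_ne : (2 : F) ≠ 0 := D.sign.two_ne

lemma five_le : 5 ≤ Fintype.card ι := by
  rw [D.sign.card_index]
  exact le_trans (by norm_num) (Nat.pow_le_pow_right (by norm_num : 1 ≤ 2) D.sign.four)

lemma tv_val {a : GL ι F} (ha : a * a = -1) : (tv a : Matrix ι ι F) = 1 + (a : Matrix ι ι F) := by
  have h : IsUnit (1 + (a : Matrix ι ι F)) := by
    have ha' : (a : Matrix ι ι F) * a = -1 := by rw [← Units.val_mul, ha, Units.val_neg, Units.val_one]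
    refine ⟨⟨_, (2 : F)⁻¹ • (1 - (a : Matrix ι ι F)), ?_, ?_⟩, rfl⟩
    · rw [mul_smul_comm, show (1 + (a : Matrix ι ι F)) * (1 - a) = (2 : F) • 1 by
        rw [mul_sub, mul_one, add_mul, one_mul, ha', two_smul]; abel, smul_smul, inv_mul_cancel₀ D.two_ne, one_smul]
    · rw [smul_mul_assoc, show (1 - (a : Matrix ι ι F)) * (1 + a) = (2 : F) • 1 by
        rw [sub_mul, one_mul, mul_add, mul_one, ha', two_smul]; abel, smul_smul, inv_mul_cancel₀ D.two_ne, one_smul]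
  rw [tv, dif_pos h]
  rfl

lemma neg_sq {a : GL ι F} (ha : a * a = -1) : -a * -a = -1 := by rw [neg_mul_neg, ha]

lemma tv_mul_neg {a : GL ι F} (ha : a * a = -1) :
    ((tv a * tv (-a) : GL ι F) : Matrix ι ι F) = (2 : F) • 1 := by
  have ha' : (a : Matrix ι ι F) * a = -1 := by rw [← Units.val_mul, ha, Units.val_neg, Units.val_one]
  rw [Units.val_mul, D.tv_val ha, D.tv_val (D.neg_sq ha), Units.val_neg, ← sub_eq_add_neg, mul_sub, mul_one, add_mul,
    one_mul, ha', two_smul]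
  abel

lemma tv_neg_inv {a : GL ι F} (ha : a * a = -1) :
    (((tv (-a))⁻¹ : GL ι F) : Matrix ι ι F) = (2 : F)⁻¹ • (1 + (a : Matrix ι ι F)) := by
  have h := D.tv_mul_neg ha
  rw [Units.val_mul] at h
  have h2 := congrArg (fun X => (2 : F)⁻¹ • (X * (((tv (-a))⁻¹ : GL ι F) : Matrix ι ι F))) h
  simp only [mul_assoc, Units.mul_inv, mul_one, smul_mul_assoc, one_mul, smul_smul, inv_mul_cancel₀ D.two_ne,
    one_smul] at h2
  rw [← h2, D.tv_val ha]

lemma tv_conj_neg {a : GL ι F} (ha : a * a = -1) (r : GL ι F) :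
    (tv (-a))⁻¹ * r * tv (-a) = tv a * r * (tv a)⁻¹ := by
  have hc : r * (tv (-a) * tv a) = tv (-a) * tv a * r := Units.ext (by
    have h := D.tv_mul_neg (D.neg_sq ha)
    rw [neg_neg] at h
    rw [Units.val_mul, Units.val_mul _ r, h, mul_smul_comm, mul_one, smul_mul_assoc, one_mul])
  calc (tv (-a))⁻¹ * r * tv (-a) = (tv (-a))⁻¹ * (r * (tv (-a) * tv a)) * (tv a)⁻¹ := by group
    _ = (tv (-a))⁻¹ * (tv (-a) * tv a * r) * (tv a)⁻¹ := by rw [hc]
    _ = _ := by group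

lemma T_mem {a r : GL ι F} (ha : a ∈ R) (hr : r ∈ R) : T a r ∈ R := by
  unfold T; split_ifs
  exacts [hr, R.mul_mem ha hr]

lemma T_qv {a r : GL ι F} (ha : a ∈ R) (hr : r ∈ R) (ha1 : qv a = 1) : qv (T a r) = qv r := by
  unfold T; split_ifs with h
  · rfl
  · rw [D.sign.qv_mul ha hr, bv_symm, zmod_ne_zero h, ha1]
    linear_combination two_zmod

/-- Conjugation by `1 + a` is the transvection. -/
lemma tv_conj {a r : GL ι F} (ha : a ∈ R) (ha1 : qv a = 1) (hr : r ∈ R) : tv a * r * (tv a)⁻¹ = T a r := by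
  have haa := (D.sign.qv_eq_one ha).1 ha1
  have hv := D.tv_val haa
  have haa' : (a : Matrix ι ι F) * a = -1 := by rw [← Units.val_mul, haa, Units.val_neg, Units.val_one]
  rw [mul_inv_eq_iff_eq_mul]
  refine Units.ext ?_
  unfold T; split_ifs with h
  · have h' : (r : Matrix ι ι F) * a = (a : Matrix ι ι F) * r := congrArg Units.val (bv_eq_zero.1 h)
    rw [Units.val_mul, Units.val_mul, hv, add_mul, one_mul, mul_add, mul_one, h']
  · have h' : (r : Matrix ι ι F) * a = -((a : Matrix ι ι F) * r) :=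
      congrArg Units.val ((D.sign.bv_eq_one hr ha).1 (zmod_ne_zero h))
    rw [Units.val_mul, Units.val_mul, Units.val_mul, hv, add_mul, one_mul, mul_add, mul_one, mul_assoc (a : Matrix ι ι F), h',
      mul_neg, ← mul_assoc, haa', neg_one_mul, neg_neg, add_comm]

lemma pr_conj {a b r : GL ι F} (ha : a ∈ R) (ha1 : qv a = 1) (hb : b ∈ R) (hb1 : qv b = 1) (hr : r ∈ R) :
    pr a b * r * (pr a b)⁻¹ = T a (T b r) := by
  rw [pr, show (tv (-a))⁻¹ * tv b * r * ((tv (-a))⁻¹ * tv b)⁻¹ = (tv (-a))⁻¹ * (tv b * r * (tv b)⁻¹) * tv (-a) by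
    group, D.tv_conj hb hb1 hr, D.tv_conj_neg ((D.sign.qv_eq_one ha).1 ha1),
    D.tv_conj ha ha1 (D.T_mem hb hr)]

lemma tv_quad {a : GL ι F} (ha : a ∈ R) (haa : a * a = -1) (v : ι → F) : Q ((tv a : Matrix ι ι F) *ᵥ v) = 2 * Q v := by
  have hiso := mem_iso.1 (D.le ha)
  have hp : ∀ u w, QuadraticMap.polar Q ((a : Matrix ι ι F) *ᵥ u) ((a : Matrix ι ι F) *ᵥ w) =
      QuadraticMap.polar Q u w := fun u w => by simp only [QuadraticMap.polar, ← Matrix.mulVec_add, hiso]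
  have h1 := hp v ((a : Matrix ι ι F) *ᵥ v)
  rw [Matrix.mulVec_mulVec, ← Units.val_mul, haa, Units.val_neg, Units.val_one, Matrix.neg_mulVec, Matrix.one_mulVec,
    QuadraticMap.polar_neg_right, QuadraticMap.polar_comm] at h1
  have h0 : QuadraticMap.polar Q v ((a : Matrix ι ι F) *ᵥ v) = 0 := two_smul_eq_zero D.two_ne h1.symm
  rw [D.tv_val haa, Matrix.add_mulVec, Matrix.one_mulVec, QuadraticMap.map_add ⇑Q, h0, hiso]
  ring

lemma pr_iso {a b : GL ι F} (ha : a ∈ R) (ha1 : qv a = 1) (hb : b ∈ R) (hb1 : qv b = 1) :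
    pr a b ∈ Cfsg.isometryGroup F ⇑Q := by
  refine mem_iso.2 fun v => ?_
  have haa := D.neg_sq ((D.sign.qv_eq_one ha).1 ha1)
  have h := D.tv_quad (D.sign.neg_mem ha) haa ((pr a b : Matrix ι ι F) *ᵥ v)
  rw [Matrix.mulVec_mulVec, ← Units.val_mul, show tv (-a) * pr a b = tv b by rw [pr, mul_inv_cancel_left],
    D.tv_quad hb ((D.sign.qv_eq_one hb).1 hb1)] at h
  exact (mul_left_cancel₀ D.two_ne h).symm

lemma pr_cube {a b : GL ι F} (ha : a ∈ R) (ha1 : qv a = 1) (hb : b ∈ R) (hb1 : qv b = 1) (hab : bv a b = 1) :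
    pr a b * pr a b * pr a b = -1 := by
  have haa := (D.sign.qv_eq_one ha).1 ha1
  have hbb := (D.sign.qv_eq_one hb).1 hb1
  have hba : (b : Matrix ι ι F) * a = -((a : Matrix ι ι F) * b) :=
    congrArg Units.val ((D.sign.bv_eq_one hb ha).1 (by rw [bv_symm]; exact hab))
  have haa' : (a : Matrix ι ι F) * a = -1 := by rw [← Units.val_mul, haa, Units.val_neg, Units.val_one]
  have hbb' : (b : Matrix ι ι F) * b = -1 := by rw [← Units.val_mul, hbb, Units.val_neg, Units.val_one]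
  obtain ⟨M, hM⟩ : ∃ M : Matrix ι ι F, M = (1 + (a : Matrix ι ι F)) * (1 + (b : Matrix ι ι F)) := ⟨_, rfl⟩
  have hg : (pr a b : Matrix ι ι F) = (2 : F)⁻¹ • M := by
    rw [pr, Units.val_mul, D.tv_neg_inv haa, D.tv_val hbb, smul_mul_assoc, hM]
  have hba2 : ∀ X : Matrix ι ι F, (b : Matrix ι ι F) * ((a : Matrix ι ι F) * X) = -((a : Matrix ι ι F) * (b * X)) :=
    fun X => by rw [← mul_assoc, hba, neg_mul, mul_assoc]
  have haa2 : ∀ X : Matrix ι ι F, (a : Matrix ι ι F) * ((a : Matrix ι ι F) * X) = -X := fun X => by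
    rw [← mul_assoc, haa', neg_one_mul]
  have hbb2 : ∀ X : Matrix ι ι F, (b : Matrix ι ι F) * ((b : Matrix ι ι F) * X) = -X := fun X => by
    rw [← mul_assoc, hbb', neg_one_mul]
  have hsq : M * M = (2 : F) • M - (4 : F) • 1 := by
    rw [hM]
    simp only [mul_add, add_mul, mul_one, one_mul, mul_assoc, hba, hba2, haa', haa2, hbb', hbb2, mul_neg, neg_neg,
      smul_add]
    simp only [show (4 : F) = 2 + 2 by norm_num, add_smul, two_smul]
    abel
  have hcube : M * M * M = -((8 : F) • (1 : Matrix ι ι F)) := by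
    rw [hsq, sub_mul, smul_mul_assoc, hsq, smul_mul_assoc, one_mul, smul_sub, smul_smul, smul_smul]
    rw [show (2 : F) * 2 = 4 by norm_num, show (2 : F) * 4 = 8 by norm_num]
    abel
  refine Units.ext ?_
  rw [Units.val_mul, Units.val_mul, hg, smul_mul_smul_comm, smul_mul_smul_comm, hcube, Units.val_neg, Units.val_one,
    smul_neg, smul_smul]
  have h8 : (2 : F)⁻¹ * (2 : F)⁻¹ * (2 : F)⁻¹ * 8 = 1 := by
    have := D.two_ne
    field_simp
    norm_num
  rw [h8, one_smul]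

lemma neg_omega : (-1 : GL ι F) ∈ Cfsg.Geo.omegaGL ⇑Q := by
  have S := D.sign
  obtain ⟨s, hs, hs1, -⟩ := S.exists_q R.one_mem R.one_mem R.one_mem R.one_mem 1
  obtain ⟨t, ht, ht1, hts⟩ : ∃ t ∈ R, qv t = 1 ∧ bv t s = 1 := by
    obtain ⟨v, hv, -, hvs⟩ := S.sep [] s hs (fun a ha => absurd ha List.not_mem_nil)
      ⟨fun e => by rw [e, qv_one] at hs1; exact zero_ne_one hs1,
        fun e => by rw [e, qv_neg, qv_one] at hs1; exact zero_ne_one hs1⟩
    obtain ⟨t, ht, ht1, hts, -⟩ := S.exists_q hs R.one_mem R.one_mem hv 1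
    exact ⟨t, ht, ht1, hts.trans hvs⟩
  obtain ⟨g, hg⟩ : ∃ g, g = pr s t := ⟨_, rfl⟩
  have hc := omega_conj (Q := Q) (hg ▸ D.pr_iso hs hs1 ht ht1) (D.le hs)
  rw [hg, D.pr_conj hs hs1 ht ht1 hs] at hc
  have e1 : T t s = t * s := by unfold T; rw [if_neg (by rw [bv_symm, hts]; decide)]
  have hts' : bv (t * s) s = 1 := by rw [S.bv_mul ht hs hs, hts, bv_self, add_zero]
  have e2 : T s (t * s) = s * (t * s) := by unfold T; rw [if_neg (by rw [hts']; decide)]
  rw [e1, e2, show s * (t * s) * s⁻¹ = s * t by group] at hc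
  have hst : qv (s * t) = 1 := by rw [S.qv_mul hs ht, hs1, ht1, bv_symm, hts]; decide
  have := (Cfsg.Geo.omegaGL ⇑Q).mul_mem hc hc
  rwa [(S.qv_eq_one (R.mul_mem hs ht)).1 hst] at this

lemma pr_omega_anti {a b : GL ι F} (ha : a ∈ R) (ha1 : qv a = 1) (hb : b ∈ R) (hb1 : qv b = 1) (hab : bv a b = 1) :
    pr a b ∈ Cfsg.Geo.omegaGL ⇑Q := by
  obtain ⟨g, hg⟩ : ∃ g, g = pr a b := ⟨_, rfl⟩
  have h := D.pr_cube ha ha1 hb hb1 hab
  rw [← hg] at h ⊢
  have hgi : g ∈ Cfsg.isometryGroup F ⇑Q := hg ▸ D.pr_iso ha ha1 hb hb1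
  have e : g = -1 * (g * g * (g * g)) := by
    calc g = -1 * (g * g * g) * g := by rw [h, neg_mul_neg, one_mul, one_mul]
      _ = -1 * (g * g * (g * g)) := by group
  rw [e]
  have hsq := sq_mem_omega D.nondeg D.five_le hgi
  exact mul_mem D.neg_omega (mul_mem hsq hsq)

/-- An element with prescribed square anticommuting with two given elements, commuting with a third. -/
lemma exists_anti {s t z : GL ι F} (hs : s ∈ R) (ht : t ∈ R) (hz : z ∈ R) (hs0 : s ≠ 1 ∧ s ≠ -1)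
    (ht0 : t ≠ 1 ∧ t ≠ -1) (hzs : z ≠ s ∧ z ≠ -s) (hzt : z ≠ t ∧ z ≠ -t) (c : ZMod 2) :
    ∃ u ∈ R, qv u = c ∧ bv u s = 1 ∧ bv u t = 1 ∧ bv u z = 0 := by
  have S := D.sign
  have hmul : ∀ {x y : GL ι F}, x ∈ R → y ∈ R → y ≠ x → y ≠ -x → x * y ≠ 1 ∧ x * y ≠ -1 := by
    intro x y hx hy h1 h2
    constructor <;> intro e <;> rcases S.inv_eq hx with hi | hi
    · exact h1 (by rw [← hi]; exact eq_inv_of_mul_eq_one_right e)
    · exact h2 (by rw [← hi]; exact eq_inv_of_mul_eq_one_right e)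
    · refine h2 ?_
      rw [eq_inv_mul_iff_mul_eq.mpr e, mul_neg_one, hi]
    · refine h1 ?_
      rw [eq_inv_mul_iff_mul_eq.mpr e, mul_neg_one, hi, neg_neg]
  have hpm : ∀ {x y : GL ι F}, y = x ∨ y = -x → (x ≠ 1 ∧ x ≠ -1) → y ≠ 1 ∧ y ≠ -1 := by
    rintro x y (rfl | rfl) ⟨h1, h2⟩
    · exact ⟨h1, h2⟩
    · exact ⟨fun e => h2 (neg_eq_iff_eq_neg.1 e), fun e => h1 (neg_inj.1 e)⟩
  have hsst : s * (s * t) = t ∨ s * (s * t) = -t := by
    rcases S.sq s hs with e | e <;> rw [← mul_assoc, e]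
    exacts [Or.inl (one_mul _), Or.inr (neg_one_mul _)]
  obtain ⟨v, hv, hvl, hvs⟩ := S.sep [z, s * t] s hs (by
      simp only [List.mem_cons, List.not_mem_nil, or_false, forall_eq_or_imp, forall_eq]
      exact ⟨hz, R.mul_mem hs ht⟩)
    ⟨⟨hs0, hpm hsst ht0⟩, hmul hs hz hzs.1 hzs.2, by
      rcases S.comm z hz s hs with e | e
      · refine hpm (x := z * t) ?_ (hmul hz ht (Ne.symm hzt.1) fun e' => hzt.2 (by rw [e', neg_neg]))
        rw [← mul_assoc, ← e, mul_assoc z s s]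
        rcases S.sq s hs with e' | e' <;> rw [e']
        exacts [Or.inl (by rw [mul_one]), Or.inr (by rw [mul_neg_one, neg_mul])]
      · refine hpm (x := z * t) ?_ (hmul hz ht (Ne.symm hzt.1) fun e' => hzt.2 (by rw [e', neg_neg]))
        rw [← mul_assoc, show s * z = -(z * s) by rw [e, neg_neg], neg_mul, mul_assoc z s s]
        rcases S.sq s hs with e' | e' <;> rw [e']
        exacts [Or.inr (by rw [mul_one, neg_mul]), Or.inl (by rw [mul_neg_one, neg_neg])]⟩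
  have hz0 : bv v z = 0 := hvl z (by simp)
  have hst0 : bv v (s * t) = 0 := hvl (s * t) (by simp)
  rw [S.bv_mul' hs ht hv, hvs] at hst0
  obtain ⟨u, hu, hu1, e1, e2, e3⟩ := S.exists_q hs ht hz hv c
  refine ⟨u, hu, hu1, e1.trans hvs, e2.trans ?_, e3.trans hz0⟩
  rcases S.bv_cases v t with h | h
  · rw [h] at hst0; exact absurd hst0 (by decide)
  · exact h

lemma ne_pm {a : GL ι F} (ha1 : qv a = 1) : a ≠ 1 ∧ a ≠ -1 :=
  ⟨fun e => by rw [e, qv_one] at ha1; exact zero_ne_one ha1,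
    fun e => by rw [e, qv_neg, qv_one] at ha1; exact zero_ne_one ha1⟩

lemma pr_omega {a b : GL ι F} (ha : a ∈ R) (ha1 : qv a = 1) (hb : b ∈ R) (hb1 : qv b = 1) :
    pr a b ∈ Cfsg.Geo.omegaGL ⇑Q := by
  have S := D.sign
  obtain ⟨u, hu, hu1, hua, hub, -⟩ := D.exists_anti ha hb R.one_mem (D.ne_pm ha1) (D.ne_pm hb1)
    ⟨(D.ne_pm ha1).1.symm, fun e => (D.ne_pm ha1).2 (by rw [e, neg_neg])⟩
    ⟨(D.ne_pm hb1).1.symm, fun e => (D.ne_pm hb1).2 (by rw [e, neg_neg])⟩ 1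
  have e : pr a b = pr a u * pr (-u) b := by
    rw [pr, pr, pr, neg_neg]; group
  rw [e]
  exact mul_mem (D.pr_omega_anti ha ha1 hu hu1 (by rw [bv_symm]; exact hua))
    (D.pr_omega_anti (S.neg_mem hu) (by rw [qv_neg]; exact hu1) hb hb1 (by rw [bv_neg]; exact hub))

lemma pr_mem {a b : GL ι F} (ha : a ∈ R) (ha1 : qv a = 1) (hb : b ∈ R) (hb1 : qv b = 1) : pr a b ∈ NR R Q := by
  refine ⟨?_, D.pr_omega ha ha1 hb hb1⟩
  exact CfsgLib.Solvable.mem_normalizer_of_conj_mem (fun r hr => by rw [D.pr_conj ha ha1 hb hb1 hr]; exact D.T_mem ha (D.T_mem hb hr))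

/-- The group lies in Omega. -/
lemma le_omega : R ≤ Cfsg.Geo.omegaGL ⇑Q := by
  have S := D.sign
  have hnon : ∀ w ∈ R, qv w = 1 → w ∈ Cfsg.Geo.omegaGL ⇑Q := by
    intro w hw hw1
    have h := D.pr_omega hw hw1 hw hw1
    have hww := (S.qv_eq_one hw).1 hw1
    have e : pr w w = w := Units.ext (by
      rw [pr, Units.val_mul, D.tv_neg_inv hww, D.tv_val hww, smul_mul_assoc]
      rw [show (1 + (w : Matrix ι ι F)) * (1 + w) = (2 : F) • (w : Matrix ι ι F) by
        rw [mul_add, mul_one, add_mul, one_mul, show (w : Matrix ι ι F) * w = -1 by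
          rw [← Units.val_mul, hww, Units.val_neg, Units.val_one], two_smul]; abel]
      rw [smul_smul, inv_mul_cancel₀ D.two_ne, one_smul])
    rwa [e] at h
  intro w hw
  by_cases hw1 : qv w = 1
  · exact hnon w hw hw1
  have hw0 : qv w = 0 := by
    revert hw1; generalize qv w = t; revert t; decide
  obtain ⟨s, hs, hs1, hsw, -⟩ := S.exists_q hw R.one_mem R.one_mem R.one_mem 1
  rw [S.bv_one] at hsw
  have h1 := hnon _ (R.mul_mem hs hw) (by rw [S.qv_mul hs hw, hs1, hw0, hsw]; decide)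
  have h2 := mul_mem (inv_mem (hnon s hs hs1)) h1
  rwa [inv_mul_cancel_left] at h2

lemma le_NR : R ≤ NR R Q := fun _ hr => ⟨Subgroup.le_normalizer hr, D.le_omega hr⟩

/-- Transitivity on elements of given square, fixing a further element. -/
lemma exists_move {s t z : GL ι F} (hs : s ∈ R) (ht : t ∈ R) (hz : z ∈ R) (hs0 : s ≠ 1 ∧ s ≠ -1)
    (ht0 : t ≠ 1 ∧ t ≠ -1) (hq : qv s = qv t) (hzs : z ≠ s ∧ z ≠ -s) (hzt : z ≠ t ∧ z ≠ -t)
    (hs' : bv z s = 0) (ht' : bv z t = 0) :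
    ∃ g ∈ NR R Q, (g * s * g⁻¹ = t ∨ g * s * g⁻¹ = -t) ∧ g * z * g⁻¹ = z := by
  have S := D.sign
  have T0 : ∀ a r : GL ι F, bv r a = 0 → T a r = r := fun a r h => by unfold T; rw [if_pos h]
  have T1 : ∀ a r : GL ι F, bv r a = 1 → T a r = a * r := fun a r h => by
    unfold T; rw [if_neg (by rw [h]; decide)]
  have hinv : ∀ {a b : GL ι F}, a ∈ R → b ∈ R → (a * b * a = b ∨ a * b * a = -b) := by
    intro a b ha hb
    rcases S.comm a ha b hb with e | e <;> rcases S.sq a ha with e' | e' <;> rw [e]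
    · left; rw [mul_assoc, e', mul_one]
    · right; rw [mul_assoc, e', mul_neg_one]
    · right; rw [neg_mul, mul_assoc, e', mul_one]
    · left; rw [neg_mul, mul_assoc, e', mul_neg_one, neg_neg]
  rcases S.bv_cases s t with hst | hst
  · obtain ⟨u, hu, hu1, hus, hut, huz⟩ := D.exists_anti hs ht hz hs0 ht0 hzs hzt (qv s)
    have hsu1 : qv (s * u) = 1 := by rw [S.qv_mul hs hu, hu1, bv_symm, hus, zmod_self, zero_add]
    have hut1 : qv (u * t) = 1 := by rw [S.qv_mul hu ht, hu1, hut, ← hq, zmod_self, zero_add]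
    refine ⟨pr (u * t) (s * u), D.pr_mem (R.mul_mem hu ht) hut1 (R.mul_mem hs hu) hsu1, ?_, ?_⟩
    · rw [D.pr_conj (R.mul_mem hu ht) hut1 (R.mul_mem hs hu) hsu1 hs,
        T1 (s * u) s (by rw [S.bv_mul' hs hu hs, bv_self, zero_add, bv_symm, hus])]
      rcases hinv hs hu with e | e <;> rw [e]
      · rw [T1 _ _ (by rw [S.bv_mul' hu ht hu, bv_self, zero_add, hut])]
        exact hinv hu ht
      · rw [T1 _ _ (by rw [bv_neg, S.bv_mul' hu ht hu, bv_self, zero_add, hut]), mul_neg]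
        rcases hinv hu ht with e' | e' <;> rw [e']
        exacts [Or.inr rfl, Or.inl (neg_neg _)]
    · rw [D.pr_conj (R.mul_mem hu ht) hut1 (R.mul_mem hs hu) hsu1 hz,
        T0 _ z (by rw [S.bv_mul' hs hu hz, hs', zero_add, bv_symm, huz]),
        T0 _ z (by rw [S.bv_mul' hu ht hz, ht', add_zero, bv_symm, huz])]
  · have hc1 : qv (t * s) = 1 := by
      rw [S.qv_mul ht hs, hq, bv_symm, hst, zmod_self, zero_add]
    obtain ⟨w, hw, hw1, hwt, hwz, -⟩ := S.exists_q ht hz R.one_mem R.one_mem 1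
    rw [S.bv_one] at hwt hwz
    refine ⟨pr w (t * s), D.pr_mem hw hw1 (R.mul_mem ht hs) hc1, ?_, ?_⟩
    · rw [D.pr_conj hw hw1 (R.mul_mem ht hs) hc1 hs, T1 (t * s) s (by rw [S.bv_mul' ht hs hs, hst, bv_self, add_zero])]
      rcases S.sq s hs with e | e <;> rw [mul_assoc, e]
      · rw [mul_one, T0 w t (by rw [bv_symm, hwt])]; exact Or.inl rfl
      · rw [mul_neg_one, T0 w (-t) (by rw [bv_neg, bv_symm, hwt])]; exact Or.inr rfl
    · rw [D.pr_conj hw hw1 (R.mul_mem ht hs) hc1 hz, T0 (t * s) z (by rw [S.bv_mul' ht hs hz, ht', hs', add_zero]),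
        T0 w z (by rw [bv_symm, hwz])]

/-- Transitivity on the non-trivial elements with the same square. -/
lemma exists_move' {s t : GL ι F} (hs : s ∈ R) (ht : t ∈ R) (hs0 : s ≠ 1 ∧ s ≠ -1) (ht0 : t ≠ 1 ∧ t ≠ -1)
    (hq : qv s = qv t) : ∃ g ∈ NR R Q, g * s * g⁻¹ = t ∨ g * s * g⁻¹ = -t := by
  have S := D.sign
  obtain ⟨g, hg, h, -⟩ := D.exists_move hs ht R.one_mem hs0 ht0 hq
    ⟨hs0.1.symm, fun e => hs0.2 (by rw [e, neg_neg])⟩ ⟨ht0.1.symm, fun e => ht0.2 (by rw [e, neg_neg])⟩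
    (S.bv_one _) (S.bv_one _)
  exact ⟨g, hg, h⟩

end Data

end CfsgLib.Classical22.C6Plus
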