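/-
The centraliser of a square root of minus one in an overgroup: it normalises the centraliser in the group, or
contains the whole derived unitary or linear group.
-/
import Cfsg.Agent.Lib.Classical22.C6Plus.Gens
import Cfsg.Agent.Lib.Classical22.C6Four.Maximal
import Cfsg.Agent.Lib.Classical22.C6Four.Gen

set_option autoImplicit false
set_option maxHeartbeats 1000000

namespace CfsgLib.Classical22.C6Plus

open Matrix CfsgLib.Classical CfsgLib.Classical22.C6Four
open scoped MatrixGroups Classical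

variable {ι : Type} [Fintype ι] [DecidableEq ι] {F : Type*} [Field F] [Fintype F] {K : Type*} [Field K] [Fintype K]
  {d : ℕ}

/-- Coordinates for the isometries commuting with `a`. -/
structure Half (Q : QuadraticForm F (ι → F)) (a : GL ι F) (e : F →+* K) (Φ : Matrix ι ι F → Matrix (Fin d) (Fin d) K)
    (i : K) (σ : K →+* K) (f : (Fin d → K) → (Fin d → K) → K) : Prop where
  map_add : ∀ X Y : Matrix ι ι F, X * a = a * X → Y * a = a * Y → Φ (X + Y) = Φ X + Φ Y
  map_smul : ∀ (c : F) (X : Matrix ι ι F), X * a = a * X → Φ (c • X) = e c • Φ X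
  map_mul : ∀ X Y : Matrix ι ι F, X * a = a * X → Y * a = a * Y → Φ (X * Y) = Φ X * Φ Y
  map_one : Φ 1 = 1
  map_a : Φ (a : Matrix ι ι F) = i • 1
  sqi : i * i = -1
  surj : ∀ M, ∃ X : Matrix ι ι F, X * a = a * X ∧ Φ X = M
  inj : ∀ g : GL ι F, g ∈ Cfsg.isometryGroup F ⇑Q → g * a = a * g → Φ g = 1 → g = 1
  form : Form (⊥ : Subgroup (GL (Fin d) K)) i σ f
  std : Std f
  iso : ∀ g : GL ι F, g ∈ Cfsg.isometryGroup F ⇑Q → g * a = a * g →
    ∀ u v, f (Φ g *ᵥ u) (Φ g *ᵥ v) = f u v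
  lift : ∀ A : GL (Fin d) K, (∀ u v, f ((A : Matrix (Fin d) (Fin d) K) *ᵥ u) ((A : Matrix (Fin d) (Fin d) K) *ᵥ v) = f u v) →
    ∃ g : GL ι F, g ∈ Cfsg.isometryGroup F ⇑Q ∧ g * a = a * g ∧ Φ g = A

namespace Half

variable {Q : QuadraticForm F (ι → F)} {a : GL ι F} {e : F →+* K} {Φ : Matrix ι ι F → Matrix (Fin d) (Fin d) K}
  {i : K} {σ : K →+* K} {f : (Fin d → K) → (Fin d → K) → K} (Hf : Half Q a e Φ i σ f)
include Hf

omit [Fintype F] [Fintype K] Hf in
lemma comm_val {g : GL ι F} (h : g * a = a * g) : (g : Matrix ι ι F) * a = a * (g : Matrix ι ι F) :=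
  congrArg Units.val h

omit [Fintype F] [Fintype K] in
lemma exists_pi {g : GL ι F} (h : g * a = a * g) : ∃ A : GL (Fin d) K, (A : Matrix (Fin d) (Fin d) K) = Φ g := by
  have h' : g⁻¹ * a = a * g⁻¹ := (inv_mul_eq_iff_eq_mul.2 (by rw [← mul_assoc, h, mul_inv_cancel_right]))
  exact ⟨⟨Φ g, Φ ((g⁻¹ : GL ι F) : Matrix ι ι F),
    by rw [← Hf.map_mul _ _ (comm_val h) (comm_val h'), ← Units.val_mul, mul_inv_cancel, Units.val_one, Hf.map_one],
    by rw [← Hf.map_mul _ _ (comm_val h') (comm_val h), ← Units.val_mul, inv_mul_cancel, Units.val_one, Hf.map_one]⟩,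
    rfl⟩

omit [Fintype F] [Fintype K] in
lemma exists_img (H : Subgroup (GL ι F)) : ∃ P : Subgroup (GL (Fin d) K), ∀ A, A ∈ P ↔
    ∃ g ∈ H, g * a = a * g ∧ g ∈ Cfsg.isometryGroup F ⇑Q ∧ (A : Matrix (Fin d) (Fin d) K) = Φ g := by
  refine ⟨{ carrier := {A | ∃ g ∈ H, g * a = a * g ∧ g ∈ Cfsg.isometryGroup F ⇑Q ∧
                (A : Matrix (Fin d) (Fin d) K) = Φ g}
            one_mem' := ⟨1, H.one_mem, by rw [one_mul, mul_one], one_mem _, by
              rw [Units.val_one, Units.val_one, Hf.map_one]⟩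
            mul_mem' := ?_
            inv_mem' := ?_ }, fun A => Iff.rfl⟩
  · rintro A B ⟨g, hg, hga, hgi, hA⟩ ⟨h, hh, hha, hhi, hB⟩
    refine ⟨g * h, H.mul_mem hg hh, by rw [mul_assoc, hha, ← mul_assoc, hga, mul_assoc], mul_mem hgi hhi, ?_⟩
    rw [Units.val_mul, Units.val_mul, hA, hB, Hf.map_mul _ _ (comm_val hga) (comm_val hha)]
  · rintro A ⟨g, hg, hga, hgi, hA⟩
    have hga' : g⁻¹ * a = a * g⁻¹ := (inv_mul_eq_iff_eq_mul.2 (by rw [← mul_assoc, hga, mul_inv_cancel_right]))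
    refine ⟨g⁻¹, H.inv_mem hg, hga', inv_mem hgi, ?_⟩
    obtain ⟨B, hB⟩ := Hf.exists_pi hga'
    have : A * B = 1 := Units.ext (by
      rw [Units.val_mul, hA, hB, ← Hf.map_mul _ _ (comm_val hga) (comm_val hga'), ← Units.val_mul, mul_inv_cancel,
        Units.val_one, Units.val_one, Hf.map_one])
    rw [inv_eq_of_mul_eq_one_right this, hB]

omit [Fintype F] [Fintype K] in
lemma phi_neg : Φ ((-1 : GL ι F) : Matrix ι ι F) = -1 := by
  rw [Units.val_neg, Units.val_one, ← neg_one_smul F (1 : Matrix ι ι F), Hf.map_smul _ _ (by rw [one_mul, mul_one]),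
    Hf.map_one, _root_.map_neg, _root_.map_one, neg_one_smul]

omit [Fintype F] [Fintype K] in
lemma phi_inj {g h : GL ι F} (hg : g ∈ Cfsg.isometryGroup F ⇑Q) (hh : h ∈ Cfsg.isometryGroup F ⇑Q)
    (hga : g * a = a * g) (hha : h * a = a * h) (he : Φ g = Φ h) : g = h := by
  have hhi : h⁻¹ * a = a * h⁻¹ := inv_mul_eq_iff_eq_mul.2 (by rw [← mul_assoc, hha, mul_inv_cancel_right])
  have hc : h⁻¹ * g * a = a * (h⁻¹ * g) := by rw [mul_assoc, hga, ← mul_assoc, hhi, mul_assoc]
  refine (inv_mul_eq_one.1 (Hf.inj _ (mul_mem (inv_mem hh) hg) hc ?_)).symm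
  rw [Units.val_mul, Hf.map_mul _ _ (comm_val hhi) (comm_val hga), he, ← Hf.map_mul _ _ (comm_val hhi) (comm_val hha),
    ← Units.val_mul, inv_mul_cancel, Units.val_one, Hf.map_one]

variable {R : Subgroup (GL ι F)} {k : ℕ} (D : Data R k Q) (ha : a ∈ R) (haa : a * a = -1)
include D ha haa

omit [Fintype K] in
/-- The image of the centraliser in the group has the shape of the smaller group. -/
lemma sign4 {R' : Subgroup (GL (Fin d) K)} (hR' : ∀ A, A ∈ R' ↔
    ∃ g ∈ R, g * a = a * g ∧ g ∈ Cfsg.isometryGroup F ⇑Q ∧ (A : Matrix (Fin d) (Fin d) K) = Φ g) :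
    Sign4 R' (k - 1) i ∧ Form R' i σ f := by
  classical
  have S := D.sign
  haveI := S.nonempty
  have he2 : (2 : K) ≠ 0 := by
    rw [← map_ofNat e 2]
    exact (_root_.map_ne_zero e).2 D.two_ne
  have hi0 : i ≠ 0 := fun h => by
    have h1 := Hf.sqi
    rw [h, mul_zero, eq_comm, neg_eq_zero] at h1
    exact one_ne_zero h1
  have haC : a * a = a * a := rfl
  -- the matrices of the centraliser span
  have hspan : ∀ M : Matrix (Fin d) (Fin d) K,
      M ∈ Submodule.span K ((fun A : GL (Fin d) K => (A : Matrix (Fin d) (Fin d) K)) '' (R' : Set (GL (Fin d) K))) := by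
    intro M
    obtain ⟨X, hX, rfl⟩ := Hf.surj M
    obtain ⟨T, c, hsum, hT, hsign⟩ := S.exists_expansion X
    have hcomm : ∀ u ∈ T, (u : Matrix ι ι F) * a = a * (u : Matrix ι ι F) := fun u hu => by
      have h := hsign a ha 1 (by rw [one_smul, hX]) u hu
      rw [one_smul] at h
      exact h.symm
    have key : ∀ T' : Finset (GL ι F), T' ⊆ T →
        (∑ u ∈ T', c u • (u : Matrix ι ι F)) * a = a * ∑ u ∈ T', c u • (u : Matrix ι ι F) ∧
        Φ (∑ u ∈ T', c u • (u : Matrix ι ι F)) ∈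
          Submodule.span K ((fun A : GL (Fin d) K => (A : Matrix (Fin d) (Fin d) K)) '' (R' : Set (GL (Fin d) K))) := by
      intro T'
      induction T' using Finset.induction_on with
      | empty =>
        intro _
        refine ⟨by simp, ?_⟩
        have h0 := Hf.map_smul 0 1 (by rw [one_mul, mul_one])
        rw [zero_smul, _root_.map_zero, zero_smul] at h0
        rw [Finset.sum_empty, h0]
        exact Submodule.zero_mem _
      | insert u T' hu ih =>
        intro hsub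
        obtain ⟨h1, h2⟩ := ih fun x hx => hsub (Finset.mem_insert_of_mem hx)
        have huT := hsub (Finset.mem_insert_self u T')
        have hua := hcomm u huT
        have hua' : c u • (u : Matrix ι ι F) * a = a * c u • (u : Matrix ι ι F) := by
          rw [smul_mul_assoc, hua, mul_smul_comm]
        rw [Finset.sum_insert hu]
        refine ⟨by rw [add_mul, mul_add, hua', h1], ?_⟩
        rw [Hf.map_add _ _ hua' h1, Hf.map_smul _ _ hua]
        refine Submodule.add_mem _ (Submodule.smul_mem _ _ ?_) h2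
        obtain ⟨A, hA⟩ := Hf.exists_pi (g := u) (Units.ext hua)
        exact Submodule.subset_span ⟨A, (hR' A).2 ⟨u, (hT u huT).1, Units.ext hua, D.le (hT u huT).1, hA⟩, hA⟩
    rw [hsum]
    exact (key T subset_rfl).2
  obtain ⟨v, hv, -, hva⟩ := S.sep [] a ha (fun x hx => absurd hx List.not_mem_nil) (D.ne_pm ((S.qv_eq_one ha).2 haa))
  obtain ⟨Rc, hRc⟩ : ∃ Rc : Subgroup (GL ι F), ∀ g, g ∈ Rc ↔ g ∈ R ∧ g * a = a * g :=
    ⟨R ⊓ Subgroup.centralizer {a}, fun g => by rw [Subgroup.mem_inf, Subgroup.mem_centralizer_singleton_iff]⟩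
  have hRcR : Rc ≤ R := fun g hg => ((hRc g).1 hg).1
  have hcard : Nat.card R' = 2 ^ (2 * k) := by
    obtain ⟨φ, hφ⟩ : ∃ φ : R →* Multiplicative (ZMod 2), ∀ r : R, φ r = Multiplicative.ofAdd (bv (r : GL ι F) a) :=
      ⟨{ toFun := fun r => Multiplicative.ofAdd (bv (r : GL ι F) a)
         map_one' := by simp [S.bv_one]
         map_mul' := fun x y => by simp [S.bv_mul x.2 y.2 ha, ← ofAdd_add] }, fun r => rfl⟩
    have hker : φ.ker.map R.subtype = Rc := by
      ext g
      rw [hRc]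
      constructor
      · rintro ⟨x, hx, rfl⟩
        rw [SetLike.mem_coe, MonoidHom.mem_ker, hφ] at hx
        exact ⟨x.2, bv_eq_zero.1 (by simpa using congrArg Multiplicative.toAdd hx)⟩
      · rintro ⟨hg, hga⟩
        exact ⟨⟨g, hg⟩, by rw [SetLike.mem_coe, MonoidHom.mem_ker, hφ]; simp [bv_eq_zero.2 hga], rfl⟩
    have hsurj : Function.Surjective φ := fun t => by
      obtain ⟨u, rfl⟩ := Multiplicative.ofAdd.surjective t
      rcases S.bv_cases (1 : GL ι F) a with - | -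
      · by_cases hu : u = 0
        · exact ⟨1, by rw [hu, _root_.map_one]; rfl⟩
        · exact ⟨⟨v, hv⟩, by rw [hφ, hva, zmod_ne_zero hu]⟩
      · by_cases hu : u = 0
        · exact ⟨1, by rw [hu, _root_.map_one]; rfl⟩
        · exact ⟨⟨v, hv⟩, by rw [hφ, hva, zmod_ne_zero hu]⟩
    have h1 : Nat.card Rc * 2 = Nat.card R := by
      rw [← hker, ← Nat.card_congr (φ.ker.equivMapOfInjective R.subtype R.subtype_injective).toEquiv,
        ← Subgroup.card_mul_index φ.ker, Subgroup.index_ker, MonoidHom.range_eq_top.2 hsurj, Subgroup.card_top]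
      simp [Nat.card_eq_fintype_card]
    have hall : ∀ g : Rc, ∃ A : R', ((A : GL (Fin d) K) : Matrix (Fin d) (Fin d) K) = Φ (g : GL ι F) := fun g => by
      obtain ⟨A, hA⟩ := Hf.exists_pi ((hRc g).1 g.2).2
      exact ⟨⟨A, (hR' A).2 ⟨g, hRcR g.2, ((hRc g).1 g.2).2, D.le (hRcR g.2), hA⟩⟩, hA⟩
    choose ψ hψ using hall
    have h2 : Nat.card Rc = Nat.card R' := by
      refine Nat.card_eq_of_bijective ψ ⟨fun g h he => Subtype.ext ?_, fun A => ?_⟩
      · exact Hf.phi_inj (D.le (hRcR g.2)) (D.le (hRcR h.2)) ((hRc g).1 g.2).2 ((hRc h).1 h.2).2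
          (by rw [← hψ, ← hψ, he])
      · obtain ⟨g, hg, hga, -, hA⟩ := (hR' A).1 A.2
        exact ⟨⟨g, (hRc g).2 ⟨hg, hga⟩⟩, Subtype.ext (Units.ext (by rw [hψ, hA]))⟩
    rw [S.card, h2, show 1 + 2 * k = 2 * k + 1 by ring, pow_succ] at h1
    omega
  have h4 := S.four
  have hd : 0 < d := by
    rcases Nat.eq_zero_or_pos d with h0 | h0
    swap
    · exact h0
    subst h0
    haveI : Subsingleton (Matrix (Fin 0) (Fin 0) K) := ⟨fun x y => Matrix.ext fun i => i.elim0⟩
    exact absurd (Hf.inj _ (D.le ha) rfl (Subsingleton.elim _ _)) (D.ne_pm ((S.qv_eq_one ha).2 haa)).1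
  refine ⟨⟨⟨⟨0, hd⟩⟩, he2, Hf.sqi, (hR' _).2 ⟨a, ha, rfl, D.le ha, by rw [scl_val hi0, Hf.map_a]⟩, ?_, ?_, ⟨?_, ?_⟩,
    ?_, ?_⟩, ?_⟩
  · intro A hA
    obtain ⟨g, hg, hga, -, hAg⟩ := (hR' A).1 hA
    rcases S.sq g hg with h | h
    · left
      refine Units.ext ?_
      rw [Units.val_mul, hAg, ← Hf.map_mul _ _ (comm_val hga) (comm_val hga), ← Units.val_mul, h, Units.val_one,
        Units.val_one, Hf.map_one]
    · right
      refine Units.ext ?_
      rw [Units.val_mul, hAg, ← Hf.map_mul _ _ (comm_val hga) (comm_val hga), ← Units.val_mul, h, Hf.phi_neg,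
        Units.val_neg, Units.val_one]
  · intro A hA B hB
    obtain ⟨g, hg, hga, -, hAg⟩ := (hR' A).1 hA
    obtain ⟨h, hh, hha, -, hBh⟩ := (hR' B).1 hB
    rcases S.comm g hg h hh with e' | e'
    · left
      refine Units.ext ?_
      rw [Units.val_mul, Units.val_mul, hAg, hBh, ← Hf.map_mul _ _ (comm_val hga) (comm_val hha),
        ← Hf.map_mul _ _ (comm_val hha) (comm_val hga), ← Units.val_mul, ← Units.val_mul, e']
    · right
      refine Units.ext ?_
      have hhg : h * g * a = a * (h * g) := by rw [mul_assoc, hga, ← mul_assoc, hha, mul_assoc]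
      rw [Units.val_neg, Units.val_mul, Units.val_mul, hAg, hBh, ← Hf.map_mul _ _ (comm_val hga) (comm_val hha),
        ← Hf.map_mul _ _ (comm_val hha) (comm_val hga), ← Units.val_mul, ← Units.val_mul, e', Units.val_neg,
        ← neg_one_smul F ((h * g : GL ι F) : Matrix ι ι F), Hf.map_smul _ _ (comm_val hhg), _root_.map_neg,
        _root_.map_one, neg_one_smul]
  · intro W hW
    by_cases hW0 : W = ⊥
    · exact Or.inl hW0
    right
    obtain ⟨w, hw, hw0⟩ := Submodule.exists_mem_ne_zero_of_ne_bot hW0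
    have hall : ∀ M : Matrix (Fin d) (Fin d) K, M *ᵥ w ∈ W := fun M => by
      induction hspan M using Submodule.span_induction with
      | mem X hX =>
        obtain ⟨A, hA, rfl⟩ := hX
        have h := hW _ ⟨A, hA, rfl⟩ (Submodule.mem_map_of_mem hw)
        rwa [Matrix.toLin'_apply] at h
      | zero => rw [Matrix.zero_mulVec]; exact W.zero_mem
      | add X Y _ _ hX hY => rw [Matrix.add_mulVec]; exact W.add_mem hX hY
      | smul c X _ hX => rw [Matrix.smul_mulVec]; exact W.smul_mem c hX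
    obtain ⟨j, hj⟩ : ∃ j, w j ≠ 0 := by
      by_contra hc
      push Not at hc
      exact hw0 (funext hc)
    refine eq_top_iff.2 fun u _ => ?_
    have h := hall (Matrix.of fun p q => if q = j then u p * (w j)⁻¹ else 0)
    convert h using 1
    funext p
    simp [Matrix.mulVec, dotProduct, hj]
  · intro M hM
    have hall : ∀ X : Matrix (Fin d) (Fin d) K, Commute X M := fun X => by
      induction hspan X using Submodule.span_induction with
      | mem Y hY => obtain ⟨A, hA, rfl⟩ := hY; exact (hM _ ⟨A, hA, rfl⟩).symm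
      | zero => exact Commute.zero_left M
      | add X Y _ _ hX hY => exact hX.add_left hY
      | smul c X _ hX => exact hX.smul_left c
    refine ⟨M ⟨0, hd⟩ ⟨0, hd⟩, Matrix.ext fun p q => ?_⟩
    have h := congrFun (congrFun (hall (Matrix.single ⟨0, hd⟩ p 1)).eq ⟨0, hd⟩) q
    rw [Matrix.single_mul_apply_same] at h
    rcases eq_or_ne q p with rfl | hne
    · rw [Matrix.mul_single_apply_same, one_mul, mul_one] at h
      simp [h]
    · rw [Matrix.mul_single_apply_of_ne (hbj := hne), one_mul] at h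
      simp [h, Ne.symm hne]
  · rw [hcard]; congr 1; omega
  · omega
  · exact ⟨Hf.form.add_left, Hf.form.add_right, Hf.form.smul_left, Hf.form.smul_right, fun A hA u v => by
      obtain ⟨g, -, hga, hgi, hAg⟩ := (hR' A).1 hA
      rw [hAg]; exact Hf.iso g hgi hga u v, Hf.form.unit⟩

/-- A scaled transvection comes from the normaliser, up to a scalar. -/
lemma tA_lift {R' : Subgroup (GL (Fin d) K)} (S4 : Sign4 R' (k - 1) i) (hR' : ∀ A, A ∈ R' ↔
    ∃ g ∈ R, g * a = a * g ∧ g ∈ Cfsg.isometryGroup F ⇑Q ∧ (A : Matrix (Fin d) (Fin d) K) = Φ g)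
    {P : Subgroup (GL (Fin d) K)} (hP : ∀ A, A ∈ P ↔
    ∃ g ∈ NR R Q, g * a = a * g ∧ g ∈ Cfsg.isometryGroup F ⇑Q ∧ (A : Matrix (Fin d) (Fin d) K) = Φ g)
    {B : GL (Fin d) K} (hB : B ∈ R') (hBB : B * B = -1) : tA i B ∈ upto P := by
  have S := D.sign
  obtain ⟨b, hb, hba, hbi, hBb⟩ := (hR' B).1 hB
  have hbb : b * b = -1 := by
    refine Hf.phi_inj (mul_mem hbi hbi) (D.le S.neg) (by rw [mul_assoc, hba, ← mul_assoc, hba, mul_assoc])
      (by rw [neg_one_mul, mul_neg_one]) ?_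
    rw [Units.val_mul, Hf.map_mul _ _ (comm_val hba) (comm_val hba), ← hBb, ← Units.val_mul, hBB, Hf.phi_neg,
      Units.val_neg, Units.val_one]
  have hb1 := (S.qv_eq_one hb).2 hbb
  have ha1 := (S.qv_eq_one ha).2 haa
  have hpa : pr b a * a = a * pr b a := by
    refine Units.ext ?_
    rw [Units.val_mul, Units.val_mul, pr, Units.val_mul, D.tv_neg_inv hbb, D.tv_val haa, smul_mul_assoc,
      smul_mul_assoc, mul_smul_comm]
    congr 1
    rw [mul_assoc, show (1 + (a : Matrix ι ι F)) * a = a * (1 + (a : Matrix ι ι F)) by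
        rw [add_mul, mul_add, one_mul, mul_one],
      ← mul_assoc, show (1 + (b : Matrix ι ι F)) * a = a * (1 + (b : Matrix ι ι F)) by
        rw [add_mul, mul_add, one_mul, mul_one, comm_val hba], mul_assoc]
  obtain ⟨A, hA⟩ := Hf.exists_pi hpa
  have hmem : A ∈ P := (hP A).2 ⟨_, D.pr_mem hb hb1 ha ha1, hpa, D.pr_iso hb hb1 ha ha1, hA⟩
  have e1 : A = scl (Fin d) i * tA i B := by
    refine Units.ext ?_
    have hb' : (1 + (b : Matrix ι ι F)) * a = a * (1 + (b : Matrix ι ι F)) := by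
      rw [add_mul, mul_add, one_mul, mul_one, comm_val hba]
    have ha' : (1 + (a : Matrix ι ι F)) * a = a * (1 + (a : Matrix ι ι F)) := by
      rw [add_mul, mul_add, one_mul, mul_one]
    have hsa : ((2 : F)⁻¹ • (1 + (b : Matrix ι ι F))) * a = a * ((2 : F)⁻¹ • (1 + (b : Matrix ι ι F))) := by
      rw [smul_mul_assoc, hb', mul_smul_comm]
    rw [hA, pr, Units.val_mul, D.tv_neg_inv hbb, D.tv_val haa, Hf.map_mul _ _ hsa ha', Hf.map_smul _ _ hb',
      Hf.map_add _ _ (by rw [one_mul, mul_one]) (comm_val hba), Hf.map_add _ _ (by rw [one_mul, mul_one]) rfl,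
      Hf.map_one, ← hBb, Hf.map_a, Units.val_mul, S4.i_val, S4.tA_val hBB, smul_mul_assoc, smul_mul_assoc, one_mul,
      smul_smul, show (1 + i • (1 : Matrix (Fin d) (Fin d) K)) = (1 + i) • 1 by rw [add_smul, one_smul],
      mul_smul_comm, mul_one, smul_smul, map_inv₀, map_ofNat]
    congr 1
    have h2 := S4.two_ne
    have h1 := S4.one_add_ne
    field_simp
    linear_combination S4.sqi
  exact ⟨scl (Fin d) i, scl_mem_scalars S4.i_ne, e1 ▸ hmem⟩

/-- The dichotomy for the centraliser of `a`. -/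
theorem dichotomy {lin : Prop} (hlin : (∀ u v, f u v = 0) ↔ lin) (hbase : BaseCase lin i σ)
    {H : Subgroup (GL ι F)} (hH : H ≤ Cfsg.Geo.omegaGL ⇑Q) (hN : NR R Q ≤ H) :
    (∀ g ∈ H, g * a = a * g → ∀ r ∈ R, r * a = a * r → g * r * g⁻¹ ∈ R) ∨
      (∀ g : GL ι F, g ∈ Cfsg.isometryGroup F ⇑Q → g * a = a * g → (Φ g).det = 1 → g ∈ H) := by
  have S := D.sign
  obtain ⟨R', hR'⟩ := Hf.exists_img R
  obtain ⟨P, hP⟩ := Hf.exists_img (NR R Q)
  obtain ⟨PH, hPH⟩ := Hf.exists_img H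
  obtain ⟨PO, hPO⟩ := Hf.exists_img (Cfsg.Geo.omegaGL ⇑Q)
  obtain ⟨S4, hf'⟩ := Hf.sign4 D ha haa hR'
  haveI : Finite (GL (Fin d) K) := inferInstance
  have h4 := S.four
  have hR'P : R' ≤ P := fun A hA => by
    obtain ⟨g, hg, h1, h2, h3⟩ := (hR' A).1 hA
    exact (hP A).2 ⟨g, D.le_NR hg, h1, h2, h3⟩
  have hPPH : P ≤ PH := fun A hA => by
    obtain ⟨g, hg, h1, h2, h3⟩ := (hP A).1 hA
    exact (hPH A).2 ⟨g, hN hg, h1, h2, h3⟩
  have hgen : Cfsg.Geo.subgroupNormalizer R' ≤ upto P :=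
    S4.normaliser_le (scalars_le_upto P) (fun A hA => le_upto P (hR'P hA))
      fun B hB hBB _ => Hf.tA_lift D ha haa S4 hR' hP hB hBB
  obtain ⟨r0, hr0, hr0s⟩ := S4.exists_nonscalar
  obtain ⟨p0, hp0, hpr⟩ := S4.partner hr0 hr0s
  have hne : r0 * p0 ≠ p0 * r0 := fun he => by
    rw [bv_eq_zero.2 he.symm] at hpr
    exact zero_ne_one hpr
  -- the derived group lifts into Omega
  have hPOfull : amb f ≤ PO := by
    refine amb_le_of_normalised Hf.std S4.four_le_index (fun A hA B hB => ?_) (k := r0) ?_ (S4.le_amb hf' hr0)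
      (S4.le_amb hf' hp0) hne
    · obtain ⟨g, hg, hga, hA'⟩ := Hf.lift A (mem_amb.1 hA).1
      obtain ⟨w, hw, hwa, hwi, hB'⟩ := (hPO B).1 hB
      have hga' : g⁻¹ * a = a * g⁻¹ := (inv_mul_eq_iff_eq_mul.2 (by rw [← mul_assoc, hga, mul_inv_cancel_right]))
      obtain ⟨C, hC⟩ := Hf.exists_pi hga'
      have hAC : A * C = 1 := Units.ext (by
        rw [Units.val_mul, ← hA', hC, ← Hf.map_mul _ _ (comm_val hga) (comm_val hga'), ← Units.val_mul,
          mul_inv_cancel, Units.val_one, Units.val_one, Hf.map_one])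
      have hgw : g * w * a = a * (g * w) := by rw [mul_assoc, hwa, ← mul_assoc, hga, mul_assoc]
      refine (hPO _).2 ⟨g * w * g⁻¹, ?_, by rw [mul_assoc, hga', ← mul_assoc, hgw, mul_assoc],
        mul_mem (mul_mem hg hwi) (inv_mem hg), ?_⟩
      · have := mul_mem (omega_conj hg hwi) hw
        rwa [inv_mul_cancel_right] at this
      · rw [inv_eq_of_mul_eq_one_right hAC, Units.val_mul, Units.val_mul, ← hA', hB', hC,
          ← Hf.map_mul _ _ (comm_val hga) (comm_val hwa), ← Units.val_mul,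
          ← Hf.map_mul _ _ (comm_val hgw) (comm_val hga'), ← Units.val_mul]
    · obtain ⟨g, hg, h1, h2, h3⟩ := (hR' r0).1 hr0
      exact (hPO r0).2 ⟨g, D.le_omega hg, h1, h2, h3⟩
  obtain ⟨W, hW⟩ : ∃ W, W = upto PH ⊓ amb f := ⟨_, rfl⟩
  have hlo : Cfsg.Geo.subgroupNormalizer R' ⊓ amb f ≤ W := by
    rintro A ⟨hA, hA'⟩
    obtain ⟨z, hz, hzA⟩ := hgen hA
    exact hW ▸ ⟨⟨z, hz, hPPH hzA⟩, hA'⟩
  rcases normaliser_or_full hbase (k - 1) d R' f S4 hf' Hf.std hlin W hlo (hW ▸ inf_le_right) with hpart | hfull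
  · left
    intro g hg hga r hr hra
    have hgi := omega_le (hH hg)
    obtain ⟨A, hA⟩ := Hf.exists_pi hga
    have hA1 : ∀ u v, f ((A : Matrix (Fin d) (Fin d) K) *ᵥ u) ((A : Matrix (Fin d) (Fin d) K) *ᵥ v) = f u v := by
      rw [hA]; exact Hf.iso g hgi hga
    have hAP : A ∈ PH := (hPH A).2 ⟨g, hg, hga, hgi, hA⟩
    have hA1' : ∀ u v, f (((A⁻¹ : GL (Fin d) K) : Matrix (Fin d) (Fin d) K) *ᵥ u)
        (((A⁻¹ : GL (Fin d) K) : Matrix (Fin d) (Fin d) K) *ᵥ v) = f u v := fun u v => by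
      rw [← hA1 (((A⁻¹ : GL (Fin d) K) : Matrix (Fin d) (Fin d) K) *ᵥ u), Matrix.mulVec_mulVec, Matrix.mulVec_mulVec,
        Units.mul_inv, Matrix.one_mulVec, Matrix.one_mulVec]
    have hmove : ∀ A ∈ PH, (∀ u v, f ((A : Matrix (Fin d) (Fin d) K) *ᵥ u) ((A : Matrix (Fin d) (Fin d) K) *ᵥ v) = f u v) →
        ∀ B ∈ W, A * B * A⁻¹ ∈ W := by
      intro A hA hAi B hB
      rw [hW] at hB ⊢
      have hA2 : A ∈ upto PH := le_upto PH hA
      exact ⟨(upto PH).mul_mem ((upto PH).mul_mem hA2 hB.1) ((upto PH).inv_mem hA2), amb_conj hAi hB.2⟩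
    have hV := S4.le_of_fixed hf' (V := R'.map (MulAut.conj A).toMonoidHom) (by
        rintro _ ⟨B, hB, rfl⟩
        exact hpart (hmove A hAP hA1 B (hlo ⟨Subgroup.le_normalizer hB, S4.le_amb hf' hB⟩))) (by
        rintro _ ⟨B, hB, rfl⟩
        rw [← _root_.map_mul]
        rcases S4.sq B hB with e' | e' <;> rw [e']
        · left; simp
        · right; simp) (by
        rintro _ ⟨B, hB, rfl⟩ _ ⟨B', hB', rfl⟩
        rw [← _root_.map_mul, ← _root_.map_mul]
        rcases S4.comm B hB B' hB' with e' | e' <;> rw [e']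
        · exact Or.inl rfl
        · right; simp) (by
        rintro h hh _ ⟨B, hB, rfl⟩
        have hh' : A⁻¹ * h * A ∈ W := by
          have := hmove A⁻¹ (inv_mem hAP) hA1' h (hlo hh)
          rwa [inv_inv] at this
        refine ⟨(A⁻¹ * h * A) * B * (A⁻¹ * h * A)⁻¹, (Subgroup.mem_normalizer_iff.1 (hpart hh') B).1 hB, ?_⟩
        simp only [MulEquiv.coe_toMonoidHom, MulAut.conj_apply]
        group)
    obtain ⟨B, hB⟩ := Hf.exists_pi hra
    have hBR : B ∈ R' := (hR' B).2 ⟨r, hr, hra, D.le hr, hB⟩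
    obtain ⟨r', hr', hr'a, hr'i, hC⟩ := (hR' _).1 (hV ⟨B, hBR, rfl⟩)
    simp only [MulEquiv.coe_toMonoidHom, MulAut.conj_apply] at hC
    have hgr : g * r * a = a * (g * r) := by rw [mul_assoc, hra, ← mul_assoc, hga, mul_assoc]
    have hga' : g⁻¹ * a = a * g⁻¹ := (inv_mul_eq_iff_eq_mul.2 (by rw [← mul_assoc, hga, mul_inv_cancel_right]))
    obtain ⟨C, hC'⟩ := Hf.exists_pi hga'
    have hAC : A * C = 1 := Units.ext (by
      rw [Units.val_mul, hA, hC', ← Hf.map_mul _ _ (comm_val hga) (comm_val hga'), ← Units.val_mul,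
        mul_inv_cancel, Units.val_one, Units.val_one, Hf.map_one])
    rw [Hf.phi_inj (g := g * r * g⁻¹) (h := r') (mul_mem (mul_mem hgi (D.le hr)) (inv_mem hgi)) hr'i
      (by rw [mul_assoc, hga', ← mul_assoc, hgr, mul_assoc]) hr'a (by
      rw [← hC, inv_eq_of_mul_eq_one_right hAC, Units.val_mul, Units.val_mul, Units.val_mul, Units.val_mul, hA, hB, hC',
        ← Hf.map_mul _ _ (comm_val hga) (comm_val hra), ← Units.val_mul,
        ← Hf.map_mul _ _ (comm_val hgr) (comm_val hga'), ← Units.val_mul])]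
    exact hr'
  · right
    have hfullPH : amb f ≤ PH := by
      refine amb_le_of_normalised Hf.std S4.four_le_index (fun A hA B hB => ?_) (k := r0) (hPPH (hR'P hr0))
        (S4.le_amb hf' hr0) (S4.le_amb hf' hp0) hne
      obtain ⟨z, hz, hzA⟩ := (hW ▸ hfull hA : A ∈ upto PH ⊓ amb f).1
      have := mul_mem (mul_mem hzA hB) (inv_mem hzA)
      rwa [_root_.mul_inv_rev, show z * A * B * (A⁻¹ * z⁻¹) = z * (A * B * A⁻¹) * z⁻¹ by group,
        show z * (A * B * A⁻¹) * z⁻¹ = A * B * A⁻¹ by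
          rw [Aschbacher.commute_of_mem_scalars hz, mul_inv_cancel_right]] at this
    intro g hg hga hdet
    obtain ⟨A, hA⟩ := Hf.exists_pi hga
    have hAamb : A ∈ amb f := mem_amb.2 ⟨by rw [hA]; exact Hf.iso g hg hga, by rw [hA]; exact hdet⟩
    obtain ⟨h, hh, hha, hhi, hhA⟩ := (hPH A).1 (hfullPH hAamb)
    rwa [Hf.phi_inj hg hhi hga hha (hA.symm.trans hhA)]

end Half

end CfsgLib.Classical22.C6Plus
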