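/-
A group with an elementary abelian subgroup carrying a quadratic form, which is the centraliser of each of its
anisotropic elements and whose products of two reflections extend to automorphisms, is that subgroup.
-/
import Cfsg.Agent.Lib.Classical22.C6Plus.Fusion

set_option autoImplicit false
set_option maxHeartbeats 1000000

namespace CfsgLib.Classical22.C6Plus

namespace QuadSub

variable {G : Type*} [Group G] {N E : Subgroup G} {q : G → ZMod 2} (S : QuadSub N E q)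

omit S in
/-- The reflection along `a`. -/
noncomputable def rf (q : G → ZMod 2) (a x : G) : G := if bq q x a = 0 then x else a * x

omit S in
lemma rf_fix {a x : G} (h : bq q x a = 0) : rf q a x = x := by rw [rf, if_pos h]

omit S in
lemma rf_move {a x : G} (h : bq q x a = 1) : rf q a x = a * x := by rw [rf, if_neg (by rw [h]; decide)]

omit S in
lemma zmod_cases (t : ZMod 2) : t = 0 ∨ t = 1 := by revert t; decide

include S

lemma bq_one_left {v : G} (hv : v ∈ E) : bq q 1 v = 0 := by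
  unfold bq; rw [one_mul, S.q_one, add_zero, add_self_two]

lemma bq_mul' {u v w : G} (hu : u ∈ E) (hv : v ∈ E) (hw : w ∈ E) : bq q (u * v) w = bq q u w + bq q v w := by
  rw [S.bq_symm (E.mul_mem hu hv) hw, S.bq_mul hw hu hv, S.bq_symm hw hu, S.bq_symm hw hv]

lemma bq_cancel {u v : G} (hu : u ∈ E) (hv : v ∈ E) : u * (u * v) = v := by
  rw [← mul_assoc, S.sq u hu, one_mul]

lemma exists_adjoin {X : Subgroup G} (hX : X ≤ E) {a : G} (ha : a ∈ E) :
    ∃ Y : Subgroup G, Y ≤ E ∧ X ≤ Y ∧ a ∈ Y ∧ (∀ y, y ∈ Y → y ∈ X ∨ a * y ∈ X) := by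
  refine ⟨{ carrier := {y | y ∈ E ∧ (y ∈ X ∨ a * y ∈ X)}
            one_mem' := ⟨E.one_mem, Or.inl X.one_mem⟩
            mul_mem' := ?_
            inv_mem' := fun {y} ⟨hy, h⟩ => ?_ }, fun y hy => hy.1, fun y hy => ⟨hX hy, Or.inl hy⟩,
    ⟨ha, Or.inr (by rw [S.sq a ha]; exact X.one_mem)⟩, fun y hy => hy.2⟩
  · rintro y z ⟨hy, hy'⟩ ⟨hz, hz'⟩
    refine ⟨E.mul_mem hy hz, ?_⟩
    rcases hy' with h | h <;> rcases hz' with h' | h'
    · exact Or.inl (X.mul_mem h h')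
    · exact Or.inr (by rw [← mul_assoc, S.comm ha hy, mul_assoc]; exact X.mul_mem h h')
    · exact Or.inr (by rw [← mul_assoc]; exact X.mul_mem h h')
    · left
      have h'' := X.mul_mem h h'
      rwa [S.comm ha hy, mul_assoc, S.bq_cancel ha hz] at h''
  · rw [Set.mem_setOf_eq, S.inv_eq hy]
    exact ⟨hy, h⟩

lemma card_adjoin [Finite G] {X Y : Subgroup G} {a : G} (h : ∀ y, y ∈ Y → y ∈ X ∨ a * y ∈ X) :
    Nat.card Y ≤ 2 * Nat.card X := by
  have hsub : (Y : Set G) ⊆ (X : Set G) ∪ (fun x => a⁻¹ * x) '' (X : Set G) := fun y hy => by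
    rcases h y hy with h | h
    · exact Or.inl h
    · exact Or.inr ⟨_, h, inv_mul_cancel_left a y⟩
  have h1 := ((Set.ncard_le_ncard hsub).trans (Set.ncard_union_le _ _)).trans
    (Nat.add_le_add_left (Set.ncard_image_le) _)
  rw [← Nat.card_coe_set_eq, ← Nat.card_coe_set_eq] at h1
  rw [two_mul]
  exact h1

variable [Finite G]

/-- The orthogonal complement as a subgroup. -/
lemma exists_perp {X : Subgroup G} (hX : X ≤ E) :
    ∃ P : Subgroup G, (∀ v, v ∈ P ↔ v ∈ E ∧ ∀ x ∈ X, bq q v x = 0) ∧ Nat.card X * Nat.card P = Nat.card E := by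
  refine ⟨{ carrier := {v | v ∈ E ∧ ∀ x ∈ X, bq q v x = 0}
            one_mem' := ⟨E.one_mem, fun x hx => S.bq_one_left (hX hx)⟩
            mul_mem' := fun {u v} hu hv => ⟨E.mul_mem hu.1 hv.1, fun x hx => by
              rw [S.bq_mul' hu.1 hv.1 (hX hx), hu.2 x hx, hv.2 x hx, add_zero]⟩
            inv_mem' := fun {u} hu => by rw [Set.mem_setOf_eq, S.inv_eq hu.1]; exact hu }, fun v => Iff.rfl, ?_⟩
  have h := S.card_perp X hX
  rwa [← Nat.card_coe_set_eq] at h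

/-- An element separating. -/
lemma exists_sep {X : Subgroup G} (hX : X ≤ E) {u : G} (hu : u ∈ E) (hu' : u ∉ X) :
    ∃ v ∈ E, (∀ x ∈ X, bq q v x = 0) ∧ bq q v u = 1 := by
  by_contra hcon
  push Not at hcon
  obtain ⟨Y, hYE, hXY, huY, hY⟩ := S.exists_adjoin hX hu
  obtain ⟨P, hP, hPc⟩ := S.exists_perp hX
  obtain ⟨P', hP', hPc'⟩ := S.exists_perp hYE
  have hle : P ≤ P' := fun v hv => by
    obtain ⟨hvE, hvX⟩ := (hP v).1 hv
    refine (hP' v).2 ⟨hvE, fun y hy => ?_⟩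
    rcases hY y hy with h | h
    · exact hvX y h
    · have h0 : bq q v u = 0 := (zmod_cases _).resolve_right (hcon v hvE hvX)
      have := hvX _ h
      rwa [S.bq_mul hvE hu (hYE hy), h0, zero_add] at this
  have hlt : Nat.card X < Nat.card Y := by
    refine lt_of_le_of_ne (Subgroup.card_le_of_le hXY) fun h => hu' ?_
    rw [Subgroup.eq_of_le_of_card_ge hXY h.ge]
    exact huY
  have h2 := Subgroup.card_le_of_le hle
  have hpos : 0 < Nat.card P' := Nat.card_pos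
  have h3 : Nat.card X * Nat.card P < Nat.card Y * Nat.card P' := Nat.mul_lt_mul_of_lt_of_le hlt h2 hpos
  omega

/-- A small subgroup with an anisotropic member is orthogonal to an anisotropic element. -/
lemma exists_ns_perp {X : Subgroup G} (hX : X ≤ E) {a : G} (ha : a ∈ X) (hqa : q a = 1)
    (hc : Nat.card X * Nat.card X ≤ Nat.card E) : ∃ z ∈ E, q z = 1 ∧ ∀ x ∈ X, bq q z x = 0 := by
  by_contra hcon
  push Not at hcon
  obtain ⟨P, hP, hPc⟩ := S.exists_perp hX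
  have hsing : ∀ v ∈ P, q v = 0 := fun v hv => (zmod_cases _).resolve_right fun h => by
    obtain ⟨x, hx, hne⟩ := hcon v ((hP v).1 hv).1 h
    exact hne (((hP v).1 hv).2 x hx)
  have hPE : P ≤ E := fun v hv => ((hP v).1 hv).1
  obtain ⟨P', hP', hPc'⟩ := S.exists_perp hPE
  have hXP' : X ≤ P' := fun x hx => (hP' x).2 ⟨hX hx, fun v hv => by
    rw [S.bq_symm (hX hx) (hPE hv)]; exact ((hP v).1 hv).2 x hx⟩
  have hpos : 0 < Nat.card P := Nat.card_pos
  have hX0 : 0 < Nat.card X := Nat.card_pos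
  have heq : Nat.card P' = Nat.card X := by
    refine Nat.eq_of_mul_eq_mul_left hpos ?_
    rw [hPc', mul_comm, hPc]
  have hPP' : P ≤ P' := fun v hv => (hP' v).2 ⟨hPE hv, fun w hw => by
    unfold bq
    rw [hsing _ (P.mul_mem hv hw), hsing v hv, hsing w hw]; decide⟩
  have hXX : X = P' := Subgroup.eq_of_le_of_card_ge hXP' heq.le
  have hle : Nat.card X ≤ Nat.card P := Nat.le_of_mul_le_mul_left (hc.trans hPc.ge) hX0
  have hPX : P = X := by
    rw [hXX] at hle ⊢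
    exact Subgroup.eq_of_le_of_card_ge hPP' hle
  have := hsing a (hPX ▸ ha)
  rw [hqa] at this
  exact one_ne_zero this

/-- An anisotropic element outside a small subgroup, orthogonal to it. -/
lemma exists_ns_outside {X : Subgroup G} (hX : X ≤ E) {a : G} (ha : a ∈ X) (hqa : q a = 1)
    (hc : Nat.card X * Nat.card X < Nat.card E) : ∃ z ∈ E, q z = 1 ∧ z ∉ X ∧ ∀ x ∈ X, bq q z x = 0 := by
  obtain ⟨z, hz, hqz, hzX⟩ := S.exists_ns_perp hX ha hqa hc.le
  by_cases hzm : z ∈ X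
  swap
  · exact ⟨z, hz, hqz, hzm, hzX⟩
  obtain ⟨P, hP, hPc⟩ := S.exists_perp hX
  obtain ⟨w, hw, hwX⟩ : ∃ w ∈ P, w ∉ X := SetLike.not_le_iff_exists.1 fun hle => by
    have := Nat.mul_le_mul_left (Nat.card X) (Subgroup.card_le_of_le hle)
    omega
  obtain ⟨hwE, hwp⟩ := (hP w).1 hw
  rcases zmod_cases (q w) with hqw | hqw
  · refine ⟨z * w, E.mul_mem hz hwE, ?_, fun h => hwX ((X.mul_mem_cancel_left hzm).1 h), fun x hx => by
      rw [S.bq_mul' hz hwE (hX hx), hzX x hx, hwp x hx, add_zero]⟩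
    have h1 := hwp z hzm
    rw [S.bq_symm hwE hz] at h1
    unfold bq at h1
    rw [hqz, hqw] at h1
    linear_combination h1 - two_zmod
  · exact ⟨w, hwE, hqw, hwX, hwp⟩

/-- An alternating form on an elementary abelian group of order eight times a part of its radical has more radical. -/
lemma exists_radical {A K : Subgroup G} (hA : A ≤ E) (hK : K ≤ A) (hc : Nat.card A = 8 * Nat.card K)
    (β : G → G → ZMod 2) (hadd : ∀ u ∈ A, ∀ v ∈ A, ∀ w ∈ A, β u (v * w) = β u v + β u w)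
    (hadd' : ∀ u ∈ A, ∀ v ∈ A, ∀ w ∈ A, β (v * w) u = β v u + β w u) (halt : ∀ u ∈ A, β u u = 0)
    (hrad : ∀ u ∈ A, ∀ v ∈ K, β u v = 0) :
    (∀ u ∈ A, ∀ v ∈ A, β u v = 0) ∨ ∃ x ∈ A, x ∉ K ∧ (∀ v ∈ A, β x v = 0) ∧
      ∀ y ∈ A, (∀ v ∈ A, β y v = 0) → y ∈ K ∨ x * y ∈ K := by
  have hsymm : ∀ u ∈ A, ∀ v ∈ A, β u v = β v u := fun u hu v hv => by
    have h := halt _ (A.mul_mem hu hv)
    rw [hadd' _ (A.mul_mem hu hv) u hu v hv, hadd u hu u hu v hv, hadd v hv u hu v hv, halt u hu, halt v hv,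
      zero_add, add_zero] at h
    linear_combination h - β v u * two_zmod
  by_cases hall : ∀ u ∈ A, ∀ v ∈ A, β u v = 0
  · exact Or.inl hall
  right
  push Not at hall
  obtain ⟨a, ha, b, hb, hab⟩ := hall
  have hab1 : β a b = 1 := (zmod_cases _).resolve_left hab
  have h1 : ∀ u ∈ A, β u 1 = 0 := fun u hu => by
    have h := hadd u hu 1 A.one_mem 1 A.one_mem
    rw [one_mul] at h
    linear_combination -h
  obtain ⟨φ, hφ⟩ : ∃ φ : A →* Multiplicative (ZMod 2 × ZMod 2),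
      ∀ v : A, φ v = Multiplicative.ofAdd (β a (v : G), β b (v : G)) :=
    ⟨{ toFun := fun v => Multiplicative.ofAdd (β a (v : G), β b (v : G))
       map_one' := by simp [h1 a ha, h1 b hb]
       map_mul' := fun u v => by simp [hadd a ha _ u.2 _ v.2, hadd b hb _ u.2 _ v.2, ← ofAdd_add] }, fun v => rfl⟩
  obtain ⟨P, hP⟩ : ∃ P : Subgroup G, P = φ.ker.map A.subtype := ⟨_, rfl⟩
  have hPm : ∀ v, v ∈ P ↔ v ∈ A ∧ β a v = 0 ∧ β b v = 0 := fun v => by
    rw [hP]
    constructor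
    · rintro ⟨w, hw, rfl⟩
      rw [SetLike.mem_coe, MonoidHom.mem_ker, hφ] at hw
      have := congrArg Multiplicative.toAdd hw
      simp only [toAdd_ofAdd, toAdd_one, Prod.ext_iff, Prod.fst_zero, Prod.snd_zero] at this
      exact ⟨w.2, this.1, this.2⟩
    · rintro ⟨hv, e1, e2⟩
      exact ⟨⟨v, hv⟩, by rw [SetLike.mem_coe, MonoidHom.mem_ker, hφ]; simp [e1, e2], rfl⟩
  have hba : β b a = 1 := by rw [← hsymm a ha b hb]; exact hab1
  have hsurj : Function.Surjective φ := fun t => by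
    obtain ⟨⟨u, v⟩, rfl⟩ := Multiplicative.ofAdd.surjective t
    rcases zmod_cases u with rfl | rfl <;> rcases zmod_cases v with rfl | rfl
    · exact ⟨1, by rw [_root_.map_one]; rfl⟩
    · exact ⟨⟨a, ha⟩, by rw [hφ, halt a ha, hba]⟩
    · exact ⟨⟨b, hb⟩, by rw [hφ, hab1, halt b hb]⟩
    · exact ⟨⟨a, ha⟩ * ⟨b, hb⟩, by rw [map_mul, hφ, hφ, halt a ha, hba, hab1, halt b hb]; rfl⟩
  have hPc : Nat.card P * 4 = Nat.card A := by
    rw [← Subgroup.card_mul_index φ.ker, Subgroup.index_ker, hP,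
      ← Nat.card_congr (φ.ker.equivMapOfInjective A.subtype A.subtype_injective).toEquiv,
      MonoidHom.range_eq_top.2 hsurj, Subgroup.card_top]
    simp [Nat.card_eq_fintype_card]
  have hKP : K ≤ P := fun v hv => (hPm v).2 ⟨hK hv, hrad a ha v hv, hrad b hb v hv⟩
  obtain ⟨x, hx, hxK⟩ : ∃ x ∈ P, x ∉ K := SetLike.not_le_iff_exists.1 fun hle => by
    have := Subgroup.card_le_of_le hle
    have : 0 < Nat.card K := Nat.card_pos
    omega
  obtain ⟨hxA, hax, hbx⟩ := (hPm x).1 hx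
  obtain ⟨Y, hYE, hKY, hxY, hY⟩ := S.exists_adjoin (hK.trans hA) (hA hxA)
  have hYP : Y ≤ P := fun y hy => by
    rcases hY y hy with h | h
    · exact hKP h
    · exact (P.mul_mem_cancel_left hx).1 (hKP h)
  have hYeq : Y = P := by
    refine Subgroup.eq_of_le_of_card_ge hYP ?_
    obtain ⟨j, hj⟩ := Subgroup.card_dvd_of_le hKY
    have hj2 : 2 ≤ j := by
      by_contra hj'
      have hc' : Nat.card Y ≤ Nat.card K := by
        rw [hj]; exact (Nat.mul_le_mul_left _ (show j ≤ 1 by omega)).trans_eq (mul_one _)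
      exact hxK (Subgroup.eq_of_le_of_card_ge hKY hc' ▸ hxY)
    have : Nat.card K * 2 ≤ Nat.card Y := hj ▸ Nat.mul_le_mul_left _ hj2
    omega
  have hdec : ∀ v ∈ A, β x v = 0 := by
    have hxP : ∀ y ∈ P, β x y = 0 := fun y hy => by
      rcases hY y (hYeq ▸ hy) with h | h
      · exact hrad x hxA y h
      · have hxy := hrad x hxA _ h
        rwa [hadd x hxA x hxA y ((hPm y).1 hy).1, halt x hxA, zero_add] at hxy
    intro v hv
    have hxa : β x a = 0 := by rw [hsymm x hxA a ha]; exact hax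
    have hxb : β x b = 0 := by rw [hsymm x hxA b hb]; exact hbx
    have key : ∀ y ∈ A, β a y = 0 → β x y = 0 := fun y hy h => by
      rcases zmod_cases (β b y) with h' | h'
      · exact hxP y ((hPm y).2 ⟨hy, h, h'⟩)
      · have := hxP (a * y) ((hPm _).2 ⟨A.mul_mem ha hy, by rw [hadd a ha a ha y hy, halt a ha, h, add_zero],
          by rw [hadd b hb a ha y hy, hba, h']; decide⟩)
        rwa [hadd x hxA a ha y hy, hxa, zero_add] at this
    rcases zmod_cases (β a v) with h | h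
    · exact key v hv h
    · have := key (b * v) (A.mul_mem hb hv) (by rw [hadd a ha b hb v hv, hab1, h]; decide)
      rwa [hadd x hxA b hb v hv, hxb, zero_add] at this
  refine ⟨x, hxA, hxK, hdec, fun y hy hyr => hY y (hYeq ▸ (hPm y).2 ⟨hy, ?_, ?_⟩)⟩
  · rw [hsymm a ha y hy]; exact hyr a ha
  · rw [hsymm b hb y hy]; exact hyr b hb

omit [Finite G] in
lemma rf_mem {a x : G} (ha : a ∈ E) (hx : x ∈ E) : rf q a x ∈ E := by
  unfold rf; split_ifs
  exacts [hx, E.mul_mem ha hx]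

omit [Finite G] in
lemma rf_rf {a x : G} (ha : a ∈ E) (hx : x ∈ E) : rf q a (rf q a x) = x := by
  rcases zmod_cases (bq q x a) with h | h
  · rw [rf_fix h, rf_fix h]
  · rw [rf_move h, rf_move (by rw [S.bq_mul' ha hx ha, S.bq_self ha, zero_add, h]), S.bq_cancel ha hx]

omit [Finite G] in
/-- Conjugation commutes with the reflections. -/
lemma conj_rf {n a x : G} (hn : n ∈ N) (ha : a ∈ E) (hx : x ∈ E) :
    n * rf q a x * n⁻¹ = rf q (n * a * n⁻¹) (n * x * n⁻¹) := by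
  unfold rf
  rw [S.bq_conj hn hx ha]
  split_ifs
  exacts [rfl, by group]

omit [Finite G] in
lemma card_double [Finite G] {X Y : Subgroup G} (h : X ≤ Y) {y : G} (hy : y ∈ Y) (hy' : y ∉ X) :
    2 * Nat.card X ≤ Nat.card Y := by
  obtain ⟨j, hj⟩ := Subgroup.card_dvd_of_le h
  by_contra hlt
  push Not at hlt
  refine hy' (Subgroup.eq_of_le_of_card_ge h ?_ ▸ hy)
  have hX : 0 < Nat.card X := Nat.card_pos
  rw [hj] at hlt ⊢
  have : j < 2 := Nat.lt_of_mul_lt_mul_left (by rwa [mul_comm 2] at hlt)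
  exact (Nat.mul_le_mul_left _ (show j ≤ 1 by omega)).trans_eq (mul_one _)

section Kernel

variable (hNm : ∀ g : G, (∀ x ∈ E, g * x * g⁻¹ ∈ E) → g ∈ N)
  (hC : ∀ a ∈ E, q a = 1 → ∀ g : G, g * a * g⁻¹ = a → g ∈ E)
  (hT : ∀ a ∈ E, ∀ b ∈ E, q a = 1 → q b = 1 → ∃ φ : G ≃* G, ∀ x ∈ E, φ x = rf q a (rf q b x))
include hC

omit [Finite G] in
lemma act_eq {n n' z : G} (hn : n ∈ N) (hn' : n' ∈ N) (hz : z ∈ E) (hqz : q z = 1)
    (h : n * z * n⁻¹ = n' * z * n'⁻¹) : ∀ x ∈ E, n * x * n⁻¹ = n' * x * n'⁻¹ := by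
  intro x hx
  have h1 : n'⁻¹ * n ∈ E := hC z hz hqz _ (by
    calc n'⁻¹ * n * z * (n'⁻¹ * n)⁻¹ = n'⁻¹ * (n * z * n⁻¹) * n' := by group
      _ = z := by rw [h]; group)
  calc n * x * n⁻¹ = n' * ((n'⁻¹ * n) * x * (n'⁻¹ * n)⁻¹) * n'⁻¹ := by group
    _ = n' * x * n'⁻¹ := by rw [S.comm h1 hx, mul_inv_cancel_right]

omit [Finite G] in
include hNm hT in
/-- An element of the normaliser respects a product of two reflections fixing a suitable anisotropic element. -/
lemma commute_pair {n a c z : G} (hn : n ∈ N) (ha : a ∈ E) (hqa : q a = 1) (hc : c ∈ E) (hqc : q c = 1)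
    (hz : z ∈ E) (hqz : q z = 1) (h1 : bq q z a = 0) (h2 : bq q z c = 0) (h3 : bq q (n * z * n⁻¹) a = 0)
    (h4 : bq q (n * z * n⁻¹) c = 0) :
    ∀ y ∈ E, rf q a (rf q c y) = rf q (n * a * n⁻¹) (rf q (n * c * n⁻¹) y) := by
  obtain ⟨φ, hφ⟩ := hT a ha c hc hqa hqc
  have hinv : ∀ x ∈ E, φ (rf q c (rf q a x)) = x := fun x hx => by
    rw [hφ _ (S.rf_mem hc (S.rf_mem ha hx)), S.rf_rf hc (S.rf_mem ha hx), S.rf_rf ha hx]
  have hact : ∀ x ∈ E, φ n * rf q a (rf q c x) * (φ n)⁻¹ = rf q a (rf q c (n * x * n⁻¹)) := fun x hx => by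
    rw [← hφ x hx, ← map_inv, ← map_mul, ← map_mul, hφ _ (S.conj n hn x hx)]
  have hφN : φ n ∈ N := hNm _ fun x hx => by
    have h := hact _ (S.rf_mem hc (S.rf_mem ha hx))
    rw [S.rf_rf hc (S.rf_mem ha hx), S.rf_rf ha hx] at h
    rw [h]
    exact S.rf_mem ha (S.rf_mem hc (S.conj n hn _ (S.rf_mem hc (S.rf_mem ha hx))))
  have hz' : φ n * z * (φ n)⁻¹ = n * z * n⁻¹ := by
    have h := hact z hz
    rwa [rf_fix h2, rf_fix h1, rf_fix h4, rf_fix h3] at h
  intro y hy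
  obtain ⟨x, hx, rfl⟩ : ∃ x ∈ E, n * x * n⁻¹ = y := ⟨n⁻¹ * y * n, by
    have := S.conj n⁻¹ (inv_mem hn) y hy
    rwa [inv_inv] at this, by group⟩
  rw [← hact x hx, S.act_eq hC hφN hn hz hqz hz' _ (S.rf_mem ha (S.rf_mem hc hx)),
    S.conj_rf hn ha (S.rf_mem hc hx), S.conj_rf hn hc hx]

include hNm hT in
/-- The image of `a` is in the span of `a` and `c`. -/
lemma image_cases {n a c : G} (hn : n ∈ N) (ha : a ∈ E) (hqa : q a = 1) (hc : c ∈ E) (hqc : q c = 1) (hac : a ≠ c)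
    {X : Subgroup G} (hX : X ≤ E) (haX : a ∈ X) (hcX : c ∈ X) (haX' : n⁻¹ * a * n ∈ X) (hcX' : n⁻¹ * c * n ∈ X)
    (hXc : Nat.card X * Nat.card X ≤ Nat.card E) :
    n * a * n⁻¹ = a ∨ n * a * n⁻¹ = c ∨ n * a * n⁻¹ = a * c := by
  obtain ⟨z, hz, hqz, hzX⟩ := S.exists_ns_perp hX haX hqa hXc
  have hpull : ∀ w, n⁻¹ * w * n ∈ X → w ∈ E → bq q (n * z * n⁻¹) w = 0 := fun w hw _ => by
    rw [show w = n * (n⁻¹ * w * n) * n⁻¹ by group, S.bq_conj hn hz (hX hw)]
    exact hzX _ hw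
  have key := S.commute_pair hNm hC hT hn ha hqa hc hqc hz hqz (hzX a haX) (hzX c hcX) (hpull a haX' ha)
    (hpull c hcX' hc)
  obtain ⟨A, hA⟩ : ∃ A, A = n * a * n⁻¹ := ⟨_, rfl⟩
  obtain ⟨C, hC'⟩ : ∃ C, C = n * c * n⁻¹ := ⟨_, rfl⟩
  have hAE : A ∈ E := hA ▸ S.conj n hn a ha
  have hCE : C ∈ E := hC' ▸ S.conj n hn c hc
  have hC1 : C ≠ 1 := fun h => by
    rw [hC', mul_inv_eq_one, mul_eq_left] at h
    rw [h, S.q_one] at hqc
    exact zero_ne_one hqc
  obtain ⟨Y, hYE, -, hCY, hY⟩ := S.exists_adjoin (X := ⊥) bot_le hCE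
  have hAY : A ∉ Y := fun h => by
    rcases hY A h with h | h <;> rw [Subgroup.mem_bot] at h
    · rw [hA, mul_inv_eq_one, mul_eq_left] at h
      rw [h, S.q_one] at hqa
      exact zero_ne_one hqa
    · refine hac ?_
      rw [mul_eq_one_iff_inv_eq, S.inv_eq hCE, hA, hC'] at h
      exact (mul_left_cancel (mul_right_cancel h)).symm
  obtain ⟨y, hy, hyC, hyA⟩ := S.exists_sep hYE hAE hAY
  have h := key y hy
  rw [← hA, ← hC', rf_fix (hyC C hCY), rf_move hyA] at h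
  rw [← hA]
  have hA1 : A ≠ 1 := fun e => hAY (e ▸ Y.one_mem)
  have hcy : rf q c y = y ∨ rf q c y = c * y := by unfold rf; split_ifs <;> simp
  have hay : ∀ w : G, rf q a w = w ∨ rf q a w = a * w := fun w => by unfold rf; split_ifs <;> simp
  rcases hcy with e | e <;> rcases hay (rf q c y) with e' | e' <;> rw [e', e] at h
  · exact absurd (mul_eq_right.1 h.symm) hA1
  · exact Or.inl (mul_right_cancel h).symm
  · exact Or.inr (Or.inl (mul_right_cancel h).symm)
  · exact Or.inr (Or.inr (by rw [← mul_assoc] at h; exact (mul_right_cancel h).symm))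

variable (hE : Nat.card E = 64 ∨ 256 ≤ Nat.card E)
  (hL : ∃ L : Subgroup G, L ≤ E ∧ (∀ x ∈ L, q x = 0) ∧ Nat.card L * Nat.card L = Nat.card E)
include hNm hT hE hL

/-- The normaliser is the subgroup itself. -/
lemma normaliser_le : N ≤ E := by
  intro n hn
  by_contra hnE
  have hE64 : 64 ≤ Nat.card E := by omega
  have hfree : ∀ a ∈ E, q a = 1 → n * a * n⁻¹ ≠ a := fun a ha hqa h => hnE (hC a ha hqa n h)
  have hni : n⁻¹ ∈ N := inv_mem hn
  have hback : ∀ x ∈ E, n⁻¹ * x * n ∈ E := fun x hx => by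
    have := S.conj n⁻¹ hni x hx
    rwa [inv_inv] at this
  have hbot : Nat.card (⊥ : Subgroup G) = 1 := Subgroup.card_bot
  obtain ⟨L, hLE, hLq, hLc⟩ := hL
  -- an anisotropic element
  obtain ⟨a₀, ha₀, hqa₀⟩ : ∃ a ∈ E, q a = 1 := by
    by_contra hcon
    push Not at hcon
    have h0 : ∀ x ∈ E, q x = 0 := fun x hx => (zmod_cases _).resolve_right (hcon x hx)
    obtain ⟨x, hx, hx1⟩ : ∃ x ∈ E, x ≠ 1 := by
      by_contra hc
      push Not at hc
      have := Subgroup.card_eq_one.2 ((Subgroup.eq_bot_iff_forall E).2 hc)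
      omega
    obtain ⟨v, hv, hne⟩ := S.nondeg x hx hx1
    exact hne (by rw [h0 _ (E.mul_mem hx hv), h0 x hx, h0 v hv, add_zero])
  rcases hE with hE | hE
  swap
  · obtain ⟨X₁, hX₁E, -, haX₁, hX₁⟩ := S.exists_adjoin (X := ⊥) bot_le ha₀
    obtain ⟨X₂, hX₂E, hX₁₂, hμX₂, hX₂⟩ := S.exists_adjoin hX₁E (S.conj n hn a₀ ha₀)
    have hc2 : Nat.card X₂ ≤ 4 := by
      have := S.card_adjoin hX₁
      have := S.card_adjoin hX₂
      omega
    obtain ⟨c, hc, hqc, hcX, -⟩ := S.exists_ns_outside hX₂E (hX₁₂ haX₁) hqa₀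
      (lt_of_le_of_lt (Nat.mul_le_mul hc2 hc2) (by omega))
    obtain ⟨Y₁, hY₁E, -, haY, hY₁⟩ := S.exists_adjoin (X := ⊥) bot_le ha₀
    obtain ⟨Y₂, hY₂E, hY₁₂, hcY, hY₂⟩ := S.exists_adjoin hY₁E hc
    obtain ⟨Y₃, hY₃E, hY₂₃, haY', hY₃⟩ := S.exists_adjoin hY₂E (hback a₀ ha₀)
    obtain ⟨Y₄, hY₄E, hY₃₄, hcY', hY₄⟩ := S.exists_adjoin hY₃E (hback c hc)
    have hc4 : Nat.card Y₄ ≤ 16 := by
      have := S.card_adjoin hY₁
      have := S.card_adjoin hY₂
      have := S.card_adjoin hY₃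
      have := S.card_adjoin hY₄
      omega
    rcases S.image_cases hNm hC hT hn ha₀ hqa₀ hc hqc (fun e => hcX (e ▸ hX₁₂ haX₁)) hY₄E
        (hY₃₄ (hY₂₃ (hY₁₂ haY))) (hY₃₄ (hY₂₃ hcY)) (hY₃₄ haY') hcY' ((Nat.mul_le_mul hc4 hc4).trans hE) with e | e | e
    · exact hfree a₀ ha₀ hqa₀ e
    · exact hcX (e ▸ hμX₂)
    · refine hcX ?_
      have h := X₂.mul_mem (hX₁₂ haX₁) hμX₂
      rwa [e, S.bq_cancel ha₀ hc] at h
  -- dimension six
  have hsq : ∀ a ∈ E, q a = 1 → n * (n * a * n⁻¹) * n⁻¹ = a ∨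
      n * (n * a * n⁻¹) * n⁻¹ = n * a * n⁻¹ * a := fun a ha hqa => by
    have hμ := S.conj n hn a ha
    obtain ⟨Y₁, hY₁E, -, haY, hY₁⟩ := S.exists_adjoin (X := ⊥) bot_le ha
    obtain ⟨Y₂, hY₂E, hY₁₂, hcY, hY₂⟩ := S.exists_adjoin hY₁E hμ
    obtain ⟨Y₃, hY₃E, hY₂₃, haY', hY₃⟩ := S.exists_adjoin hY₂E (hback a ha)
    have hc3 : Nat.card Y₃ ≤ 8 := by
      have := S.card_adjoin hY₁
      have := S.card_adjoin hY₂
      have := S.card_adjoin hY₃
      omega
    rcases S.image_cases hNm hC hT hn hμ (by rw [S.qconj n hn a ha, hqa]) ha hqa (hfree a ha hqa) hY₃E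
        (hY₂₃ hcY) (hY₂₃ (hY₁₂ haY)) (by rw [show n⁻¹ * (n * a * n⁻¹) * n = a by group]; exact hY₂₃ (hY₁₂ haY)) haY'
        ((Nat.mul_le_mul hc3 hc3).trans hE.ge) with e | e | e
    · exact absurd (mul_left_cancel (mul_right_cancel e)) (hfree a ha hqa)
    · exact Or.inl e
    · exact Or.inr e
  by_cases hone : ∃ a ∈ E, q a = 1 ∧ n * (n * a * n⁻¹) * n⁻¹ = a
  · -- an involution
    obtain ⟨a, ha, hqa, hfix⟩ := hone
    have hnn : n * n ∈ E := hC a ha hqa _ (by
      rw [show n * n * a * (n * n)⁻¹ = n * (n * a * n⁻¹) * n⁻¹ by group, hfix])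
    have hinv : ∀ x ∈ E, n * (n * x * n⁻¹) * n⁻¹ = x := fun x hx => by
      rw [show n * (n * x * n⁻¹) * n⁻¹ = (n * n) * x * (n * n)⁻¹ by group, S.comm hnn hx, mul_inv_cancel_right]
    have hperp : ∀ x ∈ E, bq q x (n * x * n⁻¹) = 0 := fun x hx => by
      have hμ := S.conj n hn x hx
      have h0 : q (x * (n * x * n⁻¹)) = 0 := (zmod_cases _).resolve_right fun h => hfree _ (E.mul_mem hx hμ) h (by
        rw [show n * (x * (n * x * n⁻¹)) * n⁻¹ = (n * x * n⁻¹) * (n * (n * x * n⁻¹) * n⁻¹) by group, hinv x hx,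
          S.comm hμ hx])
      unfold bq
      rw [h0, S.qconj n hn x hx, zero_add, add_self_two]
    obtain ⟨d, hd⟩ : ∃ d : E →* G, ∀ x : E, d x = (x : G) * (n * x * n⁻¹) :=
      ⟨{ toFun := fun x => (x : G) * (n * x * n⁻¹)
         map_one' := by simp
         map_mul' := fun x y => by
           have h := S.comm (S.conj n hn _ x.2) y.2
           calc ((x * y : E) : G) * (n * (x * y : E) * n⁻¹)
               = (x : G) * ((y : G) * (n * x * n⁻¹)) * (n * y * n⁻¹) := by rw [Subgroup.coe_mul]; group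
             _ = (x : G) * (n * x * n⁻¹) * ((y : G) * (n * y * n⁻¹)) := by rw [← h]; group }, fun x => rfl⟩
    obtain ⟨K, hK⟩ : ∃ K : Subgroup G, K = d.ker.map E.subtype := ⟨_, rfl⟩
    obtain ⟨D, hD⟩ : ∃ D : Subgroup G, D = d.range := ⟨_, rfl⟩
    have hKm : ∀ x, x ∈ K ↔ x ∈ E ∧ n * x * n⁻¹ = x := fun x => by
      rw [hK]
      constructor
      · rintro ⟨y, hy, rfl⟩
        rw [SetLike.mem_coe, MonoidHom.mem_ker, hd, mul_eq_one_iff_inv_eq, S.inv_eq y.2] at hy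
        exact ⟨y.2, hy.symm⟩
      · rintro ⟨hx, e⟩
        exact ⟨⟨x, hx⟩, by rw [SetLike.mem_coe, MonoidHom.mem_ker, hd, e, S.sq x hx], rfl⟩
    have hKE : K ≤ E := fun x hx => ((hKm x).1 hx).1
    have hDK : D ≤ K := by
      rw [hD]
      rintro _ ⟨x, rfl⟩
      have hμ := S.conj n hn _ x.2
      refine (hKm _).2 ⟨hd x ▸ E.mul_mem x.2 hμ, ?_⟩
      rw [hd, show n * ((x : G) * (n * x * n⁻¹)) * n⁻¹ = (n * x * n⁻¹) * (n * (n * x * n⁻¹) * n⁻¹) by group,
        hinv _ x.2, S.comm hμ x.2]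
    have hKq : ∀ x ∈ K, q x = 0 := fun x hx =>
      (zmod_cases _).resolve_right fun h => hfree x ((hKm x).1 hx).1 h ((hKm x).1 hx).2
    obtain ⟨P, hP, hPc⟩ := S.exists_perp hKE
    have hKP : K ≤ P := fun v hv => (hP v).2 ⟨hKE hv, fun w hw => by
      unfold bq; rw [hKq _ (K.mul_mem hv hw), hKq v hv, hKq w hw]; decide⟩
    have hcd : Nat.card K * Nat.card D = 64 := by
      rw [hD, ← Subgroup.index_ker, hK,
        ← Nat.card_congr (d.ker.equivMapOfInjective E.subtype E.subtype_injective).toEquiv, Subgroup.card_mul_index, hE]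
    have hc8 : Nat.card K = 8 ∧ Nat.card D = 8 ∧ Nat.card P = 8 := by
      have h1 := Subgroup.card_le_of_le hDK
      have h2 := Subgroup.card_le_of_le hKP
      have hK0 : 0 < Nat.card K := Nat.card_pos
      have h3 : Nat.card K = 8 := by
        refine le_antisymm ?_ ?_
        · by_contra hlt
          push Not at hlt
          have := Nat.mul_le_mul hlt (hlt.trans_le h2 : 8 < Nat.card P)
          omega
        · by_contra hlt
          push Not at hlt
          have := Nat.mul_le_mul hlt.le (h1.trans hlt.le)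
          have := Nat.mul_lt_mul_of_lt_of_le hlt (h1.trans hlt.le) (by norm_num : 0 < 8)
          omega
      refine ⟨h3, ?_, ?_⟩
      · rw [h3] at hcd; omega
      · rw [h3, hE] at hPc; omega
    have hKeqP : K = P := Subgroup.eq_of_le_of_card_ge hKP (by rw [hc8.2.2, hc8.1])
    have hDeqK : D = K := Subgroup.eq_of_le_of_card_ge hDK (by rw [hc8.2.1, hc8.1])
    have hμE : ∀ v ∈ E, n * v * n⁻¹ ∈ E := S.conj n hn
    obtain ⟨β, hβ⟩ : ∃ β : G → G → ZMod 2, ∀ u v, β u v = bq q u (v * (n * v * n⁻¹)) := ⟨_, fun _ _ => rfl⟩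
    have hdw : ∀ v ∈ E, ∀ w ∈ E, v * w * (n * (v * w) * n⁻¹) = v * (n * v * n⁻¹) * (w * (n * w * n⁻¹)) :=
      fun v hv w hw => by
        have h := S.comm (hμE v hv) hw
        calc v * w * (n * (v * w) * n⁻¹) = v * (w * (n * v * n⁻¹)) * (n * w * n⁻¹) := by group
          _ = _ := by rw [← h]; group
    rcases S.exists_radical le_rfl hKE (by rw [hE, hc8.1]) β
        (fun u hu v hv w hw => by
          rw [hβ, hβ, hβ, hdw v hv w hw, S.bq_mul hu (E.mul_mem hv (hμE v hv)) (E.mul_mem hw (hμE w hw))])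
        (fun u hu v hv w hw => by rw [hβ, hβ, hβ, S.bq_mul' hv hw (E.mul_mem hu (hμE u hu))])
        (fun u hu => by rw [hβ, S.bq_mul hu hu (hμE u hu), S.bq_self hu, hperp u hu, add_zero])
        (fun u hu v hv => by
          rw [hβ, ((hKm v).1 hv).2, S.sq v (hKE hv), S.bq_symm hu E.one_mem, S.bq_one_left hu]) with h | h
    · obtain ⟨w, hw, hne⟩ := S.nondeg _ (E.mul_mem ha (hμE a ha)) (fun e => hfree a ha hqa (by
        rw [mul_eq_one_iff_inv_eq, S.inv_eq ha] at e; exact e.symm))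
      refine hne ?_
      have h0 := h w hw a ha
      rw [hβ, S.bq_symm hw (E.mul_mem ha (hμE a ha))] at h0
      unfold bq at h0
      linear_combination h0 - (q (a * (n * a * n⁻¹)) + q w) * two_zmod
    · obtain ⟨x, hx, hxK, hxr, -⟩ := h
      refine hxK (hKeqP ▸ (hP x).2 ⟨hx, fun y hy => ?_⟩)
      obtain ⟨v, rfl⟩ : y ∈ d.range := hD ▸ hDeqK ▸ hy
      rw [hd]
      exact (hβ x v).symm.trans (hxr v v.2)
  -- no fixed anisotropic element under the square
  push Not at hone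
  have hrel : ∀ x ∈ E, n * (n * x * n⁻¹) * n⁻¹ = n * x * n⁻¹ * x := by
    intro x hx
    have key : ∀ a ∈ E, q a = 1 → n * (n * a * n⁻¹) * n⁻¹ = n * a * n⁻¹ * a := fun a ha hqa =>
      (hsq a ha hqa).resolve_left (hone a ha hqa)
    rcases zmod_cases (q x) with hqx | hqx
    swap
    · exact key x hx hqx
    obtain ⟨X₁, hX₁E, -, haX, hX₁⟩ := S.exists_adjoin (X := ⊥) bot_le ha₀
    obtain ⟨X₂, hX₂E, hX₁₂, hxX, hX₂⟩ := S.exists_adjoin hX₁E hx
    have hc2 : Nat.card X₂ ≤ 4 := by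
      have := S.card_adjoin hX₁
      have := S.card_adjoin hX₂
      omega
    obtain ⟨b, hb, hqb, hbX⟩ := S.exists_ns_perp hX₂E (hX₁₂ haX) hqa₀ ((Nat.mul_le_mul hc2 hc2).trans (by omega))
    have hbx := hbX x hxX
    have hqbx : q (b * x) = 1 := by
      unfold bq at hbx
      rw [hqb, hqx, add_zero] at hbx
      linear_combination hbx - two_zmod
    have e1 := key _ (E.mul_mem hb hx) hqbx
    have e2 := key b hb hqb
    rw [show n * (n * (b * x) * n⁻¹) * n⁻¹ = (n * (n * b * n⁻¹) * n⁻¹) * (n * (n * x * n⁻¹) * n⁻¹) by group, e2,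
      show n * (b * x) * n⁻¹ * (b * x) = (n * b * n⁻¹) * ((n * x * n⁻¹) * b) * x by group,
      S.comm (S.conj n hn x hx) hb, show n * b * n⁻¹ * (b * (n * x * n⁻¹)) * x =
        (n * b * n⁻¹ * b) * (n * x * n⁻¹ * x) by group] at e1
    exact mul_left_cancel e1
  have hL8 : Nat.card L = 8 := by
    rw [hE] at hLc
    rcases Nat.lt_trichotomy (Nat.card L) 8 with h | h | h
    · have := Nat.mul_lt_mul_of_lt_of_le h h.le (by norm_num : 0 < 8); omega
    · exact h
    · have := Nat.mul_lt_mul_of_lt_of_le h h.le Nat.card_pos; omega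
  obtain ⟨P, hP, hPc⟩ := S.exists_perp hLE
  have hLP : L = P := Subgroup.eq_of_le_of_card_ge (fun v hv => (hP v).2 ⟨hLE hv, fun w hw => by
    unfold bq; rw [hLq _ (L.mul_mem hv hw), hLq v hv, hLq w hw]; decide⟩) (by rw [hE, hL8] at hPc; omega)
  have hμE : ∀ v ∈ E, n * v * n⁻¹ ∈ E := S.conj n hn
  have hdiag : ∀ u ∈ L, bq q u (n * u * n⁻¹) = 0 := fun u hu => by
    have hq : q (n * u * n⁻¹ * u) = 0 := by
      rw [← hrel u (hLE hu), S.qconj n hn _ (hμE u (hLE hu)), S.qconj n hn u (hLE hu), hLq u hu]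
    rw [S.bq_symm (hLE hu) (hμE u (hLE hu))]
    unfold bq
    rw [hq, S.qconj n hn u (hLE hu), hLq u hu, add_zero, add_zero]
  have himage : ∀ x ∈ L, (∀ v ∈ L, bq q x (n * v * n⁻¹) = 0) →
      n * x * n⁻¹ ∈ L ∧ ∀ v ∈ L, bq q (n * x * n⁻¹) (n * v * n⁻¹) = 0 := by
    intro x hx hr
    have hxx : ∀ v ∈ L, bq q x v = 0 := fun v hv => ((hP x).1 (hLP ▸ hx)).2 v hv
    have h1 : ∀ v ∈ L, bq q (n * x * n⁻¹) (n * v * n⁻¹) = 0 := fun v hv => by
      rw [S.bq_conj hn (hLE hx) (hLE hv)]; exact hxx v hv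
    refine ⟨hLP.symm ▸ (hP _).2 ⟨hμE x (hLE hx), fun v hv => ?_⟩, h1⟩
    rw [← S.bq_conj hn (hμE x (hLE hx)) (hLE hv), hrel x (hLE hx),
      S.bq_mul' (hμE x (hLE hx)) (hLE hx) (hμE v (hLE hv)), h1 v hv, hr v hv, add_zero]
  rcases S.exists_radical hLE (K := ⊥) bot_le (by rw [hL8, hbot]) (fun u v => bq q u (n * v * n⁻¹))
      (fun u hu v hv w hw => by
        rw [show n * (v * w) * n⁻¹ = (n * v * n⁻¹) * (n * w * n⁻¹) by group,
          S.bq_mul (hLE hu) (hμE v (hLE hv)) (hμE w (hLE hw))])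
      (fun u hu v hv w hw => S.bq_mul' (hLE hv) (hLE hw) (hμE u (hLE hu))) hdiag
      (fun u hu v hv => by
        rw [Subgroup.mem_bot] at hv
        subst hv
        rw [mul_one, mul_inv_cancel, S.bq_symm (hLE hu) E.one_mem, S.bq_one_left (hLE hu)]) with h | h
  · -- the singular subgroup is invariant
    have hinvL : ∀ v ∈ L, n * v * n⁻¹ ∈ L := fun v hv => (himage v hv (h v hv)).1
    obtain ⟨x, hx, hx1⟩ : ∃ x ∈ L, x ≠ 1 := by
      by_contra hc
      push Not at hc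
      have := Subgroup.card_eq_one.2 ((Subgroup.eq_bot_iff_forall L).2 hc)
      omega
    have hxE := hLE hx
    have hμne : n * x * n⁻¹ ≠ x := fun e => hx1 (by
      have h' := hrel x hxE
      rw [e, e, S.sq x hxE] at h'
      exact h')
    have hμ1 : n * x * n⁻¹ ≠ 1 := fun e => hx1 (by rwa [mul_inv_eq_one, mul_eq_left] at e)
    obtain ⟨V₁, hV₁E, -, hxV, hV₁⟩ := S.exists_adjoin (X := ⊥) bot_le hxE
    obtain ⟨V, hVE, hV₁₂, hμV, hV⟩ := S.exists_adjoin hV₁E (hμE x hxE)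
    have hV₁L : V₁ ≤ L := fun v hv => by
      rcases hV₁ v hv with e | e <;> rw [Subgroup.mem_bot] at e
      · exact e ▸ L.one_mem
      · rw [mul_eq_one_iff_inv_eq, S.inv_eq hxE] at e
        exact e ▸ hx
    have hVL : V ≤ L := fun v hv => by
      rcases hV v hv with e | e
      · exact hV₁L e
      · exact (L.mul_mem_cancel_left (hinvL x hx)).1 (hV₁L e)
    have hVinv : ∀ v ∈ V, n * v * n⁻¹ ∈ V := by
      have h1 : ∀ v ∈ V₁, n * v * n⁻¹ ∈ V := fun v hv => by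
        rcases hV₁ v hv with e | e <;> rw [Subgroup.mem_bot] at e
        · rw [e, mul_one, mul_inv_cancel]; exact V.one_mem
        · rw [mul_eq_one_iff_inv_eq, S.inv_eq hxE] at e
          exact e ▸ hμV
      intro v hv
      rcases hV v hv with e | e
      · exact h1 v e
      · have h2 := h1 _ e
        rw [show n * (n * x * n⁻¹ * v) * n⁻¹ = n * (n * x * n⁻¹) * n⁻¹ * (n * v * n⁻¹) by group, hrel x hxE] at h2
        exact (V.mul_mem_cancel_left (V.mul_mem hμV (hV₁₂ hxV))).1 h2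
    obtain ⟨y, hy, hyV⟩ : ∃ y ∈ L, y ∉ V := SetLike.not_le_iff_exists.1 fun hle => by
      have := Subgroup.card_le_of_le hle
      have := S.card_adjoin hV₁
      have := S.card_adjoin hV
      omega
    obtain ⟨W, hWE, hVW, hyW, hW⟩ := S.exists_adjoin hVE (hLE hy)
    have hWL : W ≤ L := fun v hv => by
      rcases hW v hv with e | e
      · exact hVL e
      · exact (L.mul_mem_cancel_left hy).1 (hVL e)
    have hV4 : 4 ≤ Nat.card V := by
      have h1 := S.card_double (X := ⊥) bot_le hxV (fun e => hx1 (Subgroup.mem_bot.1 e))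
      have h2 := S.card_double hV₁₂ hμV (fun e => by
        rcases hV₁ _ e with e | e <;> rw [Subgroup.mem_bot] at e
        · exact hμ1 e
        · rw [mul_eq_one_iff_inv_eq, S.inv_eq hxE] at e
          exact hμne e.symm)
      omega
    have hWeq : W = L := Subgroup.eq_of_le_of_card_ge hWL (by have := S.card_double hVW hyW hyV; omega)
    have hyE := hLE hy
    rcases hW _ (hWeq.symm ▸ hinvL y hy) with e | e
    · refine hyV ?_
      have h2 := hVinv _ e
      rw [hrel y hyE] at h2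
      exact (V.mul_mem_cancel_left e).1 h2
    · refine hyV ?_
      have h2 := hVinv _ e
      rw [show n * (y * (n * y * n⁻¹)) * n⁻¹ = n * y * n⁻¹ * (n * (n * y * n⁻¹) * n⁻¹) by group, hrel y hyE,
        S.bq_cancel (hμE y hyE) hyE] at h2
      exact h2
  · obtain ⟨x, hx, hxK, hxr, huniq⟩ := h
    obtain ⟨hμL, hμr⟩ := himage x hx hxr
    have hxE := hLE hx
    rcases huniq _ hμL hμr with e | e <;> rw [Subgroup.mem_bot] at e
    · rw [mul_inv_eq_one, mul_eq_left] at e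
      exact hxK (Subgroup.mem_bot.2 e)
    · rw [mul_eq_one_iff_inv_eq, S.inv_eq hxE] at e
      have h' := hrel x hxE
      rw [← e, ← e, S.sq x hxE] at h'
      exact hxK (Subgroup.mem_bot.2 h')

/-- The conclusion. -/
theorem eq_top_of_kernel : E = ⊤ := by
  have hle := S.normaliser_le hNm hC hT hE hL
  haveI : Fact (Nat.Prime 2) := ⟨Nat.prime_two⟩
  have hEp : IsPGroup 2 E := fun x => ⟨1, Subtype.ext (by rw [pow_one, Subgroup.coe_pow, _root_.sq, S.sq x x.2]; rfl)⟩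
  obtain ⟨P, hP⟩ := hEp.exists_le_sylow
  have hnorm : ∀ g ∈ Subgroup.normalizer (E : Set G), g ∈ E := fun g hg =>
    hle (hNm g fun x hx => (Subgroup.mem_normalizer_iff.1 hg x).1 hx)
  have hPE : E = (P : Subgroup G) := by
    haveI : Group.IsNilpotent (P : Subgroup G) := P.2.isNilpotent
    have hnc := normalizerCondition_of_isNilpotent (G := (P : Subgroup G))
    have h : E.subgroupOf P = ⊤ := (normalizerCondition_iff_only_full_group_self_normalizing.1 hnc) _ (by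
      refine le_antisymm (fun g hg => ?_) Subgroup.le_normalizer
      rw [Subgroup.mem_subgroupOf]
      refine hle (hNm _ fun x hx => ?_)
      have := (Subgroup.mem_normalizer_iff.1 hg ⟨x, hP hx⟩).1 (by simpa [Subgroup.mem_subgroupOf] using hx)
      simpa [Subgroup.mem_subgroupOf] using this)
    exact le_antisymm hP (Subgroup.subgroupOf_eq_top.1 h)
  haveI : (P : Subgroup G).FiniteIndex := inferInstance
  have hP' : Subgroup.normalizer (P : Set G) ≤ Subgroup.centralizer (P : Set G) := by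
    intro g hg
    have hgE : g ∈ E := hnorm g (by
      rw [hPE]
      exact hg)
    intro x hx
    exact S.comm (hPE ▸ hx) hgE
  obtain ⟨O, hO⟩ : ∃ O, O = (MonoidHom.transferSylow P hP').ker := ⟨_, rfl⟩
  have hcompl : Subgroup.IsComplement' O (P : Subgroup G) := hO ▸ MonoidHom.ker_transferSylow_isComplement' P hP'
  haveI hOn : O.Normal := hO ▸ inferInstance
  have hdisj : ∀ x ∈ O, x ∈ E → x = 1 := fun x hx hxE => by
    have := hcompl.disjoint
    rw [Subgroup.disjoint_def] at this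
    exact this hx (hPE ▸ hxE)
  have hinvert : ∀ a ∈ E, q a = 1 → ∀ x ∈ O, a * x * a⁻¹ = x⁻¹ := by
    intro a ha hqa x hx
    have hcj : ∀ y ∈ O, a * y * a⁻¹ ∈ O := fun y hy => hOn.conj_mem y hy a
    obtain ⟨f, hf⟩ : ∃ f : O → O, ∀ y : O, (f y : G) = (y : G)⁻¹ * (a * y * a⁻¹) :=
      ⟨fun y => ⟨_, O.mul_mem (O.inv_mem y.2) (hcj y y.2)⟩, fun y => rfl⟩
    have hinj : Function.Injective f := fun y z he => by
      have h1 : (y : G)⁻¹ * (a * y * a⁻¹) = (z : G)⁻¹ * (a * z * a⁻¹) := by rw [← hf, ← hf, he]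
      refine Subtype.ext (mul_inv_eq_one.1 (hdisj _ (O.mul_mem y.2 (O.inv_mem z.2)) (hC a ha hqa _ ?_)))
      have h2 : a * ((y : G) * (z : G)⁻¹) * a⁻¹ = (y : G) * (z : G)⁻¹ := by
        calc a * ((y : G) * (z : G)⁻¹) * a⁻¹ = (y : G) * ((y : G)⁻¹ * (a * y * a⁻¹)) * (a * z * a⁻¹)⁻¹ := by group
          _ = _ := by rw [h1]; group
      exact mul_inv_eq_iff_eq_mul.2 (mul_inv_eq_iff_eq_mul.1 h2).symm
    obtain ⟨y, hy⟩ := (Finite.injective_iff_surjective.1 hinj) ⟨x, hx⟩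
    have hxy : x = (y : G)⁻¹ * (a * y * a⁻¹) := by rw [← hf, hy]
    have hai := S.inv_eq ha
    calc a * x * a⁻¹ = a * (y : G)⁻¹ * a⁻¹ * ((a * a) * y * (a * a)⁻¹) := by rw [hxy]; group
      _ = a * (y : G)⁻¹ * a⁻¹ * y := by rw [S.sq a ha, inv_one, one_mul, mul_one]
      _ = x⁻¹ := by rw [hxy]; group
  -- an anisotropic plane
  obtain ⟨a, ha, b, hb, hqa, hqb, hqab⟩ : ∃ a ∈ E, ∃ b ∈ E, q a = 1 ∧ q b = 1 ∧ q (a * b) = 1 := by
    obtain ⟨L, hLE, hLq, hLc⟩ := hL
    have hne : ¬ E ≤ L := fun h => by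
      have h1 := Subgroup.card_le_of_le h
      have h2 := Nat.mul_le_mul h1 h1
      rw [hLc] at h2
      have h0 : 0 < Nat.card E := Nat.card_pos
      have := Nat.le_of_mul_le_mul_left (h2.trans (mul_one _).ge) h0
      omega
    obtain ⟨z₀, hz₀, hqz₀⟩ : ∃ z ∈ E, q z = 1 := by
      by_contra hcon
      push Not at hcon
      obtain ⟨x, hx, hx'⟩ := SetLike.not_le_iff_exists.1 hne
      obtain ⟨v, hv, hv'⟩ := S.nondeg x hx (fun e => hx' (e ▸ L.one_mem))
      have h0 : ∀ x ∈ E, q x = 0 := fun x hx => (zmod_cases _).resolve_right (hcon x hx)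
      exact hv' (by rw [h0 _ (E.mul_mem hx hv), h0 x hx, h0 v hv, add_zero])
    obtain ⟨Z, hZE, -, hzZ, hZ⟩ := S.exists_adjoin (X := ⊥) bot_le hz₀
    have hZ2 : Nat.card Z ≤ 2 := by
      have := S.card_adjoin hZ
      have h1 : Nat.card (⊥ : Subgroup G) = 1 := Subgroup.card_bot
      omega
    obtain ⟨v, hv, -, hv1⟩ := S.exists_sep (X := ⊥) bot_le hz₀ (fun e => by
      rw [Subgroup.mem_bot.1 e, S.q_one] at hqz₀
      exact zero_ne_one hqz₀)
    have hprod : ∀ w ∈ E, q w = 1 → bq q w z₀ = 1 → q (z₀ * w) = 1 := fun w hw hqw h => by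
      rw [S.bq_symm hw hz₀] at h
      unfold bq at h
      rw [hqw, hqz₀] at h
      linear_combination h - two_zmod
    rcases zmod_cases (q v) with hqv | hqv
    swap
    · exact ⟨z₀, hz₀, v, hv, hqz₀, hqv, hprod v hv hqv hv1⟩
    obtain ⟨Z', hZ'E, hZZ', hvZ, hZ'⟩ := S.exists_adjoin hZE hv
    have hZ4 : Nat.card Z' ≤ 4 := by
      have := S.card_adjoin hZ'
      omega
    obtain ⟨w, hw, hqw, hwp⟩ := S.exists_ns_perp hZ'E (hZZ' hzZ) hqz₀ ((Nat.mul_le_mul hZ4 hZ4).trans (by omega))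
    have hwv := hwp v hvZ
    rw [S.bq_symm hw hv] at hwv
    unfold bq at hwv
    rw [hqv, hqw, add_zero] at hwv
    refine ⟨z₀, hz₀, v * w, E.mul_mem hv hw, hqz₀, by linear_combination hwv - two_zmod,
      hprod _ (E.mul_mem hv hw) (by linear_combination hwv - two_zmod) ?_⟩
    rw [S.bq_mul' hv hw hz₀, hv1, hwp z₀ (hZZ' hzZ), add_zero]
  refine eq_top_iff.2 fun g _ => ?_
  have htriv : ∀ x ∈ O, x = 1 := fun x hx => by
    have h1 := hinvert a ha hqa x hx
    have h2 := hinvert b hb hqb x hx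
    have h3 := hinvert _ (E.mul_mem ha hb) hqab x hx
    rw [show a * b * x * (a * b)⁻¹ = a * (b * x * b⁻¹) * a⁻¹ by group, h2,
      show a * x⁻¹ * a⁻¹ = (a * x * a⁻¹)⁻¹ by group, h1, inv_inv] at h3
    refine hdisj x hx ?_
    exact hC a ha hqa x (by
      rw [mul_inv_eq_iff_eq_mul]
      refine (mul_inv_eq_iff_eq_mul.1 ?_).symm
      rw [h1]; exact h3.symm)
  obtain ⟨⟨⟨o, ho⟩, ⟨e, he⟩⟩, hoe⟩ := hcompl.existsUnique g |>.exists
  rw [← hoe]
  simp only [htriv o ho, one_mul]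
  exact hPE.symm ▸ he

end Kernel

end QuadSub

end CfsgLib.Classical22.C6Plus
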