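/-
Coordinates for the isometries commuting with a square root of minus one, when minus one is a square: the linear
group of an eigenspace; and the whole group as soon as its special linear part is present.
-/
import Cfsg.Agent.Lib.Classical22.C6Plus.Half
import Cfsg.Agent.Lib.Classical22.OrthMaxPair

set_option autoImplicit false
set_option maxHeartbeats 800000

namespace CfsgLib.Classical22.C6Plus

open Matrix CfsgLib.Classical CfsgLib.Classical22.C6Four
open scoped MatrixGroups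

variable {ι : Type} [Fintype ι] [DecidableEq ι] {F : Type*} [Field F]

/-- A basis of the `i`-eigenspace of `a`, with the projection in its coordinates. -/
structure Eigen (a : GL ι F) (i : F) {d : ℕ} (P : Matrix ι (Fin d) F) (P' : Matrix (Fin d) ι F) : Prop where
  right : P' * P = 1
  proj : P * P' = (2 : F)⁻¹ • (1 - i • (a : Matrix ι ι F))

theorem exists_eigen (h2 : (2 : F) ≠ 0) {a : GL ι F} (haa : a * a = -1) {i : F} (hi : i * i = -1) :
    ∃ (d : ℕ) (P : Matrix ι (Fin d) F) (P' : Matrix (Fin d) ι F), Eigen a i P P' := by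
  obtain ⟨E0, hE⟩ : ∃ E0 : Matrix ι ι F, E0 = (2 : F)⁻¹ • (1 - i • (a : Matrix ι ι F)) := ⟨_, rfl⟩
  have haa' : (a : Matrix ι ι F) * a = -1 := by rw [← Units.val_mul, haa, Units.val_neg, Units.val_one]
  have hidem : E0 * E0 = E0 := by
    rw [hE, smul_mul_smul_comm, show (1 - i • (a : Matrix ι ι F)) * (1 - i • (a : Matrix ι ι F)) =
      (2 : F) • (1 - i • (a : Matrix ι ι F)) by
      rw [sub_mul, one_mul, mul_sub, mul_one, smul_mul_smul_comm, hi, haa', neg_one_smul, neg_neg, two_smul]; abel,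
      smul_smul]
    congr 1
    field_simp
  obtain ⟨W, hW⟩ : ∃ W, W = LinearMap.range E0.toLin' := ⟨_, rfl⟩
  obtain ⟨d, hd⟩ : ∃ d, Module.finrank F W = d := ⟨_, rfl⟩
  let eW : (Fin d → F) ≃ₗ[F] W := (Module.finBasisOfFinrankEq F W hd).equivFun.symm
  let pW : (ι → F) →ₗ[F] W := E0.toLin'.codRestrict W fun v => hW ▸ ⟨v, rfl⟩
  refine ⟨d, LinearMap.toMatrix' (W.subtype ∘ₗ eW.toLinearMap), LinearMap.toMatrix' (eW.symm.toLinearMap ∘ₗ pW), ?_, ?_⟩
  · rw [← LinearMap.toMatrix'_comp, ← LinearMap.toMatrix'_id]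
    congr 1
    refine LinearMap.ext fun u => eW.injective ?_
    simp only [LinearMap.comp_apply, LinearEquiv.coe_coe, LinearEquiv.apply_symm_apply, LinearMap.id_apply]
    refine Subtype.ext ?_
    obtain ⟨w, hw⟩ : (eW u : ι → F) ∈ LinearMap.range E0.toLin' := hW ▸ (eW u).2
    simp only [pW, LinearMap.codRestrict_apply, Submodule.subtype_apply]
    rw [← hw, Matrix.toLin'_apply, Matrix.toLin'_apply, Matrix.mulVec_mulVec, hidem]
  · rw [← LinearMap.toMatrix'_comp, ← hE, ← LinearMap.toMatrix'_toLin' E0]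
    congr 1
    refine LinearMap.ext fun v => ?_
    simp only [LinearMap.comp_apply, LinearEquiv.coe_coe, LinearEquiv.apply_symm_apply, pW,
      LinearMap.codRestrict_apply, Submodule.subtype_apply]

/-- The restriction to the eigenspace. -/
def sPhi {d : ℕ} (P : Matrix ι (Fin d) F) (P' : Matrix (Fin d) ι F) (X : Matrix ι ι F) : Matrix (Fin d) (Fin d) F :=
  P' * X * P

namespace Eigen

variable [Fintype F] {a : GL ι F} {i : F} {d : ℕ} {P : Matrix ι (Fin d) F} {P' : Matrix (Fin d) ι F}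
  (E : Eigen a i P P') (h2 : (2 : F) ≠ 0) (haa : a * a = -1) (hi : i * i = -1)
include E

omit [Fintype F] in
lemma absorb_left : P * P' * P = P := by rw [Matrix.mul_assoc, E.right, Matrix.mul_one]

omit [Fintype F] in
lemma absorb_right : P' * (P * P') = P' := by rw [← Matrix.mul_assoc, E.right, Matrix.one_mul]

omit [Fintype F] in
lemma proj_comm {X : Matrix ι ι F} (hX : X * a = a * X) : X * (P * P') = P * P' * X := by
  rw [E.proj, mul_smul_comm, smul_mul_assoc, mul_sub, sub_mul, mul_one, one_mul, mul_smul_comm, smul_mul_assoc, hX]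

omit [Fintype F] in
lemma phi_mul {X Y : Matrix ι ι F} (hY : Y * a = a * Y) : sPhi P P' (X * Y) = sPhi P P' X * sPhi P P' Y := by
  have e : P * P' * (Y * P) = Y * P := by
    rw [← Matrix.mul_assoc, ← E.proj_comm hY, Matrix.mul_assoc, E.absorb_left]
  simp only [sPhi, Matrix.mul_assoc]
  simp only [Matrix.mul_assoc] at e
  rw [e]

omit [Fintype F] in
include h2 haa hi in
lemma a_left : (a : Matrix ι ι F) * P = i • P := by
  have haa' : (a : Matrix ι ι F) * a = -1 := by rw [← Units.val_mul, haa, Units.val_neg, Units.val_one]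
  have e : (a : Matrix ι ι F) * (P * P') = i • (P * P') := by
    rw [E.proj, mul_smul_comm, smul_comm i, mul_sub, mul_one, mul_smul_comm, haa']
    congr 1
    rw [smul_sub, smul_smul, hi, neg_smul, one_smul, smul_neg, sub_neg_eq_add, sub_neg_eq_add, add_comm]
  calc (a : Matrix ι ι F) * P = (a : Matrix ι ι F) * (P * P') * P := by rw [Matrix.mul_assoc, E.absorb_left]
    _ = i • P := by rw [e, Matrix.smul_mul, E.absorb_left]

omit [Fintype F] in
include h2 haa hi in
lemma a_right : P' * (a : Matrix ι ι F) = i • P' := by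
  calc P' * (a : Matrix ι ι F) = P' * (P * P' * (a : Matrix ι ι F)) := by rw [← Matrix.mul_assoc P', E.absorb_right]
    _ = P' * ((a : Matrix ι ι F) * (P * P')) := by rw [E.proj_comm rfl]
    _ = i • P' := by
      rw [← Matrix.mul_assoc (a : Matrix ι ι F), E.a_left h2 haa hi, Matrix.smul_mul, Matrix.mul_smul, E.absorb_right]

variable {Q : QuadraticForm F (ι → F)} (hQ : PolarNondeg Q) (hai : a ∈ Cfsg.isometryGroup F ⇑Q)

include h2 hi hai in
lemma sing {v : ι → F} {c : F} (hc : c * c = -1) (hv : (a : Matrix ι ι F) *ᵥ v = c • v) : Q v = 0 := by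
  have h := mem_iso.1 hai v
  rw [hv, QuadraticMap.map_smul, hc, neg_one_smul] at h
  exact CfsgLib.Classical22.C6Plus.two_smul_eq_zero h2 h.symm

omit [Fintype F] in
include h2 haa hi in
lemma split_vec (v : ι → F) : (a : Matrix ι ι F) *ᵥ ((P * P') *ᵥ v) = i • ((P * P') *ᵥ v) ∧
    (a : Matrix ι ι F) *ᵥ (v - (P * P') *ᵥ v) = (-i) • (v - (P * P') *ᵥ v) := by
  have e1 : (a : Matrix ι ι F) *ᵥ ((P * P') *ᵥ v) = i • ((P * P') *ᵥ v) := by
    rw [Matrix.mulVec_mulVec, ← Matrix.mul_assoc, E.a_left h2 haa hi, Matrix.smul_mul, Matrix.smul_mulVec]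
  refine ⟨e1, ?_⟩
  rw [Matrix.mulVec_sub, e1]
  have e2 : (a : Matrix ι ι F) = (2 * i) • (P * P') - i • 1 := by
    rw [E.proj, smul_smul, smul_sub, smul_smul, show 2 * i * (2 : F)⁻¹ = i by field_simp, hi, neg_one_smul]
    abel
  conv_lhs => rw [e2, Matrix.sub_mulVec, Matrix.smul_mulVec, Matrix.smul_mulVec, Matrix.one_mulVec]
  module

include h2 haa hi hQ hai in
/-- The coordinates. -/
theorem half : Half Q a (RingHom.id F) (sPhi P P') i (RingHom.id F) (fun _ _ => (0 : F)) := by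
  have hpol : ∀ g : GL ι F, g ∈ Cfsg.isometryGroup F ⇑Q → ∀ u v,
      QuadraticMap.polar Q ((g : Matrix ι ι F) *ᵥ u) ((g : Matrix ι ι F) *ᵥ v) = QuadraticMap.polar Q u v :=
    fun g hg u v => by
      simp only [QuadraticMap.polar, ← Matrix.mulVec_add, mem_iso.1 hg]
  refine ⟨fun X Y _ _ => by simp only [sPhi, Matrix.mul_add, Matrix.add_mul],
    fun c X _ => by simp only [sPhi, Matrix.mul_smul, Matrix.smul_mul, RingHom.id_apply],
    fun X Y _ hY => E.phi_mul hY, by rw [sPhi, Matrix.mul_one, E.right], ?_, hi, ?_, ?_,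
    ⟨fun _ _ _ => (add_zero 0).symm, fun _ _ _ => (add_zero 0).symm, fun _ _ _ => (mul_zero _).symm,
      fun _ _ _ => (mul_zero _).symm, fun _ _ _ _ => rfl, fun _ _ => mul_zero _⟩,
    Or.inl fun _ _ => rfl, fun _ _ _ _ _ => rfl, ?_⟩
  · rw [sPhi, Matrix.mul_assoc, E.a_left h2 haa hi, Matrix.mul_smul, E.right]
  · intro M
    refine ⟨P * M * P', ?_, ?_⟩
    · rw [Matrix.mul_assoc (P * M), E.a_right h2 haa hi, Matrix.mul_smul, ← Matrix.mul_assoc, ← Matrix.mul_assoc,
        E.a_left h2 haa hi, Matrix.smul_mul, Matrix.smul_mul]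
    · simp only [sPhi, Matrix.mul_assoc, E.right, Matrix.mul_one]
      rw [← Matrix.mul_assoc, E.right, Matrix.one_mul]
  · intro g hg hga hΦ
    have hgc : (g : Matrix ι ι F) * a = a * (g : Matrix ι ι F) := congrArg Units.val hga
    have hfix : (g : Matrix ι ι F) * (P * P') = P * P' := by
      calc (g : Matrix ι ι F) * (P * P') = (g : Matrix ι ι F) * (P * P') * (P * P') := by
            rw [Matrix.mul_assoc, Matrix.mul_assoc P, E.absorb_right]
        _ = P * P' * (g : Matrix ι ι F) * (P * P') := by rw [E.proj_comm hgc]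
        _ = P * (sPhi P P' (g : Matrix ι ι F)) * P' := by simp only [sPhi, Matrix.mul_assoc]
        _ = P * P' := by rw [hΦ, Matrix.mul_one]
    refine Units.ext (Matrix.ext_of_mulVec_single fun j => ?_)
    rw [Units.val_one, Matrix.one_mulVec]
    obtain ⟨v, hv⟩ : ∃ v : ι → F, v = Pi.single j 1 := ⟨_, rfl⟩
    rw [← hv]
    obtain ⟨u, hu⟩ : ∃ u, u = (g : Matrix ι ι F) *ᵥ v - v := ⟨_, rfl⟩
    refine sub_eq_zero.1 (hu ▸ hQ u fun x => ?_)
    obtain ⟨x0, hx0⟩ : ∃ x0, x0 = (P * P') *ᵥ x := ⟨_, rfl⟩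
    have h0 : (P * P') *ᵥ u = 0 := by
      rw [hu, Matrix.mulVec_sub, Matrix.mulVec_mulVec, ← E.proj_comm hgc, hfix, sub_self]
    have hgx : (g : Matrix ι ι F) *ᵥ x0 = x0 := by rw [hx0, Matrix.mulVec_mulVec, hfix]
    have e1 : QuadraticMap.polar Q u x0 = 0 := by
      rw [hu, QuadraticMap.polar_sub_left]
      nth_rewrite 1 [← hgx]
      rw [hpol g hg, sub_self]
    have hu' : (a : Matrix ι ι F) *ᵥ u = (-i) • u := by
      have := (E.split_vec h2 haa hi u).2
      rwa [h0, sub_zero] at this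
    have hx' := (E.split_vec h2 haa hi x).2
    rw [← hx0] at hx'
    have e2 : QuadraticMap.polar Q u (x - x0) = 0 := by
      have h := hpol a hai u (x - x0)
      rw [hu', hx', QuadraticMap.polar_smul_left, QuadraticMap.polar_smul_right, smul_eq_mul, smul_eq_mul,
        ← mul_assoc, neg_mul_neg, hi, neg_one_mul] at h
      exact CfsgLib.Classical22.C6Plus.two_smul_eq_zero h2 h.symm
    rw [show x = x0 + (x - x0) by abel, QuadraticMap.polar_add_right, e1, e2, add_zero]
  · intro A _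
    obtain ⟨G, hG⟩ : ∃ G : Matrix ι ι F,
        G = LinearMap.toMatrix₂' F (QuadraticMap.polarBilin Q) := ⟨_, rfl⟩
    have hB : ∀ u v, QuadraticMap.polar Q u v = u ⬝ᵥ (G *ᵥ v) := fun u v => by
      rw [hG, ← Matrix.toLinearMap₂'_apply', Matrix.toLinearMap₂'_toMatrix']
      rfl
    have hGu : IsUnit G := by
      rw [← Matrix.mulVec_injective_iff_isUnit]
      intro u v h
      have h' : G *ᵥ u = G *ᵥ v := h
      refine sub_eq_zero.1 (hQ _ fun x => ?_)
      rw [QuadraticMap.polar_comm, hB, Matrix.mulVec_sub, h', sub_self, dotProduct_zero]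
    obtain ⟨Gu, rfl⟩ := hGu
    obtain ⟨X, hX⟩ : ∃ X, X = P * ((A⁻¹ : GL (Fin d) F) : Matrix (Fin d) (Fin d) F) * P' := ⟨_, rfl⟩
    obtain ⟨Y, hY⟩ : ∃ Y, Y = ((Gu⁻¹ : GL ι F) : Matrix ι ι F) * Xᵀ * (Gu : Matrix ι ι F) := ⟨_, rfl⟩
    have hadj : ∀ u v, QuadraticMap.polar Q u (Y *ᵥ v) = QuadraticMap.polar Q (X *ᵥ u) v := fun u v => by
      rw [hB, hB, hY, Matrix.mulVec_mulVec, ← Matrix.mul_assoc, ← Matrix.mul_assoc, Units.mul_inv, Matrix.one_mul,
        ← Matrix.mulVec_mulVec, Matrix.dotProduct_mulVec, Matrix.vecMul_transpose]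
    have hXa : X * (a : Matrix ι ι F) = i • X := by
      rw [hX, Matrix.mul_assoc _ P', E.a_right h2 haa hi, Matrix.mul_smul]
    have haX : (a : Matrix ι ι F) * X = i • X := by
      rw [hX, ← Matrix.mul_assoc, ← Matrix.mul_assoc, E.a_left h2 haa hi, Matrix.smul_mul, Matrix.smul_mul]
    have hai' : ∀ u v, QuadraticMap.polar Q ((a : Matrix ι ι F) *ᵥ u) v = -QuadraticMap.polar Q u ((a : Matrix ι ι F) *ᵥ v) :=
      fun u v => by
        rw [← hpol a hai u ((a : Matrix ι ι F) *ᵥ v), Matrix.mulVec_mulVec v, ← Units.val_mul, haa, Units.val_neg,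
          Units.val_one, Matrix.neg_mulVec, Matrix.one_mulVec, QuadraticMap.polar_neg_right, neg_neg]
    have haY : (a : Matrix ι ι F) * Y = (-i) • Y := Matrix.ext_of_mulVec_single fun j => by
      refine sub_eq_zero.1 (hQ _ fun x => ?_)
      rw [QuadraticMap.polar_comm, QuadraticMap.polar_sub_right, sub_eq_zero, ← Matrix.mulVec_mulVec,
        Matrix.smul_mulVec, QuadraticMap.polar_smul_right, ← neg_neg (QuadraticMap.polar Q x ((a : Matrix ι ι F) *ᵥ _)),
        ← hai', hadj, hadj, Matrix.mulVec_mulVec, hXa, Matrix.smul_mulVec, QuadraticMap.polar_smul_left, neg_smul]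
    have hYa : Y * (a : Matrix ι ι F) = (-i) • Y := Matrix.ext_of_mulVec_single fun j => by
      refine sub_eq_zero.1 (hQ _ fun x => ?_)
      rw [QuadraticMap.polar_comm, QuadraticMap.polar_sub_right, sub_eq_zero, ← Matrix.mulVec_mulVec,
        Matrix.smul_mulVec, QuadraticMap.polar_smul_right, hadj, hadj,
        ← neg_neg (QuadraticMap.polar Q (X *ᵥ x) ((a : Matrix ι ι F) *ᵥ _)), ← hai', Matrix.mulVec_mulVec, haX,
        Matrix.smul_mulVec, QuadraticMap.polar_smul_left, neg_smul]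
    have hPY : P * P' * Y = 0 := by
      rw [E.proj, smul_mul_assoc, sub_mul, one_mul, smul_mul_assoc, haY, smul_smul, mul_neg, hi, neg_neg, one_smul,
        sub_self, smul_zero]
    have hP'Y : P' * Y = 0 := by
      rw [← E.absorb_right, Matrix.mul_assoc, hPY, Matrix.mul_zero]
    obtain ⟨M, hM⟩ : ∃ M, M = P * (A : Matrix (Fin d) (Fin d) F) * P' + Y := ⟨_, rfl⟩
    have hMQ : ∀ v, Q (M *ᵥ v) = Q v := by
      intro v
      obtain ⟨v0, hv0⟩ : ∃ v0, v0 = (P * P') *ᵥ v := ⟨_, rfl⟩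
      obtain ⟨s, hs⟩ : ∃ s, s = (P * (A : Matrix (Fin d) (Fin d) F) * P') *ᵥ v := ⟨_, rfl⟩
      have hsv := E.split_vec h2 haa hi v
      rw [← hv0] at hsv
      have hni : -i * -i = -1 := by rw [neg_mul_neg, hi]
      have q0 : Q v0 = 0 := sing E h2 hi hai hi hsv.1
      have q1 : Q (v - v0) = 0 := sing E h2 hi hai hni hsv.2
      have q2 : Q s = 0 := sing E h2 hi hai hi (by
        rw [hs, Matrix.mulVec_mulVec, ← Matrix.mul_assoc, ← Matrix.mul_assoc, E.a_left h2 haa hi, Matrix.smul_mul,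
          Matrix.smul_mul, Matrix.smul_mulVec])
      have q3 : Q (Y *ᵥ v) = 0 := sing E h2 hi hai hni (by
        rw [Matrix.mulVec_mulVec, haY, Matrix.smul_mulVec])
      have hXs : X *ᵥ s = v0 := by
        rw [hs, hX, hv0, Matrix.mulVec_mulVec]
        congr 1
        simp only [Matrix.mul_assoc]
        rw [← Matrix.mul_assoc P' P, E.right, Matrix.one_mul, ← Matrix.mul_assoc _ (A : Matrix (Fin d) (Fin d) F),
          Units.inv_mul, Matrix.one_mul]
      have e := hadj s v
      rw [hXs] at e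
      rw [hM, Matrix.add_mulVec, ← hs, QuadraticMap.map_add ⇑Q, q2, q3, e]
      conv_rhs => rw [show v = v0 + (v - v0) by abel, QuadraticMap.map_add ⇑Q]
      rw [q0, q1, QuadraticMap.polar_sub_right, QuadraticMap.polar_self, q0, smul_zero, sub_zero]
    have hinj : Function.Injective M.mulVec := by
      intro u v h
      have h' : M *ᵥ u = M *ᵥ v := h
      refine sub_eq_zero.1 (hQ _ fun x => ?_)
      have hp : ∀ y z, QuadraticMap.polar Q (M *ᵥ y) (M *ᵥ z) = QuadraticMap.polar Q y z := fun y z => by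
        simp only [QuadraticMap.polar, ← Matrix.mulVec_add, hMQ]
      rw [← hp, Matrix.mulVec_sub, h', sub_self, QuadraticMap.polar_zero_left]
    obtain ⟨g, hg⟩ := Matrix.mulVec_injective_iff_isUnit.1 hinj
    refine ⟨g, mem_iso.2 fun v => by rw [hg]; exact hMQ v, Units.ext ?_, ?_⟩
    · rw [Units.val_mul, Units.val_mul, hg, hM, Matrix.add_mul, Matrix.mul_add, hYa, haY, Matrix.mul_assoc _ P',
        E.a_right h2 haa hi, Matrix.mul_smul, ← Matrix.mul_assoc (a : Matrix ι ι F), ← Matrix.mul_assoc (a : Matrix ι ι F),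
        E.a_left h2 haa hi, Matrix.smul_mul, Matrix.smul_mul]
    · rw [hg, hM, sPhi, Matrix.mul_add, hP'Y, add_zero, ← Matrix.mul_assoc, ← Matrix.mul_assoc, E.right,
        Matrix.one_mul, Matrix.mul_assoc, E.right, Matrix.mul_one]

include h2 haa hi hQ hai in
/-- The whole group, given the special linear part and two moving elements. -/
theorem full (hd : 5 ≤ d) (hn : 5 ≤ Fintype.card ι) {H : Subgroup (GL ι F)} (hH : H ≤ Cfsg.Geo.omegaGL ⇑Q)
    (hfull : ∀ g : GL ι F, g ∈ Cfsg.isometryGroup F ⇑Q → g * a = a * g → (sPhi P P' g).det = 1 → g ∈ H)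
    {v : GL ι F} (hv : v ∈ H) (hva : v * a = -(a * v)) {n : GL ι F} (hn' : n ∈ H)
    (hna : n * a ≠ a * n) (hna' : n * a ≠ -(a * n)) : Cfsg.Geo.omegaGL ⇑Q ≤ H := by
  obtain ⟨A, hA⟩ : ∃ A, A = LinearMap.range (P * P').toLin' := ⟨_, rfl⟩
  obtain ⟨B, hB⟩ : ∃ B, B = LinearMap.ker (P * P').toLin' := ⟨_, rfl⟩
  have hPP : P * P' * (P * P') = P * P' := by rw [Matrix.mul_assoc, E.absorb_right]
  have hAm : ∀ x, x ∈ A ↔ (P * P') *ᵥ x = x := fun x => by
    rw [hA]
    refine ⟨?_, fun h => ⟨x, by rw [Matrix.toLin'_apply, h]⟩⟩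
    rintro ⟨y, rfl⟩
    rw [Matrix.toLin'_apply, Matrix.mulVec_mulVec, hPP]
  have hBm : ∀ x, x ∈ B ↔ (P * P') *ᵥ x = 0 := fun x => by
    rw [hB, LinearMap.mem_ker, Matrix.toLin'_apply]
  have hAa : ∀ x ∈ A, (a : Matrix ι ι F) *ᵥ x = i • x := fun x hx => by
    have := (E.split_vec h2 haa hi x).1
    rwa [(hAm x).1 hx] at this
  have hBa : ∀ x ∈ B, (a : Matrix ι ι F) *ᵥ x = (-i) • x := fun x hx => by
    have := (E.split_vec h2 haa hi x).2
    rwa [(hBm x).1 hx, sub_zero] at this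
  have hi0 : i ≠ 0 := fun h => by rw [h, mul_zero, eq_comm, neg_eq_zero] at hi; exact one_ne_zero hi
  have hni : i ≠ -i := fun h => hi0 (CfsgLib.Classical22.C6Plus.two_smul_eq_zero h2 h)
  have hAof : ∀ x, (a : Matrix ι ι F) *ᵥ x = i • x → x ∈ A := fun x hx => (hAm x).2 (by
    rw [E.proj, Matrix.smul_mulVec, Matrix.sub_mulVec, Matrix.one_mulVec, Matrix.smul_mulVec, hx, smul_smul, hi,
      neg_one_smul, sub_neg_eq_add, ← two_smul F x, smul_smul, inv_mul_cancel₀ h2, one_smul])
  have hBof : ∀ x, (a : Matrix ι ι F) *ᵥ x = (-i) • x → x ∈ B := fun x hx => (hBm x).2 (by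
    rw [E.proj, Matrix.smul_mulVec, Matrix.sub_mulVec, Matrix.one_mulVec, Matrix.smul_mulVec, hx, smul_smul, mul_neg,
      hi, neg_neg, one_smul, sub_self, smul_zero])
  have hpair : SingPair Q A B :=
    ⟨⟨Submodule.disjoint_def.2 fun x h1 h2' => ((hAm x).1 h1).symm.trans ((hBm x).1 h2'),
      codisjoint_iff.2 (eq_top_iff.2 fun x _ => Submodule.mem_sup.2 ⟨(P * P') *ᵥ x, (hAm _).2 (by
        rw [Matrix.mulVec_mulVec, hPP]), x - (P * P') *ᵥ x, (hBm _).2 (by
        rw [Matrix.mulVec_sub, Matrix.mulVec_mulVec, hPP, sub_self]), by abel⟩)⟩,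
      fun x hx => sing E h2 hi hai hi (hAa x hx),
      fun x hx => sing E h2 hi hai (by rw [neg_mul_neg, hi]) (hBa x hx)⟩
  have hv' : (v : Matrix ι ι F) * a = -((a : Matrix ι ι F) * v) := congrArg Units.val hva
  have hswap : ∀ (x : ι → F) (c : F), (a : Matrix ι ι F) *ᵥ x = c • x →
      (a : Matrix ι ι F) *ᵥ ((v : Matrix ι ι F) *ᵥ x) = (-c) • ((v : Matrix ι ι F) *ᵥ x) := fun x c hx => by
    rw [Matrix.mulVec_mulVec, show (a : Matrix ι ι F) * v = -((v : Matrix ι ι F) * a) by rw [hv', neg_neg],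
      Matrix.neg_mulVec, ← Matrix.mulVec_mulVec, hx, Matrix.mulVec_smul, neg_smul]
  have hdA : Module.finrank F A = d := by
    let f : (Fin d → F) →ₗ[F] (ι → F) := P.toLin'
    have hinj : Function.Injective f := fun x y h => by
      have := congrArg (P' *ᵥ ·) h
      simpa [f, Matrix.mulVec_mulVec, E.right] using this
    have hr : LinearMap.range f = A := by
      refine le_antisymm ?_ fun x hx => ⟨P' *ᵥ x, by
        simp only [f, Matrix.toLin'_apply, Matrix.mulVec_mulVec]; exact (hAm x).1 hx⟩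
      rintro _ ⟨u, rfl⟩
      exact (hAm _).2 (by simp only [f, Matrix.toLin'_apply, Matrix.mulVec_mulVec, E.absorb_left])
    rw [← hr, LinearMap.finrank_range_of_inj hinj, Module.finrank_fin_fun]
  have hdB : 5 ≤ Module.finrank F B := by
    let f : A →ₗ[F] B := ((v : Matrix ι ι F).toLin' ∘ₗ A.subtype).codRestrict B fun x => hBof _ (by
      simp only [LinearMap.comp_apply, Submodule.subtype_apply, Matrix.toLin'_apply]
      exact hswap x i (hAa x x.2))
    have hinj : Function.Injective f := fun x y h => by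
      have h' := congrArg Subtype.val h
      simp only [f, LinearMap.codRestrict_apply, LinearMap.comp_apply, Submodule.subtype_apply,
        Matrix.toLin'_apply] at h'
      exact Subtype.ext (Matrix.mulVec_injective_iff_isUnit.2 v.isUnit h')
    have := LinearMap.finrank_le_finrank_of_injective hinj
    omega
  rw [omegaGL_eq_map Q hQ hn] at hH ⊢
  obtain ⟨M, hM⟩ : ∃ M : Subgroup (qAut Q), M = H.comap (qHom Q) := ⟨_, rfl⟩
  have hmap : eichGroup Q ≤ M → (eichGroup Q).map (qHom Q) ≤ H := fun h => by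
    rw [Subgroup.map_le_iff_le_comap]; exact hM ▸ h
  obtain ⟨J, -, hJ⟩ := hH hv
  obtain ⟨g, -, hg⟩ := hH hn'
  refine hmap (eichGroup_le_of_singPair Q hpair hQ (by omega) hdB (fun c hc b hb hcb => ?_) (J := J)
    (by rw [hM, Subgroup.mem_comap, hJ]; exact hv) (fun x hx => ?_) (fun x hx => ?_) (g := g)
    (by rw [hM, Subgroup.mem_comap, hg]; exact hn') ⟨?_, ?_⟩)
  · have hQc := hpair.singA c hc
    have hQb := hpair.singB b hb
    obtain ⟨e, he⟩ : ∃ e, e = qHom Q (eich Q c b) := ⟨_, rfl⟩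
    have hact : ∀ x, (e : Matrix ι ι F) *ᵥ x = x + QuadraticMap.polar Q x c • b - QuadraticMap.polar Q x b • c :=
      fun x => by rw [he, qHom_mulVec, eich_apply Q hQc hcb, hQb, zero_mul, add_zero]
    have hai' : ∀ u w, QuadraticMap.polar Q ((a : Matrix ι ι F) *ᵥ u) w = -QuadraticMap.polar Q u ((a : Matrix ι ι F) *ᵥ w) :=
      fun u w => by
        rw [show QuadraticMap.polar Q u ((a : Matrix ι ι F) *ᵥ w) = QuadraticMap.polar Q ((a : Matrix ι ι F) *ᵥ u)
          ((a : Matrix ι ι F) *ᵥ ((a : Matrix ι ι F) *ᵥ w)) by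
            simp only [QuadraticMap.polar, ← Matrix.mulVec_add, mem_iso.1 hai],
          Matrix.mulVec_mulVec w, ← Units.val_mul, haa, Units.val_neg,
          Units.val_one, Matrix.neg_mulVec, Matrix.one_mulVec, QuadraticMap.polar_neg_right, neg_neg]
    have hea : e * a = a * e := Units.ext (Matrix.ext_of_mulVec_single fun j => by
      rw [Units.val_mul, Units.val_mul, ← Matrix.mulVec_mulVec, ← Matrix.mulVec_mulVec, hact, hact, Matrix.mulVec_sub,
        Matrix.mulVec_add, Matrix.mulVec_smul, Matrix.mulVec_smul, hBa b hb, hAa c hc, hai', hai', hAa c hc, hBa b hb,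
        QuadraticMap.polar_smul_right, QuadraticMap.polar_smul_right]
      module)
    have heI : e ∈ Cfsg.isometryGroup F ⇑Q := mem_iso.2 fun x => by rw [he, qHom_mulVec, qAut_map]
    have hdet : (sPhi P P' e).det = 1 := by
      have hΦ : sPhi P P' e = 1 + Matrix.replicateCol Unit (-(P' *ᵥ c)) *
          Matrix.replicateRow Unit (fun j => QuadraticMap.polar Q (P *ᵥ Pi.single j 1) b) := by
        refine Matrix.ext_of_mulVec_single fun j => ?_
        have hPj : (P *ᵥ Pi.single j (1 : F)) ∈ A := (hAm _).2 (by rw [Matrix.mulVec_mulVec, E.absorb_left])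
        rw [sPhi, ← Matrix.mulVec_mulVec, ← Matrix.mulVec_mulVec, hact,
          polar_zero_of_singular Q hpair.singA hPj hc, zero_smul, add_zero, Matrix.mulVec_sub, Matrix.mulVec_smul,
          Matrix.mulVec_mulVec _ P' P, E.right, Matrix.one_mulVec, Matrix.add_mulVec, Matrix.one_mulVec,
          sub_eq_add_neg]
        congr 1
        funext p
        simp [Matrix.mul_apply, mul_comm]
      rw [hΦ, Matrix.det_one_add_replicateCol_mul_replicateRow, dotProduct_neg, add_neg_eq_iff_eq_add, left_eq_add]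
      have hsum : P *ᵥ (P' *ᵥ c) = c := by rw [Matrix.mulVec_mulVec]; exact (hAm c).1 hc
      rw [← hsum, pi_eq_sum_univ' (P' *ᵥ c), Matrix.mulVec_sum] at hcb
      rw [← QuadraticMap.polarBilin_apply_apply, map_sum, LinearMap.sum_apply] at hcb
      rw [dotProduct, ← hcb]
      refine Finset.sum_congr rfl fun j _ => ?_
      rw [Matrix.mulVec_smul, map_smul, LinearMap.smul_apply, QuadraticMap.polarBilin_apply_apply, smul_eq_mul,
        mul_comm]
    rw [hM, Subgroup.mem_comap, ← he]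
    exact hfull e heI hea hdet
  · rw [← qHom_mulVec Q J, hJ]
    exact hBof _ (hswap x i (hAa x hx))
  · rw [← qHom_mulVec Q J, hJ]
    exact hAof _ (by rw [hswap x (-i) (hBa x hx), neg_neg])
  · rintro ⟨h1, h2'⟩
    refine hna (Units.ext (Matrix.ext_of_mulVec_single fun j => ?_))
    obtain ⟨x, hx, y, hy, hxy⟩ := hpair.exists_add Q (Pi.single j (1 : F))
    rw [Units.val_mul, Units.val_mul, ← Matrix.mulVec_mulVec, ← Matrix.mulVec_mulVec, ← hxy]
    have e1 := hAa _ (h1 x hx)
    have e2 := hBa _ (h2' y hy)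
    rw [← qHom_mulVec Q g, hg] at e1 e2
    simp only [Matrix.mulVec_add, hAa x hx, hBa y hy, Matrix.mulVec_smul, e1, e2]
  · rintro ⟨h1, h2'⟩
    refine hna' (Units.ext (Matrix.ext_of_mulVec_single fun j => ?_))
    obtain ⟨x, hx, y, hy, hxy⟩ := hpair.exists_add Q (Pi.single j (1 : F))
    rw [Units.val_neg, Units.val_mul, Units.val_mul, Matrix.neg_mulVec, ← Matrix.mulVec_mulVec,
      ← Matrix.mulVec_mulVec, ← hxy]
    have e1 := hBa _ (h1 x hx)
    have e2 := hAa _ (h2' y hy)
    rw [← qHom_mulVec Q g, hg] at e1 e2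
    simp only [Matrix.mulVec_add, hAa x hx, hBa y hy, Matrix.mulVec_smul, e1, e2]
    module

end Eigen

end CfsgLib.Classical22.C6Plus
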