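/-
An orthogonal group containing the unipotent root elements of a unitary group over a quadratic extension consists of
semilinear maps or contains every Eichler transformation.
-/
import Cfsg.Agent.Lib.Classical22.UnitOverOrth

set_option autoImplicit false

namespace CfsgLib.Classical22.UnitOver.Orth

open CfsgLib.Classical

variable {F K V : Type*} [Field F] [Field K] [Algebra F K] [AddCommGroup V] [Module F V] [Module K V]
  [IsScalarTower F K V] {σ : K ≃+* K} {h : V → V → K} {Q : QuadraticForm F V} (E : Orth σ h Q)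
include E

variable [Finite K] [FiniteDimensional K V] (hdim : 5 ≤ Module.finrank K V) {M : Subgroup (qAut Q)}
  (hM : ∀ g ∈ eichGroup Q, (∀ (k : K) x, g.1 (k • x) = k • g.1 x) →
    (∀ x, g.1 (g.1 x - x) = g.1 x - x) → g ∈ M)
include hdim hM

omit [Finite K] [FiniteDimensional K V] hdim in
theorem root_mem_uni {z q : V} (hz : h z z = 0) (hq : h q q = 0) (hzq : h z q = 0) :
    ∃ g ∈ M, ∀ x, g.1 x = uLin E.herm z q x := by
  obtain ⟨g, hg, hgx⟩ := E.exists_root hz hq hzq
  exact ⟨g, hM g hg (fun k x => by rw [hgx, hgx, map_smul]) (fun x => by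
    rw [hgx, hgx, uLin_apply]
    simp only [uLin_apply, add_sub_cancel_left, add_sub_assoc, E.herm.sub_left, E.herm.smul_left, E.herm.add_left,
      hz, hq, hzq, E.herm.zero_comm.1 hzq, mul_zero, sub_zero, zero_sub, neg_zero, zero_smul, add_zero]), hgx⟩

omit [Finite K] [FiniteDimensional K V] hdim in
theorem root_diff_uni {z q a w : V} (hz : h z z = 0) (hq : h q q = 0) (hzq : h z q = 0) (ha : h a a = 0)
    (hza : h z a = 0) (hqa : h q a = 0) (hw : QuadraticMap.polar Q a w = 0) (hm : eich Q a w ∈ M) :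
    eich Q a (h w z • q - h w q • z) ∈ M := by
  obtain ⟨g, hg, hgx⟩ := E.root_mem_uni hM hz hq hzq
  have hga : g.1 a = a := by
    rw [hgx, uLin_apply, E.herm.zero_comm.1 hza, E.herm.zero_comm.1 hqa]; simp
  have := (OrthSubfield.eich_diff_mem hg (E.sing.2 ha) hga hw hm).2
  rw [hgx, uLin_apply] at this
  rwa [show w + h w z • q - h w q • z - w = h w z • q - h w q • z by abel] at this

/-- One root element off the line gives all orthogonal ones. -/
theorem perp_full_uni {a w : V} (ha : h a a = 0) (hw : h w a = 0) (hwa : w ∉ Submodule.span K {a})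
    (hm : eich Q a w ∈ M) {w' : V} (hw' : h w' a = 0) : eich Q a w' ∈ M := by
  have hpz : ∀ {b : V}, h b a = 0 → QuadraticMap.polar Q a b = 0 := fun hb =>
    E.polar_zero (E.herm.zero_comm.1 hb)
  have key : w' ∈ {b : V | h b a = 0 ∧ eich Q a b ∈ M} := by
    refine E.herm.spread hdim ha (B := {b : V | h b a = 0 ∧ eich Q a b ∈ M}) (fun b hb => hb.1) ⟨E.herm.zero_left a, ?_⟩ (fun {b c} hb hc => ⟨?_, ?_⟩)
      (fun b hb z q hz hq hzq hza hqa => ⟨?_, ?_⟩) (b := w) ⟨hw, hm⟩ hwa hw'
    · rw [eich_zero Q (E.sing.2 ha)]; exact one_mem M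
    · rw [E.herm.add_left, hb.1, hc.1, add_zero]
    · exact OrthSubfield.eich_add_mem (E.sing.2 ha) (hpz hb.1) (hpz hc.1) hb.2 hc.2
    · rw [E.herm.sub_left, E.herm.smul_left, E.herm.smul_left, hza, hqa]; ring
    · exact E.root_diff_uni hM hz hq hzq ha hza hqa (hpz hb.1) hb.2
  exact key.2

theorem perp_move_uni {a z : V} (ha : h a a = 0) (ha0 : a ≠ 0) (hall : ∀ w, h w a = 0 → eich Q a w ∈ M)
    (hz : h z z = 0) (hza : h z a = 0) (hzm : z ∉ Submodule.span K {a}) {w : V} (hw : h w z = 0) :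
    eich Q z w ∈ M := by
  refine E.perp_full_uni hdim hM hz (w := -a) (by rw [E.herm.neg_left, E.herm.zero_comm.1 hza, neg_zero])
    (fun hm => notMem_symm ha0 hzm (by simpa using Submodule.neg_mem _ hm)) ?_ hw
  rw [← OrthSubfield.eich_swap Q (E.sing.2 ha) (E.sing.2 hz) (E.polar_zero (E.herm.zero_comm.1 hza))]
  exact hall z hza

theorem efull_of_perp_uni (hall : ∀ a, h a a = 0 → a ≠ 0 → ∀ w, h w a = 0 → eich Q a w ∈ M) {a : V}
    (ha : h a a = 0) (ha0 : a ≠ 0) : EFull Q M a := by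
  intro w hw
  obtain ⟨z', hz'0, hz', hz'a, hz'm⟩ := E.herm.exists_iso_off hdim a
  obtain ⟨z, hz, hza, hzz'⟩ := E.herm.exists_iso_ne hdim (a := a) (b := z') hz'm
  obtain ⟨e, he⟩ := Transvec.Unitary.exists_trace_eq E.herm.ne_refl E.herm.invol (b := (1 : K)) (map_one σ)
  obtain ⟨z₁, hz₁d⟩ : ∃ z₁, z₁ = (e / h z z') • z := ⟨_, rfl⟩
  have hzz'' : h z z' ≠ 0 := fun h0 => hzz' (E.herm.zero_comm.1 h0)
  have hz₁a : h z₁ a = 0 := by rw [hz₁d, E.herm.smul_left, hza, mul_zero]
  have hz₁z' : h z₁ z' = e := by rw [hz₁d, E.herm.smul_left, div_mul_cancel₀ _ hzz'']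
  obtain ⟨r, hr, hra⟩ := E.herm.exists_sep (notMem_symm ha0 hz'm)
  obtain ⟨u, hu⟩ : ∃ u, u = h w a • r := ⟨_, rfl⟩
  have huz' : h u z' = 0 := by
    rw [hu, E.herm.smul_left, hr z' (Submodule.mem_span_singleton_self z'), mul_zero]
  have hua : h u a = h w a := by rw [hu, E.herm.smul_left, hra, mul_one]
  have hfau : QuadraticMap.polar Q a u = 0 := by
    refine (algebraMap F K).injective ?_
    have h1 := congrArg (algebraMap F K) hw
    rw [E.polar, E.herm.herm, E.herm.invol] at h1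
    rw [E.polar, E.herm.herm a u, hua, E.herm.invol, h1]
  have hz'u : QuadraticMap.polar Q z' u = 0 := E.polar_zero (E.herm.zero_comm.1 huz')
  have hg : eich Q z' u ∈ M := hall z' hz' hz'0 u huz'
  have hga : (eich Q z' u).1 a = a := by
    rw [eich_apply Q (E.sing.2 hz') hz'u, E.polar_zero (E.herm.zero_comm.1 hz'a), hfau]; simp
  have hz₁m : eich Q a z₁ ∈ M := hall a ha ha0 z₁ hz₁a
  obtain ⟨-, hd⟩ := OrthSubfield.eich_diff_mem hg (E.sing.2 ha) hga (E.polar_zero (E.herm.zero_comm.1 hz₁a)) hz₁m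
  have h1 : QuadraticMap.polar Q z₁ z' = 1 := (algebraMap F K).injective (by rw [E.polar, hz₁z', he, map_one])
  obtain ⟨μ, hμ⟩ : ∃ μ : F, μ = QuadraticMap.polar Q z₁ u + Q u * QuadraticMap.polar Q z₁ z' := ⟨_, rfl⟩
  rw [eich_apply Q (E.sing.2 hz') hz'u, ← hμ, h1, one_smul,
    show z₁ + u - μ • z' - z₁ = u - μ • z' by abel] at hd
  have hda : h (u - μ • z') a = h w a := by
    rw [E.smulF, E.herm.sub_left, E.herm.smul_left, hua, hz'a, mul_zero, sub_zero]
  have h2 := hall a ha ha0 (w - (u - μ • z')) (by rw [E.herm.sub_left, hda, sub_self])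
  have := OrthSubfield.eich_add_mem (E.sing.2 ha)
    (E.polar_zero (E.herm.zero_comm.1 (by rw [E.herm.sub_left, hda, sub_self])))
    (by rw [QuadraticMap.polar_sub_right, hfau, QuadraticMap.polar_smul_right,
      E.polar_zero (E.herm.zero_comm.1 hz'a), smul_zero, sub_zero]) h2 hd
  rwa [sub_add_cancel] at this

variable [Fintype F] [FiniteDimensional F V]

theorem eichGroup_le_or_lines_uni (hQ : PolarNondeg Q) (hnF : 4 ≤ Module.finrank F V)
    (h2 : ∀ θ : K, (∀ c : F, θ ≠ algebraMap F K c) → ∀ k, ∃ a b : F, k = algebraMap F K a + algebraMap F K b * θ) :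
    eichGroup Q ≤ M ∨ ∀ g ∈ M, ∀ v, h v v = 0 → ∀ k : K, ∃ k' : K, g.1 (k • v) = k' • g.1 v := by
  by_cases hex : ∃ a w, a ≠ 0 ∧ h a a = 0 ∧ h w a = 0 ∧ w ∉ Submodule.span K {a} ∧ eich Q a w ∈ M
  · left
    obtain ⟨a, w, ha0, ha, hwa, hwm, hm⟩ := hex
    have hall₁ : ∀ b, h b a = 0 → eich Q a b ∈ M := fun b hb => E.perp_full_uni hdim hM ha hwa hwm hm hb
    have hall : ∀ b, h b b = 0 → b ≠ 0 → ∀ x, h x b = 0 → eich Q b x ∈ M := by
      intro b hb hb0 x hx
      obtain ⟨m, hm0, hmm, hma, hmb, hmn, hmn'⟩ := E.herm.exists_iso_between hdim ha0 ha hb0 hb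
      refine E.perp_move_uni hdim hM hmm hm0
        (fun y hy => E.perp_move_uni hdim hM ha ha0 hall₁ hmm hma hmn hy)
        hb (E.herm.zero_comm.1 hmb) (notMem_symm hb0 hmn') hx
    obtain ⟨u, hu0, hu, -⟩ := E.herm.exists_iso_notMem (P := (⊥ : Submodule K V)) (P' := ⊥)
      (by rw [finrank_bot]; omega)
    obtain ⟨r, hr, hru⟩ := E.herm.exists_sep (P := (⊥ : Submodule K V)) (u := u) (by simpa using hu0)
    obtain ⟨z, -, hz, hzu, -⟩ := E.herm.exists_partner (S := ⊤) (Submodule.mem_top (x := u))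
      (Submodule.mem_top (x := r)) hu (by rw [hru]; exact one_ne_zero)
    obtain ⟨e, he⟩ := Transvec.Unitary.exists_trace_eq E.herm.ne_refl E.herm.invol (b := (1 : K)) (map_one σ)
    have hez : h (e • z) (e • z) = 0 := by rw [E.herm.smul_left, E.herm.smul_right, hz, mul_zero, mul_zero]
    have hpol : QuadraticMap.polar Q (e • z) u = 1 :=
      (algebraMap F K).injective (by rw [E.polar, E.herm.smul_left, hzu, mul_one, he, map_one])
    have hez0 : e • z ≠ 0 := fun e0 => by
      rw [e0, QuadraticMap.polar_zero_left] at hpol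
      exact zero_ne_one hpol
    exact eichGroup_le_of_full Q hQ hnF (E.sing.2 hez) (E.sing.2 hu) (by rw [hpol]; exact one_ne_zero)
      (E.efull_of_perp_uni hdim hM hall hez hez0) (E.efull_of_perp_uni hdim hM hall hu hu0)
  · right
    simp only [not_exists, not_and] at hex
    intro g hg v hv k
    obtain ⟨θ, hθ⟩ : ∃ θ, σ θ ≠ θ := by
      by_contra hcon
      simp only [not_exists, not_not] at hcon
      exact E.herm.ne_refl (RingEquiv.ext hcon)
    suffices key : ∃ t : K, g.1 (θ • v) = t • g.1 v by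
      obtain ⟨t, ht⟩ := key
      obtain ⟨α, β, hk⟩ := h2 θ (fun c e => hθ (by rw [e, E.base])) k
      refine ⟨algebraMap F K α + algebraMap F K β * t, ?_⟩
      rw [hk, add_smul, add_smul, mul_smul, mul_smul, map_add, algebraMap_smul, algebraMap_smul, map_smul, map_smul,
        ht, algebraMap_smul, algebraMap_smul]
    have hvθ : QuadraticMap.polar Q v (θ • v) = 0 :=
      E.polar_zero (by rw [E.herm.smul_right, hv, mul_zero])
    have hm := mul_mem (mul_mem hg (hM _ (eich_mem Q (E.sing.2 hv) hvθ) (E.eich_long_linear hv θ)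
      fun x => by
        rw [E.eich_long_apply hv θ x, add_sub_cancel_left, E.eich_long_apply hv, E.herm.smul_left, hv, mul_zero, mul_zero,
          zero_smul, add_zero])) (inv_mem hg)
    rw [eich_conj Q g (E.sing.2 hv) hvθ] at hm
    obtain ⟨a, ha⟩ : ∃ a, a = g.1 v := ⟨_, rfl⟩
    obtain ⟨b, hb⟩ : ∃ b, b = g.1 (θ • v) := ⟨_, rfl⟩
    have haa : h a a = 0 := E.sing.1 (by rw [ha, qAut_map]; exact E.sing.2 hv)
    have hab : QuadraticMap.polar Q a b = 0 := by rw [ha, hb, qAut_polar]; exact hvθ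
    rw [← ha, ← hb] at hm ⊢
    by_contra hne
    have ha0 : a ≠ 0 := fun e => by
      have hv0 : v = 0 := g.1.injective (by rw [← ha, e, map_zero])
      exact hne ⟨0, by rw [hb, hv0, smul_zero, map_zero, zero_smul]⟩
    have hbm : b ∉ Submodule.span K {a} := fun e => hne (by
      obtain ⟨t, ht⟩ := Submodule.mem_span_singleton.1 e
      exact ⟨t, ht.symm⟩)
    by_cases hba : h b a = 0
    · exact hex a b ha0 haa hba hbm hm
    obtain ⟨z, hz0, hz, hza, hzm⟩ := E.herm.exists_iso_off hdim a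
    have hd := E.root_diff_uni hM hz haa hza haa hza haa hab hm
    refine hex a (h b z • a - h b a • z) ha0 haa
      (by rw [E.herm.sub_left, E.herm.smul_left, E.herm.smul_left, haa, hza]; ring) (fun e => ?_) hd
    have h' := Submodule.sub_mem _ (Submodule.smul_mem _ (h b z) (Submodule.mem_span_singleton_self a)) e
    rw [sub_sub_cancel] at h'
    exact hzm ((Submodule.smul_mem_iff _ hba).1 h')

end CfsgLib.Classical22.UnitOver.Orth
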