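/-
Coordinates for the isometries commuting with a square root of minus one, when minus one is not a square: the unitary
group of the space over the extension; and the dichotomy for their intersection with an overgroup.
-/
import Cfsg.Agent.Lib.Classical22.C6Plus.Half
import Cfsg.Agent.Lib.Classical22.C6Plus.RootOrth
import Cfsg.Agent.Lib.Classical22.C6Four.Unitary
import Cfsg.Agent.Lib.Classical22.UnitOverSetup
import Cfsg.Agent.Lib.Classical22.OrthMaxMatrix
import Cfsg.Agent.Lib.SUFour.SympMax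
import Cfsg.Agent.S0755

set_option autoImplicit false
set_option maxHeartbeats 1000000

namespace CfsgLib.Classical22.C6Plus

open Matrix CfsgLib.Classical CfsgLib.Classical22.C6Four CfsgLib.Classical22.UnitOver
open scoped MatrixGroups

variable {ι : Type} [Fintype ι] [DecidableEq ι] {F : Type*} [Field F]

section ext

variable {K : Type*} [Field K] [Algebra F K] [Module K (ι → F)] [IsScalarTower F K (ι → F)]

/-- The square root of minus one `i` of the extension acts as `a`. -/
structure Ext (a : GL ι F) (i : K) : Prop where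
  rank : Module.finrank F K = 2
  sqi : i * i = -1
  notF : ∀ c : F, i ≠ algebraMap F K c
  act : ∀ v : ι → F, i • v = (a : Matrix ι ι F) *ᵥ v

namespace Ext

variable {a : GL ι F} {i : K} (X : Ext a i)
include X

lemma comm_smul {m : Matrix ι ι F} (hm : m * a = a * m) (k : K) (v : ι → F) : m *ᵥ (k • v) = k • (m *ᵥ v) := by
  obtain ⟨x, y, rfl⟩ := exists_coord X.rank X.notF k
  simp only [add_smul, mul_smul, algebraMap_smul, X.act, Matrix.mulVec_add, Matrix.mulVec_smul, Matrix.mulVec_mulVec,
    hm]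

lemma of_smul {m : Matrix ι ι F} (hm : ∀ v, m *ᵥ (i • v) = i • (m *ᵥ v)) : m * a = a * m :=
  Matrix.ext_of_mulVec_single fun j => by rw [← Matrix.mulVec_mulVec, ← Matrix.mulVec_mulVec, ← X.act, hm, X.act]

/-- Equality by traces. -/
lemma eq_of_trace {σ : K ≃+* K} (h2 : (2 : K) ≠ 0) (hσi : σ i = -i) {j j' : K} (h1 : j + σ j = j' + σ j')
    (hi : i * j + σ (i * j) = i * j' + σ (i * j')) : j = j' := by
  rw [map_mul, map_mul, hσi] at hi
  have : (2 : K) * i * (j - j') = 0 := by linear_combination hi + i * h1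
  refine sub_eq_zero.1 ((mul_eq_zero.1 this).resolve_left (mul_ne_zero h2 fun h => ?_))
  have := X.sqi
  rw [h, mul_zero, eq_comm, neg_eq_zero] at this
  exact one_ne_zero this

end Ext

/-- A matrix in coordinates over the extension. -/
noncomputable def tPhi {d : ℕ} (b : Module.Basis (Fin d) K (ι → F)) (m : Matrix ι ι F) : Matrix (Fin d) (Fin d) K :=
  Matrix.of fun p q => b.equivFun (m *ᵥ b q) p

/-- The coordinates and the case of the whole group. -/
theorem twist_core [Fintype F] [Fintype K] {Q : QuadraticForm F (ι → F)} {R : Subgroup (GL ι F)} {k : ℕ}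
    (D : Data R k Q) {a : GL ι F} (ha : a ∈ R) (haa : a * a = -1) {i : K} (X : Ext a i) {p : ℕ} (hp : p.Prime)
    (hF : Fintype.card F = p) (h4 : p % 4 = 3) (hbase : UnitaryFour K p) (hn : 10 ≤ Fintype.card ι)
    {H : Subgroup (GL ι F)} (hH : H ≤ Cfsg.Geo.omegaGL ⇑Q) (hN : NR R Q ≤ H) (hne : ¬ Cfsg.Geo.omegaGL ⇑Q ≤ H)
    {n : GL ι F} (hn' : n ∈ H) (hna : n * a ≠ a * n) (hna' : n * a ≠ -(a * n)) :
    ∀ g ∈ H, g * a = a * g → ∀ r ∈ R, r * a = a * r → g * r * g⁻¹ ∈ R := by
  classical
  haveI : Nonempty ι := D.sign.nonempty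
  haveI : Fact p.Prime := ⟨hp⟩
  haveI : CharP F p := by
    obtain ⟨r, hr⟩ := CharP.exists F
    obtain ⟨m, hrp, hm⟩ := FiniteField.card F r
    rw [hF] at hm
    exact ((Nat.prime_dvd_prime_iff_eq hrp hp).1 (hm ▸ dvd_pow_self r m.ne_zero)) ▸ hr
  haveI : CharP K p := (RingHom.charP_iff_charP (algebraMap F K) p).1 inferInstance
  have h2 := D.two_ne
  have h2K : (2 : K) ≠ 0 := by rw [← map_ofNat (algebraMap F K) 2]; exact (_root_.map_ne_zero _).2 h2
  have hb : Cfsg.Geo.IsBilinearForm (QuadraticMap.polar ⇑Q) :=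
    ⟨QuadraticMap.polar_add_left Q, fun c x v => by rw [QuadraticMap.polar_smul_left, smul_eq_mul],
      QuadraticMap.polar_add_right Q, fun c v x => by rw [QuadraticMap.polar_smul_right, smul_eq_mul]⟩
  have hnd : Cfsg.Geo.IsNondegenerateForm (QuadraticMap.polar ⇑Q) := fun v hv => by
    obtain ⟨x, hx⟩ : ∃ x, QuadraticMap.polar Q v x ≠ 0 := by
      by_contra hcon
      push Not at hcon
      exact hv (D.nondeg v hcon)
    exact ⟨⟨x, by rwa [QuadraticMap.polar_comm]⟩, x, hx⟩
  have hsymm : ∀ u v, QuadraticMap.polar ⇑Q u v = QuadraticMap.polar ⇑Q v u := QuadraticMap.polar_comm Q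
  have hai : ∀ u v, QuadraticMap.polar Q ((a : Matrix ι ι F) *ᵥ u) v =
      -QuadraticMap.polar Q u ((a : Matrix ι ι F) *ᵥ v) := fun u v => by
    rw [show QuadraticMap.polar Q u ((a : Matrix ι ι F) *ᵥ v) = QuadraticMap.polar Q ((a : Matrix ι ι F) *ᵥ u)
      ((a : Matrix ι ι F) *ᵥ ((a : Matrix ι ι F) *ᵥ v)) by
        simp only [QuadraticMap.polar, ← Matrix.mulVec_add, mem_iso.1 (D.le ha)],
      Matrix.mulVec_mulVec v, ← Units.val_mul, haa, Units.val_neg, Units.val_one, Matrix.neg_mulVec,
      Matrix.one_mulVec, QuadraticMap.polar_neg_right, neg_neg]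
  -- the hermitian form
  obtain ⟨σ, C⟩ := exists_conj hb hnd X.rank (ε := 1) (fun u v => by rw [one_mul]; exact hsymm u v) (one_mul 1)
    (fun k => by
      obtain ⟨x, y, rfl⟩ := exists_coord X.rank X.notF k
      refine ⟨algebraMap F K x - algebraMap F K y * i, fun u v => ?_⟩
      simp only [add_smul, sub_smul, mul_smul, algebraMap_smul, X.act, QuadraticMap.polar_add_left,
        QuadraticMap.polar_sub_right, QuadraticMap.polar_smul_left, QuadraticMap.polar_smul_right, smul_eq_mul, hai]
      ring)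
    (by
      obtain ⟨u, hu⟩ := exists_ne (0 : ι → F)
      obtain ⟨x, hx⟩ := (hnd u hu).1
      refine ⟨i, x, -((a : Matrix ι ι F) *ᵥ u), fun h => hx ?_⟩
      rw [X.act, X.act, hai, Matrix.mulVec_neg, Matrix.mulVec_mulVec, ← Units.val_mul, haa, Units.val_neg,
        Units.val_one, Matrix.neg_mulVec, Matrix.one_mulVec, neg_neg] at h
      exact CfsgLib.Classical22.C6Plus.two_smul_eq_zero h2 h.symm)
  obtain ⟨h, Hm, hpol⟩ := exists_herm_symm hb hnd C X.rank hsymm
  have hσi : σ i = -i := by
    have hadj : ∀ x y, QuadraticMap.polar Q ((a : Matrix ι ι F) *ᵥ x) y = QuadraticMap.polar Q x (σ i • y) :=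
      fun x y => by rw [← X.act]; exact C.adj i x y
    obtain ⟨v, hv⟩ := exists_ne (0 : ι → F)
    by_contra hne'
    obtain ⟨x, hx⟩ := (hnd ((σ i + i) • v) (smul_ne_zero (fun e => hne' (eq_neg_of_add_eq_zero_left e)) hv)).1
    refine hx ?_
    rw [add_smul, QuadraticMap.polar_add_right, ← hadj, X.act, hai, neg_add_cancel]
  have hσp : ∀ k, σ k = k ^ p := fun k => by
    obtain ⟨x, y, rfl⟩ := exists_coord X.rank X.notF k
    have hc : ∀ c : F, (algebraMap F K c) ^ p = algebraMap F K c := fun c => by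
      rw [← map_pow, ← hF, FiniteField.pow_card]
    obtain ⟨t, ht⟩ : ∃ t, p = 4 * t + 3 := ⟨p / 4, by omega⟩
    have hi4 : i ^ 4 = 1 := by linear_combination (i * i - 1) * X.sqi
    have hip : i ^ p = -i := by
      rw [ht, pow_add, pow_mul, hi4, one_pow, one_mul]
      linear_combination i * X.sqi
    rw [map_add, map_mul, C.base, C.base, hσi, add_pow_char, mul_pow, hc, hc, hip]
  -- orthonormal coordinates
  obtain ⟨hfin, hhalf⟩ := finrank_eq_half (ι := ι) (K := K) X.rank
  haveI := hfin
  rw [Module.finrank_pi] at hhalf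
  have hdim : 5 ≤ Module.finrank K (ι → F) := by omega
  obtain ⟨d, hd⟩ : ∃ d, Module.finrank K (ι → F) = d := ⟨_, rfl⟩
  obtain ⟨b, hb1⟩ : ∃ b : Module.Basis (Fin d) K (ι → F), ∀ p q, h (b p) (b q) = if p = q then 1 else 0 := by
    let Bf : (ι → F) →ₛₗ[(σ : K →+* K)] (ι → F) →ₗ[K] K :=
      LinearMap.mk₂'ₛₗ (σ : K →+* K) (RingHom.id K) (fun u v => h v u) (fun u u' v => Hm.add_right v u u')
        (fun c u v => Hm.smul_right c v u) (fun u v v' => Hm.add_left v v' u) (fun c u v => Hm.smul_left c v u)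
    have hBf : ∀ u v, Bf u v = h v u := fun u v => rfl
    obtain ⟨b, hb⟩ := Cfsg.Agent.S0755.result (σ : K →+* K)
      (fun e => Hm.ne_refl (RingEquiv.ext fun x => RingHom.congr_fun e x)) (fun x => Hm.invol x) Bf
      ⟨fun x y => by simp only [hBf]; exact (Hm.herm x y).symm⟩
      ⟨fun x hx => Hm.nd x fun y => hBf x y ▸ hx y, fun y hy => Hm.eq_zero_left fun x => hBf x y ▸ hy x⟩
    refine ⟨b.reindex (finCongr hd), fun p q => ?_⟩
    have := hb ((finCongr hd).symm q) ((finCongr hd).symm p)
    rw [hBf] at this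
    rw [Module.Basis.reindex_apply, Module.Basis.reindex_apply, this]
    simp [eq_comm]
  obtain ⟨f, hf⟩ : ∃ f : (Fin d → K) → (Fin d → K) → K, ∀ u v, f u v = h (b.equivFun.symm u) (b.equivFun.symm v) :=
    ⟨_, fun u v => rfl⟩
  have hfb : ∀ p q, f (Pi.single p 1) (Pi.single q 1) = if p = q then 1 else 0 := fun p q => by
    rw [hf, Module.Basis.equivFun_symm_apply, Module.Basis.equivFun_symm_apply]
    simp [Pi.single_apply, hb1]
  have hd0 : 0 < d := by omega
  have hu : Cfsg.Geo.IsUnitaryForm σ f := by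
    refine ⟨Hm.ne_refl, Hm.invol, fun x y v => by rw [hf, hf, hf, map_add, Hm.add_left],
      fun c x v => by rw [hf, hf, map_smul, Hm.smul_left], fun v w => by rw [hf, hf, ← Hm.herm], fun v hv => ?_⟩
    have hv' : b.equivFun.symm v ≠ 0 := fun e => hv ((LinearEquiv.map_eq_zero_iff _).1 e)
    obtain ⟨x, hx⟩ : ∃ x, h x (b.equivFun.symm v) ≠ 0 := by
      by_contra hc
      push Not at hc
      exact hv' (Hm.nd _ hc)
    refine ⟨⟨b.equivFun x, by rw [hf, LinearEquiv.symm_apply_apply]; exact hx⟩, b.equivFun x, ?_⟩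
    rw [hf, LinearEquiv.symm_apply_apply, Ne, Hm.zero_comm]
    exact hx
  have hquad : ∀ v, algebraMap F K (Q v) = h v v := fun v => by
    have e := hpol v v
    rw [QuadraticMap.polar_self, ← Hm.herm, two_nsmul, map_add, ← two_mul, ← two_mul] at e
    exact mul_left_cancel₀ h2K e
  have E : UnitOver.Orth σ h Q := ⟨Hm, C.base, C.fixed, hpol, hquad⟩
  -- the coordinates
  have hΦ : ∀ {m : Matrix ι ι F}, m * a = a * m → ∀ v, b.equivFun (m *ᵥ v) = tPhi b m *ᵥ b.equivFun v := by
    intro m hm v
    conv_lhs => rw [← b.sum_equivFun v, Matrix.mulVec_sum]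
    simp only [X.comm_smul hm, map_sum, map_smul]
    funext p
    simp [tPhi, Matrix.mulVec, dotProduct, mul_comm]
  have hval : ∀ {m : Matrix ι ι F}, m * a = a * m → ∀ v, m *ᵥ v = b.equivFun.symm (tPhi b m *ᵥ b.equivFun v) :=
    fun hm v => by rw [← hΦ hm, LinearEquiv.symm_apply_apply]
  have hiso : ∀ g : GL ι F, g ∈ Cfsg.isometryGroup F ⇑Q → g * a = a * g →
      ∀ x y, h ((g : Matrix ι ι F) *ᵥ x) ((g : Matrix ι ι F) *ᵥ y) = h x y := by
    intro g hg hga x y
    have hpg : ∀ x, QuadraticMap.polar Q ((g : Matrix ι ι F) *ᵥ x) ((g : Matrix ι ι F) *ᵥ y) =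
        QuadraticMap.polar Q x y := fun x => by simp only [QuadraticMap.polar, ← Matrix.mulVec_add, mem_iso.1 hg]
    refine X.eq_of_trace h2K hσi (by rw [← hpol, ← hpol, hpg]) ?_
    rw [← Hm.smul_left, ← Hm.smul_left, ← hpol, ← hpol, ← X.comm_smul (congrArg Units.val hga), hpg]
  have Hf : Half Q a (algebraMap F K) (tPhi b) i (σ : K →+* K) f := by
    refine ⟨fun m m' _ _ => ?_, fun c m hm => ?_, fun m m' hm hm' => ?_, ?_, ?_, X.sqi, fun M => ?_,
      fun g hg hga h1 => ?_, ⟨fun u v w => by rw [hf, hf, hf, map_add, Hm.add_left],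
        fun u v w => by rw [hf, hf, hf, map_add, Hm.add_right], fun c u v => by rw [hf, hf, map_smul, Hm.smul_left],
        fun c u v => by rw [hf, hf, map_smul, Hm.smul_right]; rfl, fun r hr u v => ?_,
        fun u v => by rw [RingHom.coe_coe, hσi, neg_add_cancel, zero_mul]⟩, Or.inr ⟨σ, hu, hfb⟩,
      fun g hg hga u v => ?_, fun A hA => ?_⟩
    · ext p q; simp [tPhi, Matrix.add_mulVec]
    · ext p q
      simp only [tPhi, Matrix.of_apply, Matrix.smul_apply, Matrix.smul_mulVec]
      rw [← algebraMap_smul K c, map_smul, Pi.smul_apply]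
    · ext p q
      rw [Matrix.mul_apply]
      simp only [tPhi, Matrix.of_apply]
      rw [← Matrix.mulVec_mulVec, hΦ hm]
      rfl
    · ext p q; simp [tPhi, Matrix.one_apply, Pi.single_apply, eq_comm]
    · ext p q
      simp only [tPhi, Matrix.of_apply, ← X.act, map_smul, Module.Basis.equivFun_self, Matrix.smul_apply,
        Pi.smul_apply, Matrix.one_apply, eq_comm]
    · let L : (ι → F) →ₗ[F] (ι → F) :=
        { toFun := fun v => b.equivFun.symm (M *ᵥ b.equivFun v)
          map_add' := fun x y => by rw [map_add, Matrix.mulVec_add, map_add]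
          map_smul' := fun c x => by
            rw [RingHom.id_apply, ← algebraMap_smul K c x, map_smul, Matrix.mulVec_smul, map_smul, algebraMap_smul] }
      refine ⟨LinearMap.toMatrix' L, X.of_smul fun v => ?_, ?_⟩
      · rw [LinearMap.toMatrix'_mulVec, LinearMap.toMatrix'_mulVec]
        change b.equivFun.symm (M *ᵥ b.equivFun (i • v)) = i • b.equivFun.symm (M *ᵥ b.equivFun v)
        rw [map_smul, Matrix.mulVec_smul, map_smul]
      · ext p q
        simp only [tPhi, Matrix.of_apply, LinearMap.toMatrix'_mulVec]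
        change b.equivFun (b.equivFun.symm (M *ᵥ b.equivFun (b q))) p = _
        rw [LinearEquiv.apply_symm_apply]
        simp [Matrix.mulVec, dotProduct, Finsupp.single_apply, eq_comm]
    · refine Units.ext (Matrix.ext_of_mulVec_single fun j => ?_)
      rw [hval (congrArg Units.val hga), h1, Matrix.one_mulVec, LinearEquiv.symm_apply_apply, Units.val_one,
        Matrix.one_mulVec]
    · rw [Subgroup.mem_bot.1 hr, Units.val_one, Matrix.one_mulVec, Matrix.one_mulVec]
    · have e := hiso g hg hga (b.equivFun.symm u) (b.equivFun.symm v)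
      rw [← LinearEquiv.symm_apply_apply b.equivFun ((g : Matrix ι ι F) *ᵥ b.equivFun.symm u),
        ← LinearEquiv.symm_apply_apply b.equivFun ((g : Matrix ι ι F) *ᵥ b.equivFun.symm v),
        hΦ (congrArg Units.val hga), hΦ (congrArg Units.val hga), LinearEquiv.apply_symm_apply,
        LinearEquiv.apply_symm_apply] at e
      rw [hf, hf]
      exact e
    · let L : (ι → F) →ₗ[F] (ι → F) :=
        { toFun := fun v => b.equivFun.symm ((A : Matrix (Fin d) (Fin d) K) *ᵥ b.equivFun v)
          map_add' := fun x y => by rw [map_add, Matrix.mulVec_add, map_add]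
          map_smul' := fun c x => by
            rw [RingHom.id_apply, ← algebraMap_smul K c x, map_smul, Matrix.mulVec_smul, map_smul, algebraMap_smul] }
      have hL : ∀ v, LinearMap.toMatrix' L *ᵥ v = b.equivFun.symm ((A : Matrix (Fin d) (Fin d) K) *ᵥ b.equivFun v) :=
        fun v => by rw [LinearMap.toMatrix'_mulVec]; rfl
      have hinj : Function.Injective (LinearMap.toMatrix' L).mulVec := fun x y hxy => by
        have h' : LinearMap.toMatrix' L *ᵥ x = LinearMap.toMatrix' L *ᵥ y := hxy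
        rw [hL, hL] at h'
        exact b.equivFun.injective (Matrix.mulVec_injective_iff_isUnit.2 A.isUnit (b.equivFun.symm.injective h'))
      obtain ⟨g, hg⟩ := Matrix.mulVec_injective_iff_isUnit.1 hinj
      have hca : LinearMap.toMatrix' L * a = a * LinearMap.toMatrix' L := X.of_smul fun v => by
        rw [hL, hL, map_smul, Matrix.mulVec_smul, map_smul]
      refine ⟨g, mem_iso.2 fun v => (algebraMap F K).injective ?_, Units.ext ?_, ?_⟩
      · rw [hquad, hquad, hg, hL, ← hf, hA, hf, LinearEquiv.symm_apply_apply]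
      · rw [Units.val_mul, Units.val_mul, hg, hca]
      · ext p q
        rw [hg]
        simp only [tPhi, Matrix.of_apply]
        rw [hL, LinearEquiv.apply_symm_apply]
        simp [Matrix.mulVec, dotProduct, Finsupp.single_apply, eq_comm]
  -- the dichotomy
  rcases Hf.dichotomy D ha haa (lin := False)
      ⟨fun h0 => by
        have := h0 (Pi.single ⟨0, hd0⟩ 1) (Pi.single ⟨0, hd0⟩ 1)
        rw [hfb, if_pos rfl] at this
        exact one_ne_zero this, False.elim⟩
      (unitary_base hbase (fun k => hσp k) i) hH hN with hgood | hfull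
  · exact hgood
  exfalso
  have hcard : 5 ≤ Fintype.card ι := by omega
  rw [omegaGL_eq_map Q D.nondeg hcard] at hH hne
  obtain ⟨M, hM⟩ : ∃ M : Subgroup (qAut Q), M = H.comap (qHom Q) := ⟨_, rfl⟩
  have hMmem : ∀ g ∈ eichGroup Q, (∀ (k : K) x, g.1 (k • x) = k • g.1 x) →
      (∀ x, g.1 (g.1 x - x) = g.1 x - x) → g ∈ M := by
    intro g _ hlin huni
    obtain ⟨G, hG⟩ : ∃ G, G = qHom Q g := ⟨_, rfl⟩
    have hGv : ∀ v, (G : Matrix ι ι F) *ᵥ v = g.1 v := fun v => by rw [hG, qHom_mulVec]
    have hGa : G * a = a * G := Units.ext (X.of_smul fun v => by rw [hGv, hGv, hlin])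
    have hGI : G ∈ Cfsg.isometryGroup F ⇑Q := mem_iso.2 fun v => by rw [hGv, qAut_map]
    obtain ⟨N, hNd⟩ : ∃ N, N = tPhi b G - 1 := ⟨_, rfl⟩
    have hN1 : ∀ v, N *ᵥ b.equivFun v = b.equivFun (g.1 v - v) := fun v => by
      rw [hNd, Matrix.sub_mulVec, Matrix.one_mulVec, ← hΦ (congrArg Units.val hGa), map_sub, hGv]
    have hN2 : N * N = 0 := Matrix.ext_of_mulVec_single fun q => by
      obtain ⟨v, hv⟩ := b.equivFun.surjective (Pi.single q (1 : K))
      rw [← Matrix.mulVec_mulVec, ← hv, hN1, hN1, huni, sub_self, map_zero, Matrix.zero_mulVec]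
    have hpow : ∀ m : ℕ, (1 + N) ^ m = 1 + (m : K) • N := by
      intro m
      induction m with
      | zero => simp
      | succ m ihm =>
        rw [pow_succ, ihm, add_mul, one_mul, smul_mul_assoc, mul_add, mul_one, hN2, add_zero,
          Nat.cast_succ, add_smul, one_smul]
        abel
    have hdet : (tPhi b G).det ^ p = 1 := by
      rw [← Matrix.det_pow, show tPhi b G = 1 + N by rw [hNd]; abel, hpow, CharP.cast_eq_zero, zero_smul, add_zero,
        Matrix.det_one]
    have hdet1 : (tPhi b G).det = 1 := frobenius_inj K p (by simp [frobenius_def, hdet])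
    rw [hM, Subgroup.mem_comap, ← hG]
    exact hfull G hGI hGa hdet1
  rcases E.eichGroup_le_or_lines_uni hdim hMmem D.nondeg (by rw [Module.finrank_pi]; omega)
    (fun θ hθ k => exists_coord X.rank hθ k) with hall | hlines
  · refine hne fun x hx => ?_
    obtain ⟨g, hg, rfl⟩ := hx
    exact (hM ▸ hall hg : g ∈ H.comap (qHom Q))
  obtain ⟨g, -, hg⟩ := hH hn'
  have hgM : g ∈ M := by rw [hM, Subgroup.mem_comap, hg]; exact hn'
  obtain ⟨t, ht⟩ := Hm.semilinear_of_lines hdim (g := g.1.toLinearMap.toAddMonoidHom) g.1.injective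
    (hlines g hgM) i
  have ht' : ∀ x, g.1 (i • x) = t • g.1 x := ht
  have hgv : ∀ v, (n : Matrix ι ι F) *ᵥ v = g.1 v := fun v => by rw [← hg, qHom_mulVec]
  obtain ⟨v, hv⟩ := exists_ne (0 : ι → F)
  have ht2 : t * t = -1 := by
    refine smul_left_injective K (show g.1 v ≠ 0 from fun e => hv (g.1.injective (by rw [e, map_zero]))) ?_
    change (t * t) • g.1 v = (-1 : K) • g.1 v
    rw [mul_smul, ← ht', ← ht', smul_smul, X.sqi, neg_smul, neg_smul, one_smul, one_smul, map_neg]
  rcases mul_self_eq_mul_self_iff.1 (ht2.trans X.sqi.symm) with rfl | rfl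
  · exact hna (Units.ext (X.of_smul fun x => by rw [hgv, hgv, ht']))
  · refine hna' (Units.ext (Matrix.ext_of_mulVec_single fun j => ?_))
    rw [Units.val_neg, Units.val_mul, Units.val_mul, Matrix.neg_mulVec, ← Matrix.mulVec_mulVec,
      ← Matrix.mulVec_mulVec, ← X.act, ← X.act, hgv, hgv, ht', neg_smul]

end ext

/-- The dichotomy for a non-square minus one. -/
theorem twist_local [Fintype F] {Q : QuadraticForm F (ι → F)} {R : Subgroup (GL ι F)} {k : ℕ}
    (D : Data R k Q) {a : GL ι F} (ha : a ∈ R) (haa : a * a = -1) {p : ℕ} (hp : p.Prime)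
    (hF : Fintype.card F = p) (h4 : p % 4 = 3) (hn : 10 ≤ Fintype.card ι)
    {H : Subgroup (GL ι F)} (hH : H ≤ Cfsg.Geo.omegaGL ⇑Q) (hN : NR R Q ≤ H) (hne : ¬ Cfsg.Geo.omegaGL ⇑Q ≤ H)
    {n : GL ι F} (hn' : n ∈ H) (hna : n * a ≠ a * n) (hna' : n * a ≠ -(a * n)) :
    ∀ g ∈ H, g * a = a * g → ∀ r ∈ R, r * a = a * r → g * r * g⁻¹ ∈ R := by
  classical
  haveI : Nonempty ι := D.sign.nonempty
  have hnsq : ∀ c : F, c * c ≠ -1 := fun c hc => by
    have := (FiniteField.isSquare_neg_one_iff (F := F)).1 ⟨c, hc.symm⟩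
    rw [hF] at this
    omega
  have haa' : (a : Matrix ι ι F) * a = -1 := by rw [← Units.val_mul, haa, Units.val_neg, Units.val_one]
  let L : F × F →ₗ[F] Matrix ι ι F :=
    { toFun := fun z => z.1 • 1 + z.2 • (a : Matrix ι ι F)
      map_add' := fun z w => by simp only [Prod.fst_add, Prod.snd_add, add_smul]; abel
      map_smul' := fun c z => by simp only [Prod.smul_fst, Prod.smul_snd, RingHom.id_apply, smul_add, smul_smul,
        smul_eq_mul] }
  have hmul : ∀ x y x' y' : F, (x • 1 + y • (a : Matrix ι ι F)) * (x' • 1 + y' • (a : Matrix ι ι F)) =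
      (x * x' - y * y') • 1 + (x * y' + y * x') • (a : Matrix ι ι F) := fun x y x' y' => by
    simp only [add_mul, mul_add, smul_mul_smul_comm, one_mul, mul_one, haa', smul_neg]
    module
  let A : Subalgebra F (Matrix ι ι F) := (LinearMap.range L).toSubalgebra
    ⟨(1, 0), by change (1 : F) • (1 : Matrix ι ι F) + (0 : F) • (a : Matrix ι ι F) = 1; simp⟩ (by
    rintro _ _ ⟨⟨x, y⟩, rfl⟩ ⟨⟨x', y'⟩, rfl⟩
    exact ⟨(x * x' - y * y', x * y' + y * x'), (hmul x y x' y').symm⟩)
  have hmem : ∀ m : A, ∃ x y : F, (m : Matrix ι ι F) = x • 1 + y • (a : Matrix ι ι F) := fun m => by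
    obtain ⟨⟨x, y⟩, hxy⟩ := m.2
    exact ⟨x, y, hxy.symm⟩
  have hindep : ∀ x y : F, x • 1 + y • (a : Matrix ι ι F) = 0 → x = 0 ∧ y = 0 := by
    intro x y hxy
    have h' : (x * x + y * y) • (1 : Matrix ι ι F) = 0 := by
      rw [show (x * x + y * y) • (1 : Matrix ι ι F) = (x • 1 + y • (a : Matrix ι ι F)) * (x • 1 + (-y) • (a : Matrix ι ι F))
        by rw [hmul]; module, hxy, zero_mul]
    have h0 : x * x + y * y = 0 := by
      by_contra hc
      have := (smul_eq_zero.1 h').resolve_left hc
      exact one_ne_zero this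
    by_cases hy : y = 0
    · subst hy
      exact ⟨by simpa using h0, rfl⟩
    · exact absurd (by field_simp; linear_combination h0 : x / y * (x / y) = -1) (hnsq _)
  haveI : Nontrivial A := ⟨⟨0, 1, fun e => zero_ne_one (congrArg Subtype.val e : (0 : Matrix ι ι F) = 1)⟩⟩
  letI : CommRing A := { (inferInstance : Ring A) with
    mul_comm := fun u v => Subtype.ext (by
      obtain ⟨x, y, hu⟩ := hmem u
      obtain ⟨x', y', hv⟩ := hmem v
      change (u : Matrix ι ι F) * v = v * u
      rw [hu, hv, hmul, hmul]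
      congr 2 <;> ring) }
  have hfield : IsField A :=
    { exists_pair_ne := exists_pair_ne A
      mul_comm := mul_comm
      mul_inv_cancel := fun {u} hu => by
        obtain ⟨x, y, hxy⟩ := hmem u
        have h0 : x * x + y * y ≠ 0 := fun h0 => by
          by_cases hy : y = 0
          · subst hy
            have hx : x = 0 := by simpa using h0
            exact hu (Subtype.ext (by rw [hxy, hx]; simp))
          · exact hnsq (x / y) (by field_simp; linear_combination h0)
        refine ⟨⟨_, ⟨(x / (x * x + y * y), -y / (x * x + y * y)), rfl⟩⟩, Subtype.ext ?_⟩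
        change (u : Matrix ι ι F) * ((x / (x * x + y * y)) • 1 + (-y / (x * x + y * y)) • (a : Matrix ι ι F)) = 1
        rw [hxy, hmul, show x * (x / (x * x + y * y)) - y * (-y / (x * x + y * y)) = 1 by rw [← div_self h0]; ring,
          show x * (-y / (x * x + y * y)) + y * (x / (x * x + y * y)) = 0 by ring, one_smul, zero_smul,
          add_zero] }
  letI : Field A := hfield.toField
  letI : Fintype A := Fintype.ofFinite A
  letI modA : Module A (ι → F) :=
    Module.compHom _ (((Matrix.toLinAlgEquiv' : Matrix ι ι F ≃ₐ[F] _).toAlgHom.comp A.val).toRingHom)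
  letI : SMul A (ι → F) := modA.toDistribMulAction.toSMul
  have hsmul : ∀ (m : A) (x : ι → F), m • x = (m : Matrix ι ι F) *ᵥ x := fun m x => rfl
  haveI : IsScalarTower F A (ι → F) := IsScalarTower.of_algebraMap_smul fun c x => by
    refine (hsmul _ x).trans ?_
    change (algebraMap F (Matrix ι ι F) c) *ᵥ x = c • x
    rw [Algebra.algebraMap_eq_smul_one, smul_mulVec, one_mulVec]
  obtain ⟨i, hi⟩ : ∃ i : A, (i : Matrix ι ι F) = a :=
    ⟨⟨_, ⟨(0, 1), rfl⟩⟩, show (0 : F) • (1 : Matrix ι ι F) + (1 : F) • (a : Matrix ι ι F) = a by simp⟩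
  have hrank : Module.finrank F A = 2 := by
    have hinj : Function.Injective L := fun z w hzw => by
      have h0 := hindep (z.1 - w.1) (z.2 - w.2) (by
        have : L z - L w = 0 := sub_eq_zero.2 hzw
        rw [← map_sub] at this
        exact this)
      exact Prod.ext (sub_eq_zero.1 h0.1) (sub_eq_zero.1 h0.2)
    change Module.finrank F (LinearMap.range L) = 2
    rw [LinearMap.finrank_range_of_inj hinj, Module.finrank_prod, Module.finrank_self]
  refine twist_core D ha haa (K := A) (i := i) ⟨hrank, Subtype.ext (by change (i : Matrix ι ι F) * i = -1; rw [hi, haa']),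
    fun c hc => ?_, fun v => by rw [hsmul, hi]⟩ hp hF h4 ?_ hn hH hN hne hn' hna hna'
  · have e : (a : Matrix ι ι F) = c • 1 := by
      rw [← hi, hc]
      exact (Algebra.algebraMap_eq_smul_one c : algebraMap F (Matrix ι ι F) c = c • 1)
    have h1 := (hindep (-c) 1 (by rw [neg_smul, one_smul, e, neg_add_cancel])).2
    exact one_ne_zero h1
  · have hcard : Fintype.card A = p ^ 2 := by
      rw [Module.card_eq_pow_finrank (K := F), hrank, hF]
    intro R' hR' hirr hU _ hZ
    exact CfsgLib.SUFour.SympTwist.sympType_maximal hcard hp rfl h4 R' hR' hirr hU hZ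

end CfsgLib.Classical22.C6Plus
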