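/-
In a proper overgroup of the normaliser, what commutes with an element of square minus one normalises the group.
-/
import Cfsg.Agent.Lib.Classical22.C6Plus.Split
import Cfsg.Agent.Lib.Classical22.C6Plus.Twist
import Cfsg.Agent.Lib.Classical22.C6Four.Linear

set_option autoImplicit false
set_option maxHeartbeats 800000

namespace CfsgLib.Classical22.C6Plus

open Matrix CfsgLib.Classical CfsgLib.Classical22.C6Four
open scoped MatrixGroups

variable {ι : Type} [Fintype ι] [DecidableEq ι] {F : Type*} [Field F]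

/-- An overgroup of the normaliser inside the derived group of the isometries, not containing all of it. -/
structure Over (H R : Subgroup (GL ι F)) (k p : ℕ) (Q : QuadraticForm F (ι → F)) [Fintype F] : Prop where
  data : Data R k Q
  prime : p.Prime
  card : Fintype.card F = p
  le : H ≤ Cfsg.Geo.omegaGL ⇑Q
  above : NR R Q ≤ H
  proper : ¬ Cfsg.Geo.omegaGL ⇑Q ≤ H

namespace Over

variable [Fintype F] {H R : Subgroup (GL ι F)} {k p : ℕ} {Q : QuadraticForm F (ι → F)} (O : Over H R k p Q)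
include O

lemma mem_H {r : GL ι F} (hr : r ∈ R) : r ∈ H := O.above (O.data.le_NR hr)

/-- The centraliser of an element of square minus one keeps its centraliser in the group. -/
theorem centraliser {a : GL ι F} (ha : a ∈ R) (haa : a * a = -1) :
    ∀ g ∈ H, g * a = a * g → ∀ r ∈ R, r * a = a * r → g * r * g⁻¹ ∈ R := by
  classical
  have D := O.data
  have S := D.sign
  haveI := S.nonempty
  have ha1 := (S.qv_eq_one ha).2 haa
  have ha0 := D.ne_pm ha1
  obtain ⟨u, hu, -, hua⟩ := S.sep [] a ha (fun x hx => absurd hx List.not_mem_nil) ha0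
  obtain ⟨v, hv, hv1, hva, -, -⟩ := S.exists_q ha R.one_mem R.one_mem hu 1
  rw [hua] at hva
  obtain ⟨n, hn, hna⟩ := D.exists_move' ha hv ha0 (D.ne_pm hv1) (ha1.trans hv1.symm)
  have hne : bv v a ≠ 0 := by rw [hva]; exact one_ne_zero
  have hn1 : n * a ≠ a * n := fun e => hne (by
    rcases hna with h | h <;> rw [e, mul_inv_cancel_right] at h
    · rw [← h, bv_self]
    · rw [← neg_neg v, ← h, bv_neg, bv_self])
  have hn2 : n * a ≠ -(a * n) := fun e => hne (by
    rcases hna with h | h <;> rw [e, neg_mul, mul_inv_cancel_right] at h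
    · rw [← h, bv_neg, bv_self]
    · rw [← neg_injective h, bv_self])
  have hn' := O.above hn
  have h4k := S.four
  have hcard : 10 ≤ Fintype.card ι := by
    rw [S.card_index]
    exact le_trans (by norm_num) (Nat.pow_le_pow_right (by norm_num) h4k)
  have hpodd : p % 2 = 1 := by
    rcases O.prime.eq_two_or_odd with h | h
    · exfalso
      refine S.two_ne ?_
      have := FiniteField.cast_card_eq_zero F
      rw [O.card, h] at this
      exact_mod_cast this
    · exact h
  rcases (show p % 4 = 1 ∨ p % 4 = 3 by omega) with h4 | h4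
  · obtain ⟨i, hi⟩ := (FiniteField.isSquare_neg_one_iff (F := F)).2 (by rw [O.card]; omega)
    obtain ⟨d, P, P', E⟩ := exists_eigen (F := F) S.two_ne haa hi.symm
    have Hf := E.half S.two_ne haa hi.symm D.nondeg (D.le ha)
    obtain ⟨R', hR'⟩ := Hf.exists_img R
    obtain ⟨S4, -⟩ := Hf.sign4 D ha haa hR'
    have hd : 5 ≤ d := by
      have h := S4.card_index
      rw [Fintype.card_fin] at h
      rw [h]
      exact le_trans (by norm_num) (Nat.pow_le_pow_right (by norm_num) (show 3 ≤ k - 1 by omega))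
    rcases Hf.dichotomy D ha haa (lin := True) ⟨fun _ => trivial, fun _ _ _ => rfl⟩
        (linear_base O.prime O.card h4 i) O.le O.above with hgood | hfull
    · exact hgood
    · obtain ⟨w, hw, -, hwa⟩ := S.sep [] a ha (fun x hx => absurd hx List.not_mem_nil) ha0
      exact absurd (E.full S.two_ne haa hi.symm D.nondeg (D.le ha) hd D.five_le O.le hfull (O.mem_H hw)
        ((S.bv_eq_one hw ha).1 hwa) hn' hn1 hn2) O.proper
  · exact twist_local D ha haa O.prime O.card h4 hcard O.le O.above O.proper hn' hn1 hn2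

/-- What commutes with an element of square minus one normalises the group. -/
theorem conj_mem {a : GL ι F} (ha : a ∈ R) (haa : a * a = -1) {g : GL ι F} (hg : g ∈ H) (hga : g * a = a * g) :
    ∀ r ∈ R, g * r * g⁻¹ ∈ R := by
  classical
  have D := O.data
  have S := D.sign
  have ha1 := (S.qv_eq_one ha).2 haa
  obtain ⟨v, hv, w, hw, hvw, ⟨hva, -, -⟩, ⟨hwa, -, -⟩⟩ := S.exists_pair ha R.one_mem R.one_mem
  obtain ⟨b, hb, hb1, hba, hbw, -⟩ := S.exists_q ha hw R.one_mem hv 1
  rw [hva] at hba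
  rw [hvw] at hbw
  have hab : a ≠ b ∧ a ≠ -b := ⟨fun e => by
      rw [← e, bv_symm, hwa] at hbw; exact zero_ne_one hbw,
    fun e => by rw [← neg_neg b, ← e, bv_neg, bv_symm, hwa] at hbw; exact zero_ne_one hbw⟩
  have hbb := (S.qv_eq_one hb).1 hb1
  have hba' := bv_eq_zero.1 hba
  obtain ⟨c, hc⟩ : ∃ c, c = g * b * g⁻¹ := ⟨_, rfl⟩
  have hcR : c ∈ R := hc ▸ O.centraliser ha haa g hg hga b hb hba'
  have hc1 : qv c = 1 := (S.qv_eq_one hcR).2 (by
    rw [hc, show g * b * g⁻¹ * (g * b * g⁻¹) = g * (b * b) * g⁻¹ by group, hbb, mul_neg_one, neg_mul, mul_inv_cancel])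
  have hgainv : g * a * g⁻¹ = a := by rw [hga, mul_inv_cancel_right]
  have hca : bv a c = 0 := bv_eq_zero.2 (by
    rw [hc]
    conv_lhs => rw [← hgainv]
    conv_rhs => rw [← hgainv]
    rw [show g * a * g⁻¹ * (g * b * g⁻¹) = g * (a * b) * g⁻¹ by group, ← hba']
    group)
  have hac : a ≠ c ∧ a ≠ -c := ⟨fun e => hab.1 (by
      rw [hc] at e
      exact mul_left_cancel (mul_right_cancel ((hgainv.trans e) : g * a * g⁻¹ = g * b * g⁻¹))),
    fun e => hab.2 (by
      rw [hc] at e
      exact mul_left_cancel (mul_right_cancel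
        ((hgainv.trans e).trans (by simp) : g * a * g⁻¹ = g * -b * g⁻¹)))⟩
  obtain ⟨n, hn, hnc, hna⟩ := D.exists_move hcR hb ha (D.ne_pm hc1) (D.ne_pm hb1) (hc1.trans hb1.symm) hac hab hca
    (by rw [bv_symm]; exact hba)
  have key : ∀ m ∈ NR R Q, m * a * m⁻¹ = a → m * c * m⁻¹ = b → ∀ r ∈ R, g * r * g⁻¹ ∈ R := by
    intro m hm hma hmc r hr
    obtain ⟨h, hh⟩ : ∃ h, h = m * g := ⟨_, rfl⟩
    have hhH : h ∈ H := hh ▸ H.mul_mem (O.above hm) hg
    have hha : h * a = a * h := by
      rw [← mul_inv_eq_iff_eq_mul, hh, show m * g * a * (m * g)⁻¹ = m * (g * a * g⁻¹) * m⁻¹ by group, hgainv, hma]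
    have hhb : h * b = b * h := by
      rw [← mul_inv_eq_iff_eq_mul, hh, show m * g * b * (m * g)⁻¹ = m * (g * b * g⁻¹) * m⁻¹ by group, ← hc, hmc]
    have hall : h * r * h⁻¹ ∈ R := by
      rcases S.bv_cases r a with hra | hra
      · exact O.centraliser ha haa h hhH hha r hr (bv_eq_zero.1 hra)
      rcases S.bv_cases r b with hrb | hrb
      · exact O.centraliser hb hbb h hhH hhb r hr (bv_eq_zero.1 hrb)
      have hrw : bv (r * w) b = 0 := by rw [S.bv_mul hr hw hb, hrb, bv_symm w, hbw, zmod_self]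
      rw [show h * r * h⁻¹ = h * (r * w) * h⁻¹ * (h * w * h⁻¹)⁻¹ by group]
      exact R.mul_mem (O.centraliser hb hbb h hhH hhb _ (R.mul_mem hr hw) (bv_eq_zero.1 hrw))
        (R.inv_mem (O.centraliser ha haa h hhH hha w hw (bv_eq_zero.1 hwa)))
    refine (Subgroup.mem_normalizer_iff.1 hm.1 _).2 ?_
    rwa [show m * (g * r * g⁻¹) * m⁻¹ = h * r * h⁻¹ by rw [hh]; group]
  rcases hnc with e | e
  · exact key n hn hna e
  · refine key (w * n) ((NR R Q).mul_mem (D.le_NR hw) hn) ?_ ?_
    · rw [show w * n * a * (w * n)⁻¹ = w * (n * a * n⁻¹) * w⁻¹ by group, hna, bv_eq_zero.1 hwa,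
        mul_inv_cancel_right]
    · rw [show w * n * c * (w * n)⁻¹ = w * (n * c * n⁻¹) * w⁻¹ by group, e, mul_neg,
        (S.bv_eq_one hw hb).1 (by rw [bv_symm]; exact hbw), neg_neg, mul_inv_cancel_right]

/-- Membership form. -/
theorem mem_NR {a : GL ι F} (ha : a ∈ R) (haa : a * a = -1) {g : GL ι F} (hg : g ∈ H) (hga : g * a = a * g) :
    g ∈ NR R Q := by
  refine ⟨Subgroup.mem_normalizer_iff.2 fun r => ⟨fun hr => O.conj_mem ha haa hg hga r hr, fun hr => ?_⟩, O.le hg⟩
  have h := O.conj_mem ha haa (H.inv_mem hg) (inv_mul_eq_iff_eq_mul.2 (by rw [← mul_assoc, hga, mul_inv_cancel_right]))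
    _ hr
  rwa [show g⁻¹ * (g * r * g⁻¹) * g⁻¹⁻¹ = r by group] at h

end Over

end CfsgLib.Classical22.C6Plus
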