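/-
An involution with an anticommuting involution: the restriction of commuting elements to one eigenspace.
-/
import Cfsg.Agent.Lib.Classical22.C6Plus.Gens

set_option autoImplicit false
set_option maxHeartbeats 800000

namespace CfsgLib.Classical22.C6Plus

open Matrix CfsgLib.Classical
open scoped MatrixGroups

variable {ι : Type} [Fintype ι] [DecidableEq ι] {F : Type*} [Field F]

/-- The projection on the fixed space. -/
def pP (r : GL ι F) : Matrix ι ι F := (2 : F)⁻¹ • (1 + (r : Matrix ι ι F))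

/-- The projection on the inverted space. -/
def pM (r : GL ι F) : Matrix ι ι F := (2 : F)⁻¹ • (1 - (r : Matrix ι ι F))

/-- An involution `r` and an anticommuting involution `y`. -/
structure Duo (r y : GL ι F) : Prop where
  two_ne : (2 : F) ≠ 0
  rr : r * r = 1
  yy : y * y = 1
  anti : y * r = -(r * y)

namespace Duo

variable {r y : GL ι F} (P : Duo r y)
include P

lemma rr' : (r : Matrix ι ι F) * r = 1 := by rw [← Units.val_mul, P.rr, Units.val_one]

lemma sum : pP r + pM r = (1 : Matrix ι ι F) := by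
  rw [pP, pM, ← smul_add, show (1 : Matrix ι ι F) + r + (1 - r) = (2 : F) • 1 by rw [two_smul]; abel, smul_smul,
    inv_mul_cancel₀ P.two_ne, one_smul]

lemma pp : pP r * pP r = pP r := by
  rw [pP, smul_mul_smul_comm, show (1 + (r : Matrix ι ι F)) * (1 + r) = (2 : F) • (1 + r) by
    rw [add_mul, one_mul, mul_add, mul_one, P.rr', two_smul]; abel, smul_smul, mul_assoc,
    inv_mul_cancel₀ P.two_ne, mul_one]

lemma mm : pM r * pM r = pM r := by
  rw [pM, smul_mul_smul_comm, show (1 - (r : Matrix ι ι F)) * (1 - r) = (2 : F) • (1 - r) by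
    rw [sub_mul, one_mul, mul_sub, mul_one, P.rr', two_smul]; abel, smul_smul, mul_assoc,
    inv_mul_cancel₀ P.two_ne, mul_one]

lemma pm' : pP r * pM r = 0 := by
  rw [pP, pM, smul_mul_smul_comm, show (1 + (r : Matrix ι ι F)) * (1 - r) = 0 by
    rw [mul_sub, mul_one, add_mul, one_mul, P.rr']; abel, smul_zero]

lemma mp : pM r * pP r = 0 := by
  rw [pP, pM, smul_mul_smul_comm, show (1 - (r : Matrix ι ι F)) * (1 + r) = 0 by
    rw [mul_add, mul_one, sub_mul, one_mul, P.rr']; abel, smul_zero]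

omit P in
lemma comm_p {m : Matrix ι ι F} (h : m * r = r * m) : m * pP r = pP r * m := by
  rw [pP, mul_smul_comm, smul_mul_assoc, mul_add, add_mul, mul_one, one_mul, h]

omit P in
lemma comm_m {m : Matrix ι ι F} (h : m * r = r * m) : m * pM r = pM r * m := by
  rw [pM, mul_smul_comm, smul_mul_assoc, mul_sub, sub_mul, mul_one, one_mul, h]

lemma yp : (y : Matrix ι ι F) * pP r = pM r * y := by
  have h : (y : Matrix ι ι F) * r = -((r : Matrix ι ι F) * y) := congrArg Units.val P.anti
  rw [pP, pM, mul_smul_comm, smul_mul_assoc, mul_add, mul_one, h, sub_mul, one_mul, sub_eq_add_neg]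

lemma ym : (y : Matrix ι ι F) * pM r = pP r * y := by
  have h : (y : Matrix ι ι F) * r = -((r : Matrix ι ι F) * y) := congrArg Units.val P.anti
  rw [pP, pM, mul_smul_comm, smul_mul_assoc, mul_sub, mul_one, h, add_mul, one_mul, sub_neg_eq_add]

lemma r_pP : (r : Matrix ι ι F) * pP r = pP r := by
  rw [pP, mul_smul_comm, mul_add, mul_one, P.rr', add_comm]

lemma r_pM : (r : Matrix ι ι F) * pM r = -pM r := by
  rw [pM, mul_smul_comm, mul_sub, mul_one, P.rr', ← smul_neg, neg_sub]

/-- Equality is checked on the two eigenspaces. -/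
lemma ext {g h : GL ι F} (h1 : (g : Matrix ι ι F) * pP r = (h : Matrix ι ι F) * pP r)
    (h2 : (g : Matrix ι ι F) * pM r = (h : Matrix ι ι F) * pM r) : g = h := by
  refine Units.ext ?_
  calc (g : Matrix ι ι F) = (g : Matrix ι ι F) * (pP r + pM r) := by rw [P.sum, mul_one]
    _ = (h : Matrix ι ι F) * (pP r + pM r) := by rw [mul_add, mul_add, h1, h2]
    _ = h := by rw [P.sum, mul_one]

omit P in
lemma mem_cr {g : GL ι F} : g ∈ Subgroup.centralizer ({r} : Set (GL ι F)) ↔ g * r = r * g :=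
  Subgroup.mem_centralizer_singleton_iff

omit P in
lemma val_comm {g : GL ι F} (h : g * r = r * g) : (g : Matrix ι ι F) * r = r * (g : Matrix ι ι F) :=
  congrArg Units.val h

omit P in
lemma inv_comm {g : GL ι F} (h : g * r = r * g) : g⁻¹ * r = r * g⁻¹ :=
  inv_mul_eq_iff_eq_mul.2 (by rw [← mul_assoc, h, mul_inv_cancel_right])

omit P in
lemma mul_comm_r {g h : GL ι F} (hg : g * r = r * g) (hh : h * r = r * h) : g * h * r = r * (g * h) := by
  rw [mul_assoc, hh, ← mul_assoc, hg, mul_assoc]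

/-- The identity on the fixed space, `g` on the inverted one. -/
noncomputable def lo : Subgroup.centralizer ({r} : Set (GL ι F)) →* GL ι F where
  toFun g :=
    { val := pP r + ((g : GL ι F) : Matrix ι ι F) * pM r
      inv := pP r + (((g⁻¹ : Subgroup.centralizer ({r} : Set (GL ι F))) : GL ι F) : Matrix ι ι F) * pM r
      val_inv := by
        have hc := val_comm (mem_cr.1 (g⁻¹).2)
        rw [add_mul, mul_add, mul_add, P.pp, comm_m hc, ← mul_assoc, P.pm', Matrix.zero_mul, add_zero, mul_assoc,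
          P.mp, Matrix.mul_zero, zero_add, mul_assoc, ← mul_assoc (pM r), P.mm, ← comm_m hc, ← mul_assoc,
          Subgroup.coe_inv, Units.mul_inv, one_mul, P.sum]
      inv_val := by
        have hc := val_comm (mem_cr.1 g.2)
        rw [add_mul, mul_add, mul_add, P.pp, comm_m hc, ← mul_assoc, P.pm', Matrix.zero_mul, add_zero, mul_assoc,
          P.mp, Matrix.mul_zero, zero_add, mul_assoc, ← mul_assoc (pM r), P.mm, ← comm_m hc, ← mul_assoc,
          Subgroup.coe_inv, Units.inv_mul, one_mul, P.sum] }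
  map_one' := Units.ext (by
    change pP r + ((1 : GL ι F) : Matrix ι ι F) * pM r = ((1 : GL ι F) : Matrix ι ι F)
    rw [Units.val_one, one_mul, P.sum])
  map_mul' g h := Units.ext (by
    have hc := val_comm (mem_cr.1 h.2)
    change pP r + (((g : GL ι F) * (h : GL ι F) : GL ι F) : Matrix ι ι F) * pM r =
      (pP r + ((g : GL ι F) : Matrix ι ι F) * pM r) * (pP r + ((h : GL ι F) : Matrix ι ι F) * pM r)
    rw [add_mul, mul_add, mul_add, P.pp, comm_m hc, ← mul_assoc, P.pm', Matrix.zero_mul, add_zero, mul_assoc,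
      P.mp, Matrix.mul_zero, zero_add, mul_assoc ((g : GL ι F) : Matrix ι ι F), ← mul_assoc (pM r), P.mm,
      ← comm_m hc, Units.val_mul, mul_assoc])

lemma lo_val (g : Subgroup.centralizer ({r} : Set (GL ι F))) :
    (P.lo g : Matrix ι ι F) = pP r + ((g : GL ι F) : Matrix ι ι F) * pM r := rfl

lemma lo_p (g : Subgroup.centralizer ({r} : Set (GL ι F))) : (P.lo g : Matrix ι ι F) * pP r = pP r := by
  rw [P.lo_val, add_mul, P.pp, mul_assoc, P.mp, Matrix.mul_zero, add_zero]

lemma lo_m (g : Subgroup.centralizer ({r} : Set (GL ι F))) :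
    (P.lo g : Matrix ι ι F) * pM r = ((g : GL ι F) : Matrix ι ι F) * pM r := by
  rw [P.lo_val, add_mul, P.pm', zero_add, mul_assoc, P.mm]

lemma lo_comm (g : Subgroup.centralizer ({r} : Set (GL ι F))) : P.lo g * r = r * P.lo g := by
  refine Units.ext ?_
  have hc := val_comm (mem_cr.1 g.2)
  rw [Units.val_mul, Units.val_mul, P.lo_val, add_mul, mul_add, ← comm_p (rfl : (r : Matrix ι ι F) * r = r * r),
    mul_assoc, ← comm_m (rfl : (r : Matrix ι ι F) * r = r * r), ← mul_assoc, hc, mul_assoc]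

variable [Fintype F] {Q : QuadraticForm F (ι → F)} (hr : r ∈ Cfsg.isometryGroup F ⇑Q)
include hr

lemma quad_split (v : ι → F) : Q v = Q (pP r *ᵥ v) + Q (pM r *ᵥ v) := by
  conv_lhs => rw [← Matrix.one_mulVec v, ← P.sum, Matrix.add_mulVec]
  rw [QuadraticMap.map_add ⇑Q]
  have h : QuadraticMap.polar Q (pP r *ᵥ v) (pM r *ᵥ v) = 0 := by
    refine two_smul_eq_zero P.two_ne ?_
    conv_lhs => rw [show QuadraticMap.polar Q (pP r *ᵥ v) (pM r *ᵥ v) =
      QuadraticMap.polar Q ((r : Matrix ι ι F) *ᵥ (pP r *ᵥ v)) ((r : Matrix ι ι F) *ᵥ (pM r *ᵥ v)) by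
        simp only [QuadraticMap.polar, ← Matrix.mulVec_add, mem_iso.1 hr]]
    rw [Matrix.mulVec_mulVec, Matrix.mulVec_mulVec, P.r_pP, P.r_pM, Matrix.neg_mulVec, QuadraticMap.polar_neg_right]
  rw [h, add_zero]

lemma lo_iso {g : Subgroup.centralizer ({r} : Set (GL ι F))} (hg : (g : GL ι F) ∈ Cfsg.isometryGroup F ⇑Q) :
    P.lo g ∈ Cfsg.isometryGroup F ⇑Q := by
  refine mem_iso.2 fun v => ?_
  have hc := val_comm (mem_cr.1 g.2)
  have e1 : pP r * (P.lo g : Matrix ι ι F) = pP r := by
    rw [← comm_p (val_comm (P.lo_comm g)), P.lo_p]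
  have e2 : pM r * (P.lo g : Matrix ι ι F) = ((g : GL ι F) : Matrix ι ι F) * pM r := by
    rw [← comm_m (val_comm (P.lo_comm g)), P.lo_m]
  rw [P.quad_split hr, P.quad_split hr v, Matrix.mulVec_mulVec, Matrix.mulVec_mulVec, e1, e2, ← Matrix.mulVec_mulVec,
    mem_iso.1 hg]

end Duo

end CfsgLib.Classical22.C6Plus
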