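/-
The elements of the group restricted to one eigenspace of an involution of the group lie in the normaliser; the
normaliser meets the elements trivial on the other eigenspace in exactly these.
-/
import Cfsg.Agent.Lib.Classical22.C6Plus.Local
import Cfsg.Agent.Lib.Classical22.C6Plus.Side

set_option autoImplicit false
set_option maxHeartbeats 1000000

namespace CfsgLib.Classical22.C6Plus

open Matrix CfsgLib.Classical
open scoped MatrixGroups

variable {ι : Type} [Fintype ι] [DecidableEq ι] {F : Type*} [Field F] [Fintype F]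

/-- An involution of the group outside the signs with an anticommuting involution. -/
structure Pair0 (R : Subgroup (GL ι F)) (r y : GL ι F) : Prop where
  duo : Duo r y
  mem_r : r ∈ R
  mem_y : y ∈ R

/-- The part of the group commuting with both. -/
noncomputable def core (R : Subgroup (GL ι F)) (r y : GL ι F) : Subgroup (GL ι F) :=
  R ⊓ Subgroup.centralizer {r} ⊓ Subgroup.centralizer {y}

omit [Fintype F] in
lemma mem_core {R : Subgroup (GL ι F)} {r y z : GL ι F} :
    z ∈ core R r y ↔ z ∈ R ∧ z * r = r * z ∧ z * y = y * z := by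
  rw [core, Subgroup.mem_inf, Subgroup.mem_inf, Subgroup.mem_centralizer_singleton_iff,
    Subgroup.mem_centralizer_singleton_iff, and_assoc]

omit [Fintype F] in
lemma core_le {R : Subgroup (GL ι F)} {r y : GL ι F} : core R r y ≤ Subgroup.centralizer {r} :=
  inf_le_left.trans inf_le_right

namespace Pair0

variable {R : Subgroup (GL ι F)} {k : ℕ} {Q : QuadraticForm F (ι → F)} {r y : GL ι F} (P : Pair0 R r y)
  (D : Data R k Q)
include P

/-- The restriction to the inverted space, as a homomorphism on the common centraliser. -/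
noncomputable def rho : core R r y →* GL ι F := P.duo.lo.comp (Subgroup.inclusion core_le)

omit [Fintype F] in
lemma rho_p (z : core R r y) : (P.rho z : Matrix ι ι F) * pP r = pP r := P.duo.lo_p _

omit [Fintype F] in
lemma rho_m (z : core R r y) : (P.rho z : Matrix ι ι F) * pM r = ((z : GL ι F) : Matrix ι ι F) * pM r :=
  P.duo.lo_m _

omit [Fintype F] in
lemma rho_comm (z : core R r y) : P.rho z * r = r * P.rho z := P.duo.lo_comm _

include D

lemma bv_ry : bv r y = 1 := (D.sign.bv_eq_one P.mem_r P.mem_y).2 (by rw [P.duo.anti, neg_neg])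

lemma core_bv {z : GL ι F} (hz : z ∈ core R r y) : bv z r = 0 ∧ bv z y = 0 :=
  ⟨bv_eq_zero.2 (mem_core.1 hz).2.1, bv_eq_zero.2 (mem_core.1 hz).2.2⟩

omit [Fintype F] P in
lemma mem_core' {z : GL ι F} (hz : z ∈ R) (h1 : bv z r = 0) (h2 : bv z y = 0) : z ∈ core R r y :=
  mem_core.2 ⟨hz, bv_eq_zero.1 h1, bv_eq_zero.1 h2⟩

lemma neg_core : (-1 : GL ι F) ∈ core R r y :=
  mem_core.2 ⟨D.sign.neg, by rw [neg_one_mul, mul_neg_one], by rw [neg_one_mul, mul_neg_one]⟩

lemma rho_neg : P.rho ⟨-1, P.neg_core D⟩ = r := P.duo.ext (by rw [P.rho_p, P.duo.r_pP]) (by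
  rw [P.rho_m, P.duo.r_pM]
  change ((-1 : GL ι F) : Matrix ι ι F) * pM r = _
  rw [Units.val_neg, Units.val_one, neg_one_mul])

lemma rho_neg_mul (z : core R r y) : P.rho z * r = P.rho (z * ⟨-1, P.neg_core D⟩) := by
  rw [map_mul, P.rho_neg D]

omit [Fintype F] D in
lemma rho_inj : Function.Injective P.rho := by
  intro z w h
  have hm : ((z : GL ι F) : Matrix ι ι F) * pM r = ((w : GL ι F) : Matrix ι ι F) * pM r := by
    rw [← P.rho_m, ← P.rho_m, h]
  refine Subtype.ext (P.duo.ext ?_ hm)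
  have hy : (y : Matrix ι ι F) * y = 1 := by rw [← Units.val_mul, P.duo.yy, Units.val_one]
  have key : ∀ u : core R r y, ((u : GL ι F) : Matrix ι ι F) * pP r = y * (((u : GL ι F) : Matrix ι ι F) * pM r) * y := by
    intro u
    have hu : ((u : GL ι F) : Matrix ι ι F) * y = y * ((u : GL ι F) : Matrix ι ι F) :=
      congrArg Units.val (mem_core.1 u.2).2.2
    rw [← mul_assoc, ← hu, mul_assoc _ _ (pM r), P.duo.ym, mul_assoc, mul_assoc, hy, mul_one]
  rw [key, key, hm]

lemma rho_eq_one_or {z : core R r y} (h : P.rho z = 1 ∨ P.rho z = r) :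
    (z : GL ι F) = 1 ∨ (z : GL ι F) = -1 := by
  rcases h with h | h
  · left; rw [P.rho_inj (h.trans (map_one P.rho).symm)]; rfl
  · right; rw [P.rho_inj (h.trans (P.rho_neg D).symm)]

lemma rho_qv (z : core R r y) : qv (P.rho z) = qv (z : GL ι F) := by
  have hR := (mem_core.1 z.2).1
  by_cases h : (z : GL ι F) * z = 1
  · rw [qv_eq_zero.2 h, qv_eq_zero, ← map_mul, show z * z = 1 from Subtype.ext h, map_one]
  · have h1 := (D.sign.sq _ hR).resolve_left h
    have h2 : P.rho z * P.rho z ≠ 1 := fun e => by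
      rw [← map_mul, show z * z = ⟨-1, P.neg_core D⟩ from Subtype.ext h1, P.rho_neg D] at e
      have := P.bv_ry D
      rw [e, D.sign.bv_one] at this
      exact zero_ne_one this
    rw [(D.sign.qv_eq_one hR).2 h1, qv, if_neg h2]

/-- Elements of the group in general position. -/
lemma exists_anti0 {z : GL ι F} (hz : z ∈ core R r y) (hz0 : z ≠ 1 ∧ z ≠ -1) :
    ∃ v ∈ core R r y, bv v z = 1 := by
  have S := D.sign
  obtain ⟨h1, h2⟩ := P.core_bv D hz
  have hzR := (mem_core.1 hz).1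
  have hry := P.bv_ry D
  have hne : ∀ u, ∀ t : GL ι F, bv u t = 1 → u ≠ 1 ∧ u ≠ -1 := fun u t hu =>
    ⟨fun e => by rw [e, S.bv_one] at hu; exact zero_ne_one hu,
      fun e => by rw [e, bv_neg, S.bv_one] at hu; exact zero_ne_one hu⟩
  have a1 : bv (z * y) r = 1 := by rw [S.bv_mul hzR P.mem_y P.mem_r, h1, zero_add, bv_symm, hry]
  have a2 : bv (z * r) y = 1 := by rw [S.bv_mul hzR P.mem_r P.mem_y, h2, zero_add, hry]
  have a3 : bv (z * r * y) r = 1 := by
    rw [S.bv_mul (R.mul_mem hzR P.mem_r) P.mem_y P.mem_r, S.bv_mul hzR P.mem_r P.mem_r, h1, bv_self, add_zero,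
      zero_add, bv_symm, hry]
  obtain ⟨v, hv, hvl, hvz⟩ := S.sep [r, y] z hzR
    (fun a ha => by
      simp only [List.mem_cons, List.not_mem_nil, or_false] at ha
      rcases ha with rfl | rfl
      exacts [P.mem_r, P.mem_y])
    ⟨⟨hz0, hne _ _ a1⟩, hne _ _ a2, hne _ _ a3⟩
  exact ⟨v, mem_core' D hv (hvl r (by simp)) (hvl y (by simp)), hvz⟩

/-- The restriction of an element of square minus one is a commutator of isometries. -/
lemma rho_omega_one {z : core R r y} (hz1 : qv (z : GL ι F) = 1) : P.rho z ∈ Cfsg.Geo.omegaGL ⇑Q := by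
  have S := D.sign
  have hzR := (mem_core.1 z.2).1
  obtain ⟨v, hv, hvz⟩ := P.exists_anti0 D z.2 (D.ne_pm hz1)
  obtain ⟨hv1, hv2⟩ := P.core_bv D hv
  obtain ⟨c, hc, hc1, hcr, hcy, hcz⟩ := S.exists_q P.mem_r P.mem_y hzR (mem_core.1 hv).1 1
  rw [hv1] at hcr; rw [hv2] at hcy; rw [hvz] at hcz
  obtain ⟨w, hw, hw1, hwr, hwy, hwt⟩ := S.exists_q P.mem_r P.mem_y (R.mul_mem hzR hc) R.one_mem 1
  rw [S.bv_one] at hwr hwy hwt
  obtain ⟨hzr, hzy⟩ := P.core_bv D z.2
  have hconj : ∀ x, x ∈ R → bv x (z : GL ι F) = 0 → bv x w = 0 → pr w (z : GL ι F) * x * (pr w (z : GL ι F))⁻¹ = x := by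
    intro x hx h1 h2
    rw [D.pr_conj hw hw1 hzR hz1 hx, T, T, if_pos h1, if_pos h2]
  have htr : pr w (z : GL ι F) * r = r * pr w (z : GL ι F) :=
    mul_inv_eq_iff_eq_mul.1 (hconj r P.mem_r (by rw [bv_symm, hzr]) (by rw [bv_symm, hwr]))
  have htc : pr w (z : GL ι F) * c * (pr w (z : GL ι F))⁻¹ = (z : GL ι F) * c := by
    rw [D.pr_conj hw hw1 hzR hz1 hc, show T (z : GL ι F) c = (z : GL ι F) * c by
      rw [T, if_neg (by rw [hcz]; decide)], T, if_pos (by rw [bv_symm, hwt])]
  have hcC : c * r = r * c := bv_eq_zero.1 hcr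
  have e : P.duo.lo (⟨_, Duo.mem_cr.2 htr⟩ * ⟨c, Duo.mem_cr.2 hcC⟩ * (⟨_, Duo.mem_cr.2 htr⟩)⁻¹ *
      (⟨c, Duo.mem_cr.2 hcC⟩)⁻¹) = P.rho z := by
    rw [rho, MonoidHom.comp_apply]
    congr 1
    refine Subtype.ext ?_
    change pr w (z : GL ι F) * c * (pr w (z : GL ι F))⁻¹ * c⁻¹ = (z : GL ι F)
    rw [htc, mul_inv_cancel_right]
  rw [← e, map_mul, map_mul, map_mul, map_inv, map_inv]
  exact omega_conj (P.duo.lo_iso (D.le P.mem_r) (D.pr_iso hw hw1 hzR hz1))
    (P.duo.lo_iso (D.le P.mem_r) (D.le hc))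

lemma rho_omega (z : core R r y) : P.rho z ∈ Cfsg.Geo.omegaGL ⇑Q := by
  have S := D.sign
  have hzR := (mem_core.1 z.2).1
  by_cases hz1 : qv (z : GL ι F) = 1
  · exact P.rho_omega_one D hz1
  obtain ⟨a, ha, ha1, har, hay, haz⟩ := S.exists_q P.mem_r P.mem_y hzR R.one_mem 1
  rw [S.bv_one] at har hay haz
  have hac := mem_core' D ha har hay
  have e : P.rho z = (P.rho ⟨a, hac⟩)⁻¹ * P.rho (⟨a, hac⟩ * z) := by rw [map_mul, inv_mul_cancel_left]
  rw [e]
  refine mul_mem (inv_mem (P.rho_omega_one D ha1)) (P.rho_omega_one D ?_)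
  change qv (a * (z : GL ι F)) = 1
  have h0 : qv (z : GL ι F) = 0 := by
    by_contra hne; exact hz1 (zmod_ne_zero hne)
  rw [S.qv_mul ha hzR, ha1, h0, haz, add_zero, add_zero]

/-- Sufficient for normalising: the two involutions and their common centraliser are moved into the group. -/
lemma conj_mem_of {g : GL ι F} (hgr : g * r * g⁻¹ ∈ R) (hgy : g * y * g⁻¹ ∈ R)
    (hgc : ∀ u ∈ core R r y, g * u * g⁻¹ ∈ R) : g ∈ Subgroup.normalizer (R : Set (GL ι F)) := by
  have S := D.sign
  haveI : Fintype (R : Set (GL ι F)) := Fintype.ofFinite _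
  have hry := P.bv_ry D
  have h1 : ∀ u ∈ R, bv u r = 0 → g * u * g⁻¹ ∈ R := by
    intro u hu hur
    rcases S.bv_cases u y with h | h
    · exact hgc u (mem_core' D hu hur h)
    · have := hgc (u * r) (mem_core' D (R.mul_mem hu P.mem_r)
        (by rw [S.bv_mul hu P.mem_r P.mem_r, hur, bv_self, add_zero])
        (by rw [S.bv_mul hu P.mem_r P.mem_y, h, hry, zmod_self]))
      have h' := R.mul_mem this (R.inv_mem hgr)
      rwa [show g * (u * r) * g⁻¹ * (g * r * g⁻¹)⁻¹ = g * u * g⁻¹ by group] at h'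
  refine Subgroup.mem_normalizer_fintype fun u hu => ?_
  rcases S.bv_cases u r with h | h
  · exact h1 u hu h
  · have h' := R.mul_mem (h1 (u * y) (R.mul_mem hu P.mem_y)
      (by rw [S.bv_mul hu P.mem_y P.mem_r, h, bv_symm, hry, zmod_self])) (R.inv_mem hgy)
    rwa [show g * (u * y) * g⁻¹ * (g * y * g⁻¹)⁻¹ = g * u * g⁻¹ by group] at h'

/-- The restriction lies in the normaliser. -/
lemma rho_NR (z : core R r y) : P.rho z ∈ NR R Q := by
  have S := D.sign
  refine ⟨P.conj_mem_of D (by rw [P.rho_comm, mul_inv_cancel_right]; exact P.mem_r) ?_ fun u hu => ?_,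
    P.rho_omega D z⟩
  · have hzR := (mem_core.1 z.2).1
    have hzr : ((z : GL ι F) : Matrix ι ι F) * r = r * ((z : GL ι F) : Matrix ι ι F) :=
      congrArg Units.val (mem_core.1 z.2).2.1
    have hzy : ((z : GL ι F) : Matrix ι ι F) * y = y * ((z : GL ι F) : Matrix ι ι F) :=
      congrArg Units.val (mem_core.1 z.2).2.2
    obtain ⟨c, hc, hcP, hcM⟩ : ∃ c ∈ R,
        (c : Matrix ι ι F) * ((z : GL ι F) : Matrix ι ι F) * pP r = pP r ∧
        (c : Matrix ι ι F) * pM r = ((z : GL ι F) : Matrix ι ι F) * pM r := by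
      rcases S.sq _ hzR with h | h
      · exact ⟨z, hzR, by rw [← Units.val_mul, h, Units.val_one, one_mul], rfl⟩
      · refine ⟨-((z : GL ι F) * r), S.neg_mem (R.mul_mem hzR P.mem_r), ?_, ?_⟩
        · rw [Units.val_neg, Units.val_mul, neg_mul, neg_mul, mul_assoc _ (r : Matrix ι ι F), ← hzr, ← mul_assoc, ← Units.val_mul, h,
            Units.val_neg, Units.val_one, neg_one_mul, neg_mul, neg_neg, P.duo.r_pP]
        · rw [Units.val_neg, Units.val_mul, neg_mul, mul_assoc, P.duo.r_pM, mul_neg, neg_neg]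
    have e : P.rho z * y = c * y * P.rho z := P.duo.ext (by
        rw [Units.val_mul, Units.val_mul, Units.val_mul, mul_assoc, P.duo.yp, ← mul_assoc, P.rho_m, mul_assoc (_ * _),
          P.rho_p, mul_assoc, ← P.duo.yp, mul_assoc (c : Matrix ι ι F), P.duo.yp, ← mul_assoc, ← mul_assoc, hcM]) (by
        rw [Units.val_mul, Units.val_mul, Units.val_mul, mul_assoc, P.duo.ym, ← mul_assoc, P.rho_p, mul_assoc (_ * _),
          P.rho_m, ← mul_assoc, mul_assoc (c : Matrix ι ι F) (y : Matrix ι ι F), ← hzy, ← mul_assoc,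
          mul_assoc _ (y : Matrix ι ι F) (pM r), P.duo.ym, ← mul_assoc, hcP])
    rw [e, mul_inv_cancel_right]
    exact R.mul_mem hc P.mem_y
  · have hur : (u : Matrix ι ι F) * r = r * (u : Matrix ι ι F) := congrArg Units.val (mem_core.1 hu).2.1
    have huR := (mem_core.1 hu).1
    have hzR := (mem_core.1 z.2).1
    rcases S.comm _ hzR u huR with h | h
    · have h' := congrArg Units.val h
      rw [Units.val_mul, Units.val_mul] at h'
      have e : P.rho z * u = u * P.rho z := P.duo.ext (by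
          rw [Units.val_mul, Units.val_mul, mul_assoc, Duo.comm_p hur, ← mul_assoc, P.rho_p, mul_assoc _ _ (pP r),
            P.rho_p, Duo.comm_p hur]) (by
          rw [Units.val_mul, Units.val_mul, mul_assoc, Duo.comm_m hur, ← mul_assoc, P.rho_m, mul_assoc,
            ← Duo.comm_m hur, ← mul_assoc, h', mul_assoc, mul_assoc (u : Matrix ι ι F), P.rho_m])
      rw [e, mul_inv_cancel_right]
      exact huR
    · have h' := congrArg Units.val h
      rw [Units.val_neg, Units.val_mul, Units.val_mul] at h'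
      have hzr : ((z : GL ι F) : Matrix ι ι F) * r = r * ((z : GL ι F) : Matrix ι ι F) :=
        congrArg Units.val (mem_core.1 z.2).2.1
      have e : P.rho z * u = u * r * P.rho z := P.duo.ext (by
          rw [Units.val_mul, Units.val_mul, Units.val_mul, mul_assoc, Duo.comm_p hur, ← mul_assoc, P.rho_p,
            mul_assoc (_ * _), P.rho_p, mul_assoc, P.duo.r_pP, Duo.comm_p hur]) (by
          rw [Units.val_mul, Units.val_mul, Units.val_mul, mul_assoc, Duo.comm_m hur, ← mul_assoc, P.rho_m, mul_assoc,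
            ← Duo.comm_m hur, ← mul_assoc, h', mul_assoc (_ * _) _ (pM r), P.rho_m, mul_assoc (u : Matrix ι ι F) _ (_ * _),
            ← mul_assoc (r : Matrix ι ι F), ← hzr, mul_assoc _ (r : Matrix ι ι F), P.duo.r_pM, mul_neg, mul_neg,
            neg_mul, mul_assoc])
      rw [e, mul_inv_cancel_right]
      exact R.mul_mem huR P.mem_r

/-- An element trivial on the fixed space which normalises the group is such a restriction. -/
lemma exists_rho {g : GL ι F} (hg : g ∈ NR R Q) (hgr : g * r = r * g)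
    (hgp : (g : Matrix ι ι F) * pP r = pP r) : ∃ z : core R r y, g = P.rho z := by
  have S := D.sign
  obtain ⟨e, he⟩ : ∃ e, e = g * y * g⁻¹ * y := ⟨_, rfl⟩
  have hgy : g * y * g⁻¹ ∈ R := (Subgroup.mem_normalizer_iff.1 hg.1 y).1 P.mem_y
  have heR : e ∈ R := he ▸ R.mul_mem hgy P.mem_y
  have hgpi : ((g⁻¹ : GL ι F) : Matrix ι ι F) * pP r = pP r := by
    conv_lhs => rw [← hgp]
    rw [← mul_assoc, Units.inv_mul, one_mul]
  have hy : (y : Matrix ι ι F) * y = 1 := by rw [← Units.val_mul, P.duo.yy, Units.val_one]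
  have heM : (e : Matrix ι ι F) * pM r = (g : Matrix ι ι F) * pM r := by
    rw [he, Units.val_mul, Units.val_mul, Units.val_mul, mul_assoc, P.duo.ym, ← mul_assoc,
      mul_assoc _ _ (pP r), hgpi, mul_assoc (g : Matrix ι ι F), P.duo.yp, ← mul_assoc, mul_assoc, hy, mul_one]
  have her : e * r = r * e := by
    have h1 : g * y * g⁻¹ * r = -(r * (g * y * g⁻¹)) := by
      have hi := inv_mul_eq_iff_eq_mul.2 (show r = g * (r * g⁻¹) by rw [← mul_assoc, hgr, mul_inv_cancel_right])
      rw [mul_assoc, hi, mul_assoc g y, ← mul_assoc y, P.duo.anti, neg_mul, mul_neg, ← mul_assoc, ← mul_assoc, hgr,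
        mul_assoc r g, mul_assoc r (g * y)]
    rw [he, mul_assoc, P.duo.anti, mul_neg, ← mul_assoc, h1, neg_mul, neg_neg, mul_assoc]
  obtain ⟨z, hz, hzM⟩ : ∃ z ∈ core R r y, (z : Matrix ι ι F) * pM r = (g : Matrix ι ι F) * pM r := by
    rcases S.bv_cases e y with h | h
    · exact ⟨e, mem_core' D heR (bv_eq_zero.2 her) h, heM⟩
    · refine ⟨-(e * r), mem_core' D (S.neg_mem (R.mul_mem heR P.mem_r)) ?_ ?_, ?_⟩
      · rw [bv_neg, S.bv_mul heR P.mem_r P.mem_r, bv_eq_zero.2 her, bv_self, add_zero]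
      · rw [bv_neg, S.bv_mul heR P.mem_r P.mem_y, h, P.bv_ry D, zmod_self]
      · rw [Units.val_neg, Units.val_mul, neg_mul, mul_assoc, P.duo.r_pM, mul_neg, neg_neg, heM]
  exact ⟨⟨z, hz⟩, P.duo.ext (by rw [hgp, P.rho_p]) (by rw [P.rho_m]; exact hzM.symm)⟩

end Pair0

end CfsgLib.Classical22.C6Plus
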