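/-
In a proper overgroup of the normaliser, what commutes with an involution of the group normalises the group.
-/
import Cfsg.Agent.Lib.Classical22.C6Plus.Kernel
import Cfsg.Agent.Lib.Classical22.C6Plus.SideGroup

set_option autoImplicit false
set_option maxHeartbeats 2000000

namespace CfsgLib.Classical22.C6Plus

open Matrix CfsgLib.Classical
open scoped MatrixGroups

variable {ι : Type} [Fintype ι] [DecidableEq ι] {F : Type*} [Field F] [Fintype F]

namespace Over

variable {H R : Subgroup (GL ι F)} {k p : ℕ} {Q : QuadraticForm F (ι → F)} (O : Over H R k p Q) {r y : GL ι F}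
  (P : Pair0 R r y)
include O P

/-- The part of the overgroup trivial on the fixed space and commuting with the involution. -/
lemma exists_kernel : ∃ K : Subgroup (GL ι F),
    ∀ g, g ∈ K ↔ g ∈ H ∧ g * r = r * g ∧ (g : Matrix ι ι F) * pP r = pP r :=
  ⟨{ carrier := {g | g ∈ H ∧ g * r = r * g ∧ (g : Matrix ι ι F) * pP r = pP r}
     one_mem' := ⟨H.one_mem, by rw [one_mul, mul_one], by rw [Units.val_one, one_mul]⟩
     mul_mem' := fun {g h} hg hh => ⟨H.mul_mem hg.1 hh.1, Duo.mul_comm_r hg.2.1 hh.2.1,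
       by rw [Units.val_mul, mul_assoc, hh.2.2, hg.2.2]⟩
     inv_mem' := fun {g} hg => ⟨H.inv_mem hg.1, Duo.inv_comm hg.2.1, by
       conv_lhs => rw [← hg.2.2]
       rw [← mul_assoc, Units.inv_mul, one_mul]⟩ }, fun _ => Iff.rfl⟩

variable {A : Subgroup (GL ι F)} (hA : A ≤ R) (hcom : ∀ a ∈ A, ∀ b ∈ A, a * b = b * a)
  (hsq : ∀ a ∈ A, a * a = 1) (hcA : Nat.card A = 2 ^ (k + 1)) (hrA : r ∈ A)
include hA hcom hsq hcA hrA

/-- The kernel consists of the restrictions. -/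
theorem kernel_eq {g : GL ι F} (hg : g ∈ H) (hgr : g * r = r * g)
    (hgp : (g : Matrix ι ι F) * pP r = pP r) : ∃ z : core R r y, g = P.rho z := by
  classical
  have D := O.data
  have S := D.sign
  obtain ⟨K, hK⟩ := O.exists_kernel P
  obtain ⟨hrK1, hrK2, hrK3⟩ : r ∈ H ∧ r * r = r * r ∧ (r : Matrix ι ι F) * pP r = pP r :=
    ⟨O.mem_H P.mem_r, rfl, P.duo.r_pP⟩
  have hrK : r ∈ K := (hK r).2 ⟨hrK1, hrK2, hrK3⟩
  have hρK : ∀ z, P.rho z ∈ K := fun z =>
    (hK _).2 ⟨O.above (P.rho_NR D z), P.rho_comm z, P.rho_p z⟩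
  obtain ⟨Z, hZ⟩ : ∃ Z : Subgroup K, Z = (Subgroup.zpowers r).subgroupOf K := ⟨_, rfl⟩
  have hcent : ∀ (n : K) (x : GL ι F), x ∈ Subgroup.zpowers r → (n : GL ι F) * x * (n : GL ι F)⁻¹ = x := by
    intro n x hx
    obtain ⟨j, rfl⟩ := Subgroup.mem_zpowers_iff.1 hx
    rw [mul_inv_eq_iff_eq_mul]
    exact (Commute.zpow_right (show Commute (n : GL ι F) r from ((hK _).1 n.2).2.1) j).eq
  haveI : Z.Normal := ⟨fun x hx n => by
    rw [hZ, Subgroup.mem_subgroupOf] at hx ⊢
    rw [Subgroup.coe_mul, Subgroup.coe_mul, Subgroup.coe_inv, hcent n _ hx]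
    exact hx⟩
  have hzr : ∀ x, x ∈ Subgroup.zpowers r ↔ x = 1 ∨ x = r := by
    intro x
    refine ⟨fun hx => ?_, ?_⟩
    · obtain ⟨j, rfl⟩ := Subgroup.mem_zpowers_iff.1 hx
      rcases Int.even_or_odd j with ⟨i, rfl⟩ | ⟨i, rfl⟩
      · left; rw [← two_mul, _root_.zpow_mul, zpow_two, P.duo.rr, _root_.one_zpow]
      · right; rw [_root_.zpow_add, _root_.zpow_mul, zpow_two, P.duo.rr, _root_.one_zpow, one_mul, zpow_one]
    · rintro (rfl | rfl)
      exacts [one_mem _, Subgroup.mem_zpowers _]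
  obtain ⟨mk, hmk⟩ : ∃ mk : K →* K ⧸ Z, mk = QuotientGroup.mk' Z := ⟨_, rfl⟩
  have hmks : Function.Surjective mk := hmk ▸ QuotientGroup.mk'_surjective Z
  have hmkeq : ∀ a b : K, mk a = mk b ↔ (b : GL ι F) = a ∨ (b : GL ι F) = (a : GL ι F) * r := by
    intro a b
    rw [hmk, QuotientGroup.mk'_apply, QuotientGroup.mk'_apply, QuotientGroup.eq, hZ, Subgroup.mem_subgroupOf, hzr,
      Subgroup.coe_mul, Subgroup.coe_inv, inv_mul_eq_one, inv_mul_eq_iff_eq_mul]
    exact or_congr_left eq_comm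
  obtain ⟨q, hq⟩ : ∃ q : K ⧸ Z → ZMod 2, ∀ a : K, q (mk a) = qv (a : GL ι F) := by
    refine ⟨fun u => qv ((Quotient.out u : K) : GL ι F), fun a => ?_⟩
    have h : mk (Quotient.out (mk a)) = mk a := by rw [hmk]; exact Quotient.out_eq _
    rcases (hmkeq _ _).1 h with e | e
    · exact congrArg qv e.symm
    · change qv ((Quotient.out (mk a) : K) : GL ι F) = qv (a : GL ι F)
      have hc := ((hK _).1 (Quotient.out (mk a)).2).2.1
      generalize ((Quotient.out (mk a) : K) : GL ι F) = u at e hc ⊢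
      have : (u * r) * (u * r) = u * u := by
        rw [mul_assoc u r, ← mul_assoc r u r, ← hc, mul_assoc u r r, P.duo.rr, mul_one]
      rw [qv, qv, e, this]
  -- the subgroup of restrictions
  obtain ⟨ψ, hψ⟩ : ∃ ψ : core R r y →* K ⧸ Z, ∀ z, ψ z = mk ⟨P.rho z, hρK z⟩ :=
    ⟨mk.comp (P.rho.codRestrict K hρK), fun z => rfl⟩
  obtain ⟨E, hE⟩ : ∃ E, E = ψ.range := ⟨_, rfl⟩
  have hEm : ∀ x, x ∈ E ↔ ∃ z, ψ z = x := fun x => by rw [hE, MonoidHom.mem_range]
  have hqψ : ∀ z, q (ψ z) = qv (z : GL ι F) := fun z => by rw [hψ, hq]; exact P.rho_qv D z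
  have hcR : ∀ z : core R r y, (z : GL ι F) ∈ R := fun z => (mem_core.1 z.2).1
  have hbq : ∀ z w, QuadSub.bq q (ψ z) (ψ w) = bv (z : GL ι F) (w : GL ι F) := fun z w => by
    unfold QuadSub.bq
    rw [← map_mul, hqψ, hqψ, hqψ, Subgroup.coe_mul, S.qv_mul (hcR z) (hcR w)]
    linear_combination (qv (z : GL ι F) + qv (w : GL ι F)) * two_zmod
  have hψone : ∀ z, ψ z = 1 → (z : GL ι F) = 1 ∨ (z : GL ι F) = -1 := fun z h => by
    rw [hψ, ← map_one mk, hmkeq] at h
    refine P.rho_eq_one_or D ?_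
    rcases h with h | h
    · exact Or.inl (by simpa using h.symm)
    · refine Or.inr ?_
      simp only [OneMemClass.coe_one] at h
      rw [← mul_one (P.rho z), ← P.duo.rr, ← mul_assoc, ← h, one_mul]
  have hψneg : ∀ z : core R r y, ψ (z * ⟨-1, P.neg_core D⟩) = ψ z := fun z => by
    rw [hψ, hψ, hmkeq]
    refine Or.inr ?_
    change P.rho z = P.rho (z * ⟨-1, P.neg_core D⟩) * r
    rw [← P.rho_neg_mul D, mul_assoc, P.duo.rr, mul_one]
  haveI : Fintype (E : Set (K ⧸ Z)) := Fintype.ofFinite _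
  -- centralisers
  have hC : ∀ a ∈ E, q a = 1 → ∀ g : K ⧸ Z, g * a * g⁻¹ = a → g ∈ E := by
    intro a ha hqa g hga
    obtain ⟨za, rfl⟩ := (hEm a).1 ha
    obtain ⟨u, rfl⟩ := hmks g
    rw [hqψ] at hqa
    have haR := hcR za
    have haa := (S.qv_eq_one haR).1 hqa
    have hval : ∀ v : K, mk v * ψ za * (mk v)⁻¹ = ψ za →
        P.rho za = (v : GL ι F) * P.rho za * (v : GL ι F)⁻¹ ∨
          P.rho za = (v : GL ι F) * P.rho za * (v : GL ι F)⁻¹ * r := fun v hv => by
      rw [hψ, ← map_inv, ← map_mul, ← map_mul, hmkeq] at hv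
      exact hv
    have key : ∀ v : K, P.rho za = (v : GL ι F) * P.rho za * (v : GL ι F)⁻¹ → mk v ∈ E := by
      intro v hv
      obtain ⟨hvH, hvr, hvp⟩ := (hK _).1 v.2
      have hc : (v : GL ι F) * P.rho za = P.rho za * v := mul_inv_eq_iff_eq_mul.1 hv.symm
      have hva : (v : GL ι F) * za = za * v := by
        have haR' : ((za : GL ι F) : Matrix ι ι F) * r = r * ((za : GL ι F) : Matrix ι ι F) :=
          congrArg Units.val (mem_core.1 za.2).2.1
        have hvr' : ((v : GL ι F) : Matrix ι ι F) * r = r * ((v : GL ι F) : Matrix ι ι F) := congrArg Units.val hvr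
        refine P.duo.ext ?_ ?_
        · rw [Units.val_mul, Units.val_mul, mul_assoc, Duo.comm_p haR', ← mul_assoc, hvp, ← Duo.comm_p haR',
            mul_assoc, hvp]
        · have hc' := congrArg Units.val hc
          rw [Units.val_mul, Units.val_mul] at hc'
          rw [Units.val_mul, Units.val_mul, mul_assoc, ← P.rho_m, ← mul_assoc, hc', mul_assoc, Duo.comm_m hvr',
            ← mul_assoc, P.rho_m, mul_assoc, ← Duo.comm_m hvr', mul_assoc]
      obtain ⟨z, hz⟩ := P.exists_rho D (O.mem_NR haR haa hvH hva) hvr hvp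
      exact (hEm _).2 ⟨z, by rw [hψ, hmkeq]; exact Or.inl hz⟩
    rcases hval u hga with h | h
    · exact key u h
    · obtain ⟨w, hw, hwa⟩ := P.exists_anti0 D za.2 (D.ne_pm hqa)
      obtain ⟨wz, hwz⟩ : ∃ wz : core R r y, wz = ⟨w, hw⟩ := ⟨_, rfl⟩
      have hw' : P.rho za = P.rho wz * P.rho za * r * (P.rho wz)⁻¹ := by
        rw [P.rho_neg_mul D za |> fun e => (mul_assoc _ _ r).trans (congrArg _ e), ← map_inv, ← map_mul, ← map_mul]
        congr 1
        refine Subtype.ext ?_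
        rw [hwz]
        change (za : GL ι F) = w * ((za : GL ι F) * -1) * w⁻¹
        have h' := (S.bv_eq_one (mem_core.1 hw).1 haR).1 hwa
        rw [mul_neg_one, mul_neg, h', neg_neg, mul_inv_cancel_right]
      have := key (⟨P.rho wz, hρK wz⟩ * u) (by
        rw [Subgroup.coe_mul, _root_.mul_inv_rev]
        change P.rho za = P.rho wz * u * P.rho za * ((u : GL ι F)⁻¹ * (P.rho wz)⁻¹)
        conv_lhs => rw [hw', h]
        simp only [mul_assoc]
        rw [← mul_assoc r r, P.duo.rr, one_mul])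
      rw [map_mul] at this
      exact (E.mul_mem_cancel_left ((hEm _).2 ⟨wz, hψ wz⟩)).1 this
  obtain ⟨N, hN⟩ : ∃ N : Subgroup (K ⧸ Z), N = Subgroup.normalizer (E : Set (K ⧸ Z)) := ⟨_, rfl⟩
  have hNmem : ∀ g, g ∈ N → ∀ x ∈ E, g * x * g⁻¹ ∈ E := fun g hg x hx =>
    (Subgroup.mem_normalizer_iff.1 (hN ▸ hg) x).1 hx
  have hqc : ∀ (g x : K ⧸ Z), q (g * x * g⁻¹) = q x := by
    intro g x
    obtain ⟨u, rfl⟩ := hmks g
    obtain ⟨v, rfl⟩ := hmks x
    rw [← map_inv, ← map_mul, ← map_mul, hq, hq]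
    simp only [Subgroup.coe_mul, Subgroup.coe_inv, qv,
      show (u : GL ι F) * v * (u : GL ι F)⁻¹ * ((u : GL ι F) * v * (u : GL ι F)⁻¹) =
        u * ((v : GL ι F) * v) * (u : GL ι F)⁻¹ by group, mul_inv_eq_one]
    simp only [mul_eq_left]
  have h0 : ∃ a ∈ E, q a = 1 := by
    obtain ⟨a, ha, ha1, har, hay, -⟩ := S.exists_q P.mem_r P.mem_y R.one_mem R.one_mem 1
    rw [S.bv_one] at har hay
    exact ⟨ψ ⟨a, Pair0.mem_core' D ha har hay⟩, (hEm _).2 ⟨_, rfl⟩, by rw [hqψ]; exact ha1⟩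
  have SS : QuadSub N E q := by
    refine ⟨hN ▸ Subgroup.le_normalizer, hNmem, ?_, fun n _ a _ => hqc n a, ?_,
      fun n _ h => ?_, ?_⟩
    · intro a ha
      obtain ⟨z, rfl⟩ := (hEm a).1 ha
      rw [← map_mul]
      rcases S.sq _ (hcR z) with h | h
      · rw [show z * z = 1 from Subtype.ext h, map_one]
      · have e := hψneg 1
        rw [map_one, one_mul] at e
        rw [show z * z = ⟨-1, P.neg_core D⟩ from Subtype.ext h, e]
    · intro u hu v hv w hw
      obtain ⟨a, rfl⟩ := (hEm u).1 hu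
      obtain ⟨b, rfl⟩ := (hEm v).1 hv
      obtain ⟨c, rfl⟩ := (hEm w).1 hw
      simp only [← map_mul, hqψ, Subgroup.coe_mul]
      rw [S.qv_mul (R.mul_mem (hcR a) (hcR b)) (hcR c), S.qv_mul (hcR a) (hcR b), S.qv_mul (hcR a) (hcR c),
        S.qv_mul (hcR b) (hcR c), S.bv_mul (hcR a) (hcR b) (hcR c)]
      linear_combination -(qv (a : GL ι F) + qv (b : GL ι F) + qv (c : GL ι F)) * two_zmod
    · obtain ⟨a, ha, hqa⟩ := h0
      exact hC a ha hqa n (h a ha)
    · intro u hu hu1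
      obtain ⟨a, rfl⟩ := (hEm u).1 hu
      obtain ⟨v, hv, hva⟩ := P.exists_anti0 D a.2 ⟨fun e => hu1 (by rw [show a = 1 from Subtype.ext e, map_one]),
        fun e => hu1 (by
          have e' := hψneg 1
          rw [map_one, one_mul] at e'
          rw [show a = ⟨-1, P.neg_core D⟩ from Subtype.ext e, e'])⟩
      refine ⟨ψ ⟨v, hv⟩, (hEm _).2 ⟨_, rfl⟩, fun e => ?_⟩
      have h := hbq a ⟨v, hv⟩
      unfold QuadSub.bq at h
      rw [e, bv_symm, hva] at h
      exact absurd (show (1 : ZMod 2) = 0 by linear_combination -h + (q (ψ a) + q (ψ ⟨v, hv⟩)) * two_zmod) (by decide)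
  have hNm : ∀ g : K ⧸ Z, (∀ x ∈ E, g * x * g⁻¹ ∈ E) → g ∈ N := fun g hg => by
    rw [hN]; exact Subgroup.mem_normalizer_fintype hg
  have hT : ∀ a ∈ E, ∀ b ∈ E, q a = 1 → q b = 1 →
      ∃ φ : K ⧸ Z ≃* K ⧸ Z, ∀ x ∈ E, φ x = QuadSub.rf q a (QuadSub.rf q b x) := by
    intro a ha b hb hqa hqb
    obtain ⟨za, rfl⟩ := (hEm a).1 ha
    obtain ⟨zb, rfl⟩ := (hEm b).1 hb
    rw [hqψ] at hqa hqb
    obtain ⟨t, ht⟩ : ∃ t, t = pr (za : GL ι F) (zb : GL ι F) := ⟨_, rfl⟩
    have htH : t ∈ H := ht ▸ O.above (D.pr_mem (hcR za) hqa (hcR zb) hqb)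
    have hconj : ∀ x ∈ R, t * x * t⁻¹ = T (za : GL ι F) (T (zb : GL ι F) x) := fun x hx =>
      ht ▸ D.pr_conj (hcR za) hqa (hcR zb) hqb hx
    have hfix : ∀ x ∈ R, bv x (za : GL ι F) = 0 → bv x (zb : GL ι F) = 0 → t * x * t⁻¹ = x := fun x hx h1 h2 => by
      rw [hconj x hx, T, T, if_pos h2, if_pos h1]
    obtain ⟨har, hay⟩ := P.core_bv D za.2
    obtain ⟨hbr, hby⟩ := P.core_bv D zb.2
    have htr : t * r = r * t := mul_inv_eq_iff_eq_mul.1 (hfix r P.mem_r (by rw [bv_symm, har]) (by rw [bv_symm, hbr]))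
    have hty : t * y = y * t := mul_inv_eq_iff_eq_mul.1 (hfix y P.mem_y (by rw [bv_symm, hay]) (by rw [bv_symm, hby]))
    have hstab : ∀ s : GL ι F, s ∈ H → s * r = r * s → ∀ v : K, s * v * s⁻¹ ∈ K := by
      intro s hs hsr v
      obtain ⟨hvH, hvr, hvp⟩ := (hK _).1 v.2
      refine (hK _).2 ⟨H.mul_mem (H.mul_mem hs hvH) (H.inv_mem hs),
        Duo.mul_comm_r (Duo.mul_comm_r hsr hvr) (Duo.inv_comm hsr), ?_⟩
      rw [Units.val_mul, Units.val_mul, mul_assoc, Duo.comm_p (Duo.val_comm (Duo.inv_comm hsr)), ← mul_assoc,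
        mul_assoc (s : Matrix ι ι F), hvp, mul_assoc, ← Duo.comm_p (Duo.val_comm (Duo.inv_comm hsr)), ← mul_assoc,
        Units.mul_inv, one_mul]
    let φ0 : K ≃* K :=
      { toFun := fun v => ⟨t * v * t⁻¹, hstab t htH htr v⟩
        invFun := fun v => ⟨t⁻¹ * v * t, by simpa using hstab t⁻¹ (H.inv_mem htH) (Duo.inv_comm htr) v⟩
        left_inv := fun v => Subtype.ext (show t⁻¹ * (t * (v : GL ι F) * t⁻¹) * t = v by group)
        right_inv := fun v => Subtype.ext (show t * (t⁻¹ * (v : GL ι F) * t) * t⁻¹ = v by group)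
        map_mul' := fun v w => Subtype.ext
          (show t * ((v : GL ι F) * w) * t⁻¹ = t * v * t⁻¹ * (t * w * t⁻¹) by group) }
    have hφ0 : ∀ v : K, (φ0 v : GL ι F) = t * v * t⁻¹ := fun v => rfl
    have hmapZ : Z.map φ0.toMonoidHom = Z := by
      have hf : ∀ v ∈ Z, φ0 v = v := fun v hv => by
        rw [hZ, Subgroup.mem_subgroupOf, hzr] at hv
        refine Subtype.ext ?_
        rw [hφ0]
        rcases hv with h | h <;> rw [h]
        · rw [mul_one, mul_inv_cancel]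
        · rw [htr, mul_inv_cancel_right]
      ext v
      exact ⟨fun ⟨w, hw, hwv⟩ => by rw [← hwv]; change φ0 w ∈ Z; rw [hf w hw]; exact hw,
        fun hv => ⟨v, hv, hf v hv⟩⟩
    refine ⟨QuotientGroup.congr Z Z φ0 hmapZ, fun x hx => ?_⟩
    obtain ⟨z, rfl⟩ := (hEm x).1 hx
    have himg : ∀ z : core R r y, T (za : GL ι F) (T (zb : GL ι F) z) ∈ core R r y := fun z => by
      refine mem_core.2 ⟨D.T_mem (hcR za) (D.T_mem (hcR zb) (hcR z)), ?_, ?_⟩ <;> rw [← hconj _ (hcR z)]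
      · exact Duo.mul_comm_r (Duo.mul_comm_r htr (mem_core.1 z.2).2.1) (Duo.inv_comm htr)
      · exact Duo.mul_comm_r (r := y) (Duo.mul_comm_r (r := y) hty (mem_core.1 z.2).2.2) (Duo.inv_comm (r := y) hty)
    have h1 : QuotientGroup.congr Z Z φ0 hmapZ (ψ z) = ψ ⟨_, himg z⟩ := by
      rw [hψ, hψ, hmk]
      refine congrArg (QuotientGroup.mk' Z) (Subtype.ext ?_)
      change t * P.rho z * t⁻¹ = P.rho ⟨_, himg z⟩
      rw [mul_inv_eq_iff_eq_mul]
      refine P.duo.ext ?_ ?_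
      · rw [Units.val_mul, Units.val_mul, mul_assoc, P.rho_p, mul_assoc, Duo.comm_p (Duo.val_comm htr), ← mul_assoc,
          P.rho_p]
      · rw [Units.val_mul, Units.val_mul, mul_assoc, P.rho_m, mul_assoc _ (t : Matrix ι ι F),
          Duo.comm_m (Duo.val_comm htr), ← mul_assoc (P.rho _ : Matrix ι ι F), P.rho_m, mul_assoc _ (pM r),
          ← Duo.comm_m (Duo.val_comm htr), ← mul_assoc, ← mul_assoc, ← Units.val_mul, ← Units.val_mul]
        simp only [← hconj _ (hcR z), inv_mul_cancel_right]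
    have hrf : ∀ (u w : core R r y), qv (u : GL ι F) = 1 →
        ∃ hm : T (u : GL ι F) w ∈ core R r y, QuadSub.rf q (ψ u) (ψ w) = ψ ⟨_, hm⟩ := by
      intro u w _
      by_cases h : bv (w : GL ι F) (u : GL ι F) = 0
      · refine ⟨by unfold T; rw [if_pos h]; exact w.2, ?_⟩
        rw [QuadSub.rf, hbq, if_pos h]
        exact congrArg ψ (Subtype.ext (by unfold T; exact (if_pos h).symm))
      · refine ⟨by unfold T; rw [if_neg h]; exact mul_mem u.2 w.2, ?_⟩
        rw [QuadSub.rf, hbq, if_neg h, ← map_mul]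
        exact congrArg ψ (Subtype.ext (by unfold T; exact (if_neg h).symm))
    obtain ⟨hm1, e1⟩ := hrf zb z hqb
    obtain ⟨hm2, e2⟩ := hrf za ⟨_, hm1⟩ hqa
    rw [h1, e1, e2]
  -- orders
  have h4 := S.four
  have hcore : 4 * Nat.card (core R r y) = Nat.card R := by
    obtain ⟨φ, hφ⟩ : ∃ φ : R →* Multiplicative (ZMod 2) × Multiplicative (ZMod 2), ∀ x : R,
        φ x = (Multiplicative.ofAdd (bv (x : GL ι F) r), Multiplicative.ofAdd (bv (x : GL ι F) y)) :=
      ⟨{ toFun := fun x => (Multiplicative.ofAdd (bv (x : GL ι F) r), Multiplicative.ofAdd (bv (x : GL ι F) y))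
         map_one' := by simp [S.bv_one]
         map_mul' := fun u v => by
           simp [S.bv_mul u.2 v.2 P.mem_r, S.bv_mul u.2 v.2 P.mem_y, ← ofAdd_add] }, fun x => rfl⟩
    have hker : φ.ker.map R.subtype = core R r y := by
      ext x
      constructor
      · rintro ⟨u, hu, rfl⟩
        rw [SetLike.mem_coe, MonoidHom.mem_ker, hφ] at hu
        simp only [Prod.mk_eq_one, ofAdd_eq_one] at hu
        exact Pair0.mem_core' D u.2 hu.1 hu.2
      · intro hx
        refine ⟨⟨x, (mem_core.1 hx).1⟩, ?_, rfl⟩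
        rw [SetLike.mem_coe, MonoidHom.mem_ker, hφ]
        obtain ⟨h1, h2⟩ := P.core_bv D hx
        simp [h1, h2]
    have hsurj : Function.Surjective φ := by
      have hry := P.bv_ry D
      have h10 : φ ⟨y, P.mem_y⟩ = (Multiplicative.ofAdd 1, 1) := by
        rw [hφ]; simp [bv_symm y r, hry, bv_self]
      have h01 : φ ⟨r, P.mem_r⟩ = (1, Multiplicative.ofAdd 1) := by
        rw [hφ]; simp [hry, bv_self]
      rintro ⟨a, b⟩
      obtain ⟨u, rfl⟩ := Multiplicative.ofAdd.surjective a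
      obtain ⟨v, rfl⟩ := Multiplicative.ofAdd.surjective b
      by_cases hu : u = 0 <;> by_cases hv : v = 0
      · exact ⟨1, by rw [map_one, hu, hv]; rfl⟩
      · exact ⟨⟨r, P.mem_r⟩, by rw [h01, hu, zmod_ne_zero hv]; simp⟩
      · exact ⟨⟨y, P.mem_y⟩, by rw [h10, hv, zmod_ne_zero hu]; simp⟩
      · exact ⟨⟨y, P.mem_y⟩ * ⟨r, P.mem_r⟩, by rw [map_mul, h10, h01, zmod_ne_zero hu, zmod_ne_zero hv]; simp⟩
    rw [← hker, ← Nat.card_congr (φ.ker.equivMapOfInjective R.subtype R.subtype_injective).toEquiv,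
      ← Subgroup.card_mul_index φ.ker, Subgroup.index_ker, MonoidHom.range_eq_top.2 hsurj, Subgroup.card_top]
    simp [Nat.card_eq_fintype_card, mul_comm]
  have hEcard : Nat.card E = 2 ^ (2 * (k - 1)) := by
    have hker : (ψ.ker.map (core R r y).subtype) = Sign.pm ι F := by
      ext x
      rw [Sign.mem_pm]
      constructor
      · rintro ⟨u, hu, rfl⟩
        exact hψone u hu
      · intro hx
        rcases hx with rfl | rfl
        · exact ⟨1, ψ.ker.one_mem, rfl⟩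
        · refine ⟨⟨-1, P.neg_core D⟩, ?_, rfl⟩
          have e := hψneg 1
          rw [map_one, one_mul] at e
          exact e
    have h2 : Nat.card ψ.ker = 2 := by
      rw [Nat.card_congr (ψ.ker.equivMapOfInjective _ (core R r y).subtype_injective).toEquiv, hker, Sign.pm,
        Nat.card_zpowers, orderOf_eq_prime_iff]
      exact ⟨by rw [_root_.sq, neg_mul_neg, one_mul], S.neg_one_ne_one⟩
    have h : Nat.card (core R r y) = 2 * Nat.card E := by
      rw [← Subgroup.card_mul_index ψ.ker, Subgroup.index_ker, h2, hE]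
    have h8 : 2 ^ (2 * (k - 1)) * 8 = 2 ^ (1 + 2 * k) := by
      rw [show (8 : ℕ) = 2 ^ 3 by norm_num, ← pow_add]; congr 1; omega
    rw [S.card] at hcore
    omega
  have hE' : Nat.card E = 64 ∨ 256 ≤ Nat.card E := by
    rw [hEcard]
    rcases (show k = 4 ∨ 5 ≤ k by omega) with rfl | h5
    · left; norm_num
    · right; exact le_trans (by norm_num) (Nat.pow_le_pow_right (by norm_num) (show 8 ≤ 2 * (k - 1) by omega))
  have hL : ∃ L : Subgroup (K ⧸ Z), L ≤ E ∧ (∀ x ∈ L, q x = 0) ∧ Nat.card L * Nat.card L = Nat.card E := by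
    obtain ⟨A1, hA1⟩ : ∃ A1 : Subgroup (core R r y), A1 = A.subgroupOf (core R r y) := ⟨_, rfl⟩
    obtain ⟨L, hLd⟩ : ∃ L, L = A1.map ψ := ⟨_, rfl⟩
    have hLE : L ≤ E := by
      rw [hLd, hE]; rintro _ ⟨u, -, rfl⟩; exact ⟨u, rfl⟩
    have hLq : ∀ x ∈ L, q x = 0 := by
      rw [hLd]; rintro _ ⟨u, hu, rfl⟩
      rw [hA1, SetLike.mem_coe, Subgroup.mem_subgroupOf] at hu
      rw [hqψ, qv_eq_zero]; exact hsq _ hu
    refine ⟨L, hLE, hLq, le_antisymm ?_ ?_⟩
    · obtain ⟨Pp, hPp, hc⟩ := SS.exists_perp hLE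
      rw [← hc]
      refine Nat.mul_le_mul_left _ (Subgroup.card_le_of_le fun v hv => (hPp v).2 ⟨hLE hv, fun x hx => ?_⟩)
      unfold QuadSub.bq
      rw [hLq _ (L.mul_mem hv hx), hLq v hv, hLq x hx]; rfl
    · obtain ⟨φ, hφ⟩ : ∃ φ : A →* Multiplicative (ZMod 2), ∀ a : A, φ a = Multiplicative.ofAdd (bv (a : GL ι F) y) :=
        ⟨{ toFun := fun a => Multiplicative.ofAdd (bv (a : GL ι F) y)
           map_one' := by simp [S.bv_one]
           map_mul' := fun u v => by simp [S.bv_mul (hA u.2) (hA v.2) P.mem_y, ← ofAdd_add] }, fun a => rfl⟩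
      have hA1c : Nat.card φ.ker = Nat.card A1 := by
        refine Nat.card_congr
          { toFun := fun u => ⟨⟨((u : A) : GL ι F), mem_core.2 ⟨hA (u : A).2, hcom _ (u : A).2 r hrA,
              bv_eq_zero.1 (by have := u.2; rw [MonoidHom.mem_ker, hφ, ofAdd_eq_one] at this; exact this)⟩⟩,
              by rw [hA1, Subgroup.mem_subgroupOf]; exact (u : A).2⟩
            invFun := fun u => ⟨⟨((u : core R r y) : GL ι F),
              Subgroup.mem_subgroupOf.1 (show (u : core R r y) ∈ A.subgroupOf (core R r y) by rw [← hA1]; exact u.2)⟩, by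
              rw [MonoidHom.mem_ker, hφ, ofAdd_eq_one]; exact (P.core_bv D (u : core R r y).2).2⟩
            left_inv := fun u => rfl
            right_inv := fun u => rfl }
      have h1 : Nat.card A ≤ 2 * Nat.card A1 := by
        rw [← Subgroup.card_mul_index φ.ker, Subgroup.index_ker, ← hA1c, mul_comm]
        refine Nat.mul_le_mul_right _ ((Nat.card_le_card_of_injective _ Subtype.val_injective).trans ?_)
        simp [Nat.card_eq_fintype_card]
      obtain ⟨f, hf⟩ : ∃ f : A1 →* K ⧸ Z, f = ψ.comp A1.subtype := ⟨_, rfl⟩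
      have hkle : Nat.card f.ker ≤ 2 := by
        have hinj : Function.Injective (fun u : f.ker => (⟨(((u : A1) : core R r y) : GL ι F),
            Sign.mem_pm.2 (hψone _ (by have := MonoidHom.mem_ker.1 u.2; subst hf; exact this))⟩ : Sign.pm ι F)) :=
          fun u v e => Subtype.ext (Subtype.ext (Subtype.ext (congrArg (fun w : Sign.pm ι F => (w : GL ι F)) e)))
        refine (Nat.card_le_card_of_injective _ hinj).trans_eq ?_
        rw [Sign.pm, Nat.card_zpowers, orderOf_eq_prime_iff]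
        exact ⟨by rw [_root_.sq, neg_mul_neg, one_mul], S.neg_one_ne_one⟩
      have h2 : Nat.card A1 ≤ 2 * Nat.card L := by
        rw [← Subgroup.card_mul_index f.ker, Subgroup.index_ker,
          show f.range = L by rw [hf, hLd, MonoidHom.range_comp, Subgroup.range_subtype]]
        exact Nat.mul_le_mul_right _ hkle
      rw [hcA, show k + 1 = (k - 1) + 2 by omega, pow_add] at h1
      rw [hEcard, two_mul (k - 1), pow_add]
      have h22 : (2 : ℕ) ^ 2 = 4 := by norm_num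
      rw [h22] at h1
      have h5 : 2 ^ (k - 1) ≤ Nat.card L := by omega
      exact Nat.mul_le_mul h5 h5
  have htop := SS.eq_top_of_kernel hNm hC hT hE' hL
  have hgK : g ∈ K := (hK g).2 ⟨hg, hgr, hgp⟩
  obtain ⟨z, hz⟩ := (hEm (mk ⟨g, hgK⟩)).1 (htop ▸ Subgroup.mem_top _)
  rw [hψ, hmkeq] at hz
  rcases hz with h | h
  · exact ⟨z, h⟩
  · have h' : g = P.rho z * r := h
    have e := P.rho_neg_mul D z
    exact ⟨_, h'.trans e⟩

/-- What commutes with the involution normalises the group. -/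
theorem mem_NR_singular {g : GL ι F} (hg : g ∈ H) (hgr : g * r = r * g) : g ∈ NR R Q := by
  classical
  have D := O.data
  have hy : (y : Matrix ι ι F) * y = 1 := by rw [← Units.val_mul, P.duo.yy, Units.val_one]
  have hyi : y⁻¹ = y := inv_eq_of_mul_eq_one_right P.duo.yy
  have hyH := O.mem_H P.mem_y
  obtain ⟨g2, hg2⟩ : ∃ g2, g2 = y * g * y := ⟨_, rfl⟩
  have hg2r : g2 * r = r * g2 := by
    have e : r * y = -(y * r) := by rw [P.duo.anti, neg_neg]
    rw [hg2, mul_assoc (y * g), P.duo.anti, mul_neg, mul_assoc y g, ← mul_assoc g r y, hgr, mul_assoc r g y,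
      ← mul_assoc y r, P.duo.anti, neg_mul, neg_neg, mul_assoc, mul_assoc]
  have hg2H : g2 ∈ H := hg2 ▸ H.mul_mem (H.mul_mem hyH hg) hyH
  have conjK : ∀ h : GL ι F, h ∈ H → h * r = r * h → ∀ z : core R r y, ∃ z' : core R r y,
      h * P.rho z * h⁻¹ = P.rho z' := by
    intro h hh hhr z
    refine O.kernel_eq P hA hcom hsq hcA hrA (H.mul_mem (H.mul_mem hh (O.above (P.rho_NR D z))) (H.inv_mem hh))
      (Duo.mul_comm_r (Duo.mul_comm_r hhr (P.rho_comm z)) (Duo.inv_comm hhr)) ?_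
    rw [Units.val_mul, Units.val_mul, mul_assoc, Duo.comm_p (Duo.val_comm (Duo.inv_comm hhr)), ← mul_assoc,
      mul_assoc (h : Matrix ι ι F), P.rho_p, mul_assoc, ← Duo.comm_p (Duo.val_comm (Duo.inv_comm hhr)), ← mul_assoc,
      Units.mul_inv, one_mul]
  have hgi := omega_le (O.le hg)
  have hyI := D.le P.mem_y
  have hg2I : g2 ∈ Cfsg.isometryGroup F ⇑Q := hg2 ▸ mul_mem (mul_mem hyI hgi) hyI
  obtain ⟨u, hu⟩ : ∃ u, u = g * P.duo.lo ⟨g⁻¹, Duo.mem_cr.2 (Duo.inv_comm hgr)⟩ := ⟨_, rfl⟩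
  have huI : u ∈ Cfsg.isometryGroup F ⇑Q :=
    hu ▸ mul_mem hgi (P.duo.lo_iso (D.le P.mem_r) (inv_mem hgi))
  obtain ⟨d, hd⟩ : ∃ d, d = g * P.duo.lo ⟨g⁻¹ * g2, Duo.mem_cr.2 (Duo.mul_comm_r (Duo.inv_comm hgr) hg2r)⟩ :=
    ⟨_, rfl⟩
  have hdP : (d : Matrix ι ι F) * pP r = (g : Matrix ι ι F) * pP r := by
    rw [hd, Units.val_mul, mul_assoc, P.duo.lo_p]
  have hdM : (d : Matrix ι ι F) * pM r = (g2 : Matrix ι ι F) * pM r := by
    rw [hd, Units.val_mul, mul_assoc, P.duo.lo_m, ← mul_assoc, ← Units.val_mul, mul_inv_cancel_left]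
  have huP : (u : Matrix ι ι F) * pP r = (g : Matrix ι ι F) * pP r := by
    rw [hu, Units.val_mul, mul_assoc, P.duo.lo_p]
  have huM : (u : Matrix ι ι F) * pM r = pM r := by
    rw [hu, Units.val_mul, mul_assoc, P.duo.lo_m, ← mul_assoc]
    change (g : Matrix ι ι F) * ((g⁻¹ : GL ι F) : Matrix ι ι F) * pM r = pM r
    rw [Units.mul_inv, one_mul]
  have hgp := Duo.comm_p (r := r) (Duo.val_comm hgr)
  have hgm := Duo.comm_m (r := r) (Duo.val_comm hgr)
  have hdy : d * y = y * d := P.duo.ext (by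
      rw [Units.val_mul, Units.val_mul, mul_assoc, P.duo.yp, ← mul_assoc, hdM, mul_assoc, ← P.duo.yp,
        mul_assoc (y : Matrix ι ι F), hdP, hg2, Units.val_mul, Units.val_mul, ← mul_assoc, mul_assoc _ _ (y : Matrix ι ι F),
        hy, mul_one, mul_assoc]) (by
      rw [Units.val_mul, Units.val_mul, mul_assoc, P.duo.ym, ← mul_assoc, hdP, mul_assoc, ← P.duo.ym,
        mul_assoc (y : Matrix ι ι F), hdM, hg2, Units.val_mul, Units.val_mul, ← mul_assoc, mul_assoc (y : Matrix ι ι F),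
        ← mul_assoc, ← mul_assoc, ← mul_assoc, hy, one_mul])
  obtain ⟨w, hw⟩ : ∃ w, w = y * u * y := ⟨_, rfl⟩
  have hduw : d = u * w := P.duo.ext (by
      rw [hdP, Units.val_mul, hw, Units.val_mul, Units.val_mul, mul_assoc, mul_assoc (_ * _), P.duo.yp,
        mul_assoc (y : Matrix ι ι F), ← mul_assoc (u : Matrix ι ι F) (pM r), huM, ← P.duo.yp, ← mul_assoc, ← mul_assoc,
        mul_assoc (u : Matrix ι ι F), hy, mul_one, huP]) (by
      rw [hdM, Units.val_mul, hw, Units.val_mul, Units.val_mul, mul_assoc, mul_assoc (_ * _), P.duo.ym,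
        mul_assoc (y : Matrix ι ι F), ← mul_assoc (u : Matrix ι ι F) (pP r), huP, hgp, mul_assoc,
        ← mul_assoc (y : Matrix ι ι F), P.duo.yp, mul_assoc, ← mul_assoc (u : Matrix ι ι F), huM, hg2, Units.val_mul,
        Units.val_mul, mul_assoc, P.duo.ym, ← mul_assoc (y : Matrix ι ι F), mul_assoc _ (g : Matrix ι ι F),
        ← mul_assoc (g : Matrix ι ι F), hgp, mul_assoc, ← mul_assoc, P.duo.yp, mul_assoc]
      simp only [mul_assoc])
  have hdO : d ∈ Cfsg.Geo.omegaGL ⇑Q := by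
    have hwI : w ∈ Cfsg.isometryGroup F ⇑Q := hw ▸ mul_mem (mul_mem hyI huI) hyI
    have e : d = (u * y * u⁻¹ * y⁻¹) * (w * w) := by
      rw [hduw, hw, hyi]
      have hyy : ∀ X : GL ι F, y * (y * X) = X := fun X => by rw [← mul_assoc, P.duo.yy, one_mul]
      simp only [mul_assoc, hyy, inv_mul_cancel_left]
    rw [e]
    exact mul_mem (omega_conj huI hyI) (sq_mem_omega D.nondeg D.five_le hwI)
  have hdr : d * r = r * d := by rw [hd]; exact Duo.mul_comm_r hgr (P.duo.lo_comm _)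
  have hdN : d ∈ NR R Q := by
    refine ⟨P.conj_mem_of D (by rw [hdr, mul_inv_cancel_right]; exact P.mem_r)
      (by rw [hdy, mul_inv_cancel_right]; exact P.mem_y) fun x hx => ?_, hdO⟩
    obtain ⟨z1, hz1⟩ := conjK g2 hg2H hg2r ⟨x, hx⟩
    have hxr : (x : Matrix ι ι F) * r = r * (x : Matrix ι ι F) := congrArg Units.val (mem_core.1 hx).2.1
    have hz1r := congrArg Units.val (mem_core.1 z1.2).2.1
    rw [Units.val_mul, Units.val_mul] at hz1r
    have hxy : (x : Matrix ι ι F) * y = y * (x : Matrix ι ι F) := congrArg Units.val (mem_core.1 hx).2.2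
    have hz1y : ((z1 : GL ι F) : Matrix ι ι F) * y = y * ((z1 : GL ι F) : Matrix ι ι F) :=
      congrArg Units.val (mem_core.1 z1.2).2.2
    have hM : ((g2 : GL ι F) : Matrix ι ι F) * x * pM r = ((z1 : GL ι F) : Matrix ι ι F) * g2 * pM r := by
      have h' : g2 * P.rho ⟨x, hx⟩ = P.rho z1 * g2 := mul_inv_eq_iff_eq_mul.1 hz1
      have h'' := congrArg (fun m : GL ι F => (m : Matrix ι ι F) * pM r) h'
      simp only [Units.val_mul] at h''
      rwa [mul_assoc, P.rho_m, ← mul_assoc, mul_assoc (P.rho z1 : Matrix ι ι F), Duo.comm_m (Duo.val_comm hg2r),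
        ← mul_assoc (P.rho z1 : Matrix ι ι F), P.rho_m, mul_assoc _ (pM r), ← Duo.comm_m (Duo.val_comm hg2r),
        ← mul_assoc] at h''
    have h2' : ((d * x : GL ι F) : Matrix ι ι F) * pM r = (((z1 : GL ι F) * d : GL ι F) : Matrix ι ι F) * pM r := by
      rw [Units.val_mul, Units.val_mul, mul_assoc, Duo.comm_m hxr, ← mul_assoc, hdM, mul_assoc (_ : Matrix ι ι F) (d : Matrix ι ι F),
        hdM, mul_assoc, ← Duo.comm_m hxr, ← mul_assoc, ← mul_assoc]
      exact hM
    have hdy' : (d : Matrix ι ι F) * y = y * (d : Matrix ι ι F) := congrArg Units.val hdy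
    have hconjy : ∀ X : Matrix ι ι F, X * y = y * X → X * pP r = y * (X * pM r) * y := fun X hX => by
      rw [← mul_assoc (y : Matrix ι ι F), ← hX, mul_assoc X, P.duo.ym, mul_assoc, mul_assoc, hy, mul_one]
    have hdx : d * x = (z1 : GL ι F) * d := P.duo.ext (by
        rw [hconjy _ (by rw [Units.val_mul, mul_assoc, hxy, ← mul_assoc, hdy', mul_assoc]),
          hconjy _ (by rw [Units.val_mul, mul_assoc, hdy', ← mul_assoc, hz1y, mul_assoc]), h2']) h2'
    rw [hdx, mul_inv_cancel_right]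
    exact (mem_core.1 z1.2).1
  have hkp : ((d⁻¹ * g : GL ι F) : Matrix ι ι F) * pP r = pP r := by
    rw [Units.val_mul, mul_assoc, ← hdP, ← mul_assoc, Units.inv_mul, one_mul]
  obtain ⟨z, hz⟩ := O.kernel_eq P hA hcom hsq hcA hrA (H.mul_mem (H.inv_mem (O.above hdN)) hg)
    (Duo.mul_comm_r (Duo.inv_comm hdr) hgr) hkp
  rw [show g = d * P.rho z by rw [← hz, mul_inv_cancel_left]]
  exact mul_mem hdN (P.rho_NR D z)

end Over

end CfsgLib.Classical22.C6Plus
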