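/-
The normaliser of the group is maximal in the derived group of the isometries.
-/
import Cfsg.Agent.Lib.Classical22.C6Plus.Singular
import Cfsg.Agent.Lib.Classical22.C6Plus.Fusion

set_option autoImplicit false
set_option maxHeartbeats 1000000

namespace CfsgLib.Classical22.C6Plus

open Matrix CfsgLib.Classical
open scoped MatrixGroups

variable {ι : Type} [Fintype ι] [DecidableEq ι] {F : Type*} [Field F] [Fintype F]
  {R : Subgroup (GL ι F)} {k : ℕ} {Q : QuadraticForm F (ι → F)}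

omit [Fintype F] in
lemma two_finrank_fixed_le {S : Sign R k} {z : GL ι F} (hz : z ∈ R) (hz1 : z ≠ 1)
    {W : Submodule F (ι → F)} (hW : ∀ w ∈ W, (z : Matrix ι ι F) *ᵥ w = w) :
    2 * Module.finrank F W ≤ Fintype.card ι := by
  classical
  haveI := S.nonempty
  by_cases hzm : z = -1
  · have : W = ⊥ := (Submodule.eq_bot_iff W).2 fun w hw => by
      have h := hW w hw
      rw [hzm, Units.val_neg, Units.val_one, Matrix.neg_mulVec, Matrix.one_mulVec] at h
      exact two_smul_eq_zero S.two_ne h.symm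
    rw [this, finrank_bot, mul_zero]
    exact Nat.zero_le _
  rcases S.sq z hz with h | h
  · obtain ⟨u, hu, -, huz⟩ := S.sep [] z hz (fun x hx => absurd hx List.not_mem_nil) ⟨hz1, hzm⟩
    have e : (z : Matrix ι ι F) * u = -((u : Matrix ι ι F) * z) :=
      congrArg Units.val ((S.bv_eq_one hz hu).1 (by rw [bv_symm]; exact huz))
    obtain ⟨U, hU⟩ : ∃ U, U = W.map (u : Matrix ι ι F).toLin' := ⟨_, rfl⟩
    have hUr : Module.finrank F U = Module.finrank F W := by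
      rw [hU]
      exact (Submodule.equivMapOfInjective _ (fun x y hxy => Matrix.mulVec_injective_iff_isUnit.2 u.isUnit
        (by simpa [Matrix.toLin'_apply] using hxy)) W).finrank_eq.symm
    have hdisj : W ⊓ U = ⊥ := (Submodule.eq_bot_iff _).2 fun w hw => by
      obtain ⟨x, hx, rfl⟩ := (hU ▸ hw.2 : w ∈ W.map _)
      have h1 := hW _ hw.1
      rw [Matrix.toLin'_apply, Matrix.mulVec_mulVec, e, Matrix.neg_mulVec, ← Matrix.mulVec_mulVec, hW x hx] at h1
      rw [Matrix.toLin'_apply]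
      exact two_smul_eq_zero S.two_ne h1.symm
    have h2 := Submodule.finrank_sup_add_finrank_inf_eq W U
    rw [hdisj, finrank_bot, add_zero, hUr] at h2
    have h3 := Submodule.finrank_le (W ⊔ U)
    rw [Module.finrank_pi] at h3
    omega
  · have : W = ⊥ := (Submodule.eq_bot_iff W).2 fun w hw => by
      have h' := hW w hw
      have e := congrArg (fun m : GL ι F => (m : Matrix ι ι F) *ᵥ w) h
      simp only [Units.val_mul, ← Matrix.mulVec_mulVec, h', Units.val_neg, Units.val_one, Matrix.neg_mulVec,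
        Matrix.one_mulVec] at e
      exact two_smul_eq_zero S.two_ne e
    rw [this, finrank_bot, mul_zero]
    exact Nat.zero_le _

/-- The derived group of the isometries does not normalise the group. -/
theorem omega_not_le (D : Data R k Q) : ¬ Cfsg.Geo.omegaGL ⇑Q ≤ Subgroup.normalizer (R : Set (GL ι F)) := by
  classical
  intro hle
  have S := D.sign
  haveI := S.nonempty
  -- a reflection
  obtain ⟨v, hv⟩ : ∃ v, Q v ≠ 0 := by
    by_contra hc
    push Not at hc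
    obtain ⟨u, hu⟩ := exists_ne (0 : ι → F)
    refine hu (D.nondeg u fun x => ?_)
    simp [QuadraticMap.polar, hc]
  let L : (ι → F) →ₗ[F] (ι → F) :=
    LinearMap.id - ((Q v)⁻¹ • (QuadraticMap.polarBilin Q).flip v).smulRight v
  have hL : ∀ x, L x = x - ((Q v)⁻¹ * QuadraticMap.polar Q x v) • v := fun x => rfl
  have hLL : ∀ x, L (L x) = x := fun x => by
    rw [hL, hL, QuadraticMap.polar_sub_left, QuadraticMap.polar_smul_left, QuadraticMap.polar_self, two_nsmul,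
      smul_eq_mul]
    have e : (Q v)⁻¹ * (QuadraticMap.polar Q x v - (Q v)⁻¹ * QuadraticMap.polar Q x v * (Q v + Q v)) =
        -((Q v)⁻¹ * QuadraticMap.polar Q x v) := by field_simp; ring
    rw [e, neg_smul, sub_neg_eq_add, sub_add_cancel]
  obtain ⟨s, hs⟩ : ∃ s : GL ι F, (s : Matrix ι ι F) = LinearMap.toMatrix' L :=
    ⟨⟨_, LinearMap.toMatrix' L, by rw [← LinearMap.toMatrix'_comp, ← LinearMap.toMatrix'_id]; congr 1; exact LinearMap.ext hLL,
      by rw [← LinearMap.toMatrix'_comp, ← LinearMap.toMatrix'_id]; congr 1; exact LinearMap.ext hLL⟩, rfl⟩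
  have hsv : ∀ x, (s : Matrix ι ι F) *ᵥ x = L x := fun x => by rw [hs, LinearMap.toMatrix'_mulVec]
  have hsI : s ∈ Cfsg.isometryGroup F ⇑Q := mem_iso.2 fun x => by
    rw [hsv, hL, sub_eq_add_neg, QuadraticMap.map_add ⇑Q, QuadraticMap.map_neg, QuadraticMap.map_smul,
      QuadraticMap.polar_neg_right, QuadraticMap.polar_smul_right, smul_eq_mul, smul_eq_mul]
    field_simp
    ring
  -- not commuting with everything
  have hone : ∀ g : GL ι F, (∀ x ∈ R, g * x = x * g) → ∀ w : ι → F, w ≠ 0 → (g : Matrix ι ι F) *ᵥ w = w → g = 1 := by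
    intro g hg w hw hgw
    obtain ⟨c, -, hc⟩ := SympTypeFour.scalar_of_commute S.irr hg
    rw [hc, Matrix.smul_mulVec, Matrix.one_mulVec] at hgw
    have hc1 : c = 1 := smul_left_injective F hw (hgw.trans (one_smul F w).symm)
    exact Units.ext (by rw [hc, hc1, one_smul, Units.val_one])
  obtain ⟨W1, hW1⟩ : ∃ W1, W1 = LinearMap.ker ((QuadraticMap.polarBilin Q).flip v) := ⟨_, rfl⟩
  have hn : 16 ≤ Fintype.card ι := by
    rw [S.card_index]
    exact le_trans (by norm_num) (Nat.pow_le_pow_right (by norm_num) S.four)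
  have hW1d : Fintype.card ι ≤ Module.finrank F W1 + 1 := by
    have h := LinearMap.finrank_range_add_finrank_ker ((QuadraticMap.polarBilin Q).flip v)
    rw [Module.finrank_pi, ← hW1] at h
    have h' := Submodule.finrank_le (LinearMap.range ((QuadraticMap.polarBilin Q).flip v))
    rw [Module.finrank_self] at h'
    omega
  have hW1f : ∀ w ∈ W1, (s : Matrix ι ι F) *ᵥ w = w := fun w hw => by
    rw [hW1, LinearMap.mem_ker] at hw
    rw [hsv, hL]
    change w - ((Q v)⁻¹ * (QuadraticMap.polarBilin Q).flip v w) • v = w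
    rw [hw, mul_zero, zero_smul, sub_zero]
  obtain ⟨x, hx, hxs⟩ : ∃ x ∈ R, s * x ≠ x * s := by
    by_contra hc
    push Not at hc
    obtain ⟨w, hw, hw0⟩ := Submodule.exists_mem_ne_zero_of_ne_bot (p := W1) (fun e => by
      rw [e, finrank_bot] at hW1d; omega)
    have hs1 := hone s hc w hw0 (hW1f w hw)
    have := hsv v
    rw [hs1, Units.val_one, Matrix.one_mulVec, hL, QuadraticMap.polar_self, two_nsmul, mul_add,
      inv_mul_cancel₀ hv] at this
    have h1 : ((1 : F) + 1) • v = 0 := sub_eq_self.1 this.symm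
    rw [one_add_one_eq_two] at h1
    exact hv (by rw [(smul_eq_zero.1 h1).resolve_left S.two_ne, QuadraticMap.map_zero])
  -- its commutator, in the derived group
  have hfix : ∀ (a b : GL ι F) (U : Submodule F (ι → F)), (∀ w ∈ U, (a : Matrix ι ι F) *ᵥ w = w) →
      ∀ w, w ∈ U ⊓ U.map (b : Matrix ι ι F).toLin' →
        ((a * b * a⁻¹ * b⁻¹ : GL ι F) : Matrix ι ι F) *ᵥ w = w := by
    intro a b U hU w hw
    obtain ⟨u, hu, hwu⟩ := Submodule.mem_map.1 hw.2
    rw [Matrix.toLin'_apply] at hwu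
    have h1 : ((b⁻¹ : GL ι F) : Matrix ι ι F) *ᵥ w = u := by
      rw [← hwu, Matrix.mulVec_mulVec, Units.inv_mul, Matrix.one_mulVec]
    have h2 : ((a⁻¹ : GL ι F) : Matrix ι ι F) *ᵥ u = u := by
      conv_lhs => rw [← hU u hu]
      rw [Matrix.mulVec_mulVec, Units.inv_mul, Matrix.one_mulVec]
    rw [Units.val_mul, Units.val_mul, Units.val_mul, ← Matrix.mulVec_mulVec, h1, ← Matrix.mulVec_mulVec, h2,
      ← Matrix.mulVec_mulVec, hwu, hU w hw.1]
  have hdim : ∀ (b : GL ι F) (U : Submodule F (ι → F)),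
      2 * Module.finrank F U ≤ Module.finrank F (U ⊓ U.map (b : Matrix ι ι F).toLin' : Submodule F (ι → F)) +
        Fintype.card ι := by
    intro b U
    have h1 := Submodule.finrank_sup_add_finrank_inf_eq U (U.map (b : Matrix ι ι F).toLin')
    have h2 := Submodule.finrank_le (U ⊔ U.map (b : Matrix ι ι F).toLin')
    rw [Module.finrank_pi] at h2
    have h3 : Module.finrank F (U.map (b : Matrix ι ι F).toLin') = Module.finrank F U :=
      (Submodule.equivMapOfInjective _ (fun u w huw => Matrix.mulVec_injective_iff_isUnit.2 b.isUnit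
        (by simpa [Matrix.toLin'_apply] using huw)) U).finrank_eq.symm
    omega
  obtain ⟨g, hg⟩ : ∃ g, g = s * x * s⁻¹ * x⁻¹ := ⟨_, rfl⟩
  have hgN := hle (hg ▸ omega_conj hsI (D.le hx) : g ∈ Cfsg.Geo.omegaGL ⇑Q)
  obtain ⟨W2, hW2⟩ : ∃ W2, W2 = W1 ⊓ W1.map (x : Matrix ι ι F).toLin' := ⟨_, rfl⟩
  have hW2d := hdim x W1
  rw [← hW2] at hW2d
  have hgf : ∀ w ∈ W2, (g : Matrix ι ι F) *ᵥ w = w := fun w hw => hg ▸ hfix s x W1 hW1f w (hW2 ▸ hw)
  obtain ⟨u, hu, hgu⟩ : ∃ u ∈ R, g * u ≠ u * g := by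
    by_contra hc
    push Not at hc
    obtain ⟨w, hw, hw0⟩ := Submodule.exists_mem_ne_zero_of_ne_bot (p := W2) (fun e => by
      rw [e, finrank_bot] at hW2d; omega)
    refine hxs (mul_inv_eq_one.1 ?_)
    rw [_root_.mul_inv_rev, ← mul_assoc, ← hg]
    exact hone g hc w hw0 (hgf w hw)
  have hz : g * u * g⁻¹ * u⁻¹ ∈ R :=
    R.mul_mem ((Subgroup.mem_normalizer_iff.1 hgN u).1 hu) (R.inv_mem hu)
  have h4 := two_finrank_fixed_le (S := S) hz (fun e => hgu (mul_inv_eq_iff_eq_mul.1 (mul_inv_eq_one.1 e)))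
    (W := W2 ⊓ W2.map (u : Matrix ι ι F).toLin') fun w hw => hfix g u W2 hgf w hw
  have := hdim u W2
  omega

/-- An overgroup of the normaliser in the derived group is one of the two. -/
theorem le_or_ge (D : Data R k Q) {p : ℕ} (hp : p.Prime) (hF : Fintype.card F = p) {A : Subgroup (GL ι F)} (hA : A ≤ R)
    (hcom : ∀ a ∈ A, ∀ b ∈ A, a * b = b * a) (hsq : ∀ a ∈ A, a * a = 1) (hcA : Nat.card A = 2 ^ (k + 1))
    {H : Subgroup (GL ι F)} (hN : NR R Q ≤ H) (hH : H ≤ Cfsg.Geo.omegaGL ⇑Q) :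
    H ≤ NR R Q ∨ Cfsg.Geo.omegaGL ⇑Q ≤ H := by
  classical
  rcases em (Cfsg.Geo.omegaGL ⇑Q ≤ H) with h | hne
  · exact Or.inr h
  left
  have O : Over H R k p Q := ⟨D, hp, hF, hH, hN, hne⟩
  have S := D.sign
  haveI := S.nonempty
  obtain ⟨r, hrA, hr0⟩ : ∃ r ∈ A, r ≠ 1 ∧ r ≠ -1 := by
    by_contra hc
    push Not at hc
    have hle : A ≤ Sign.pm ι F := fun a ha => Sign.mem_pm.2 (or_iff_not_imp_left.2 (hc a ha))
    have h1 := Subgroup.card_le_of_le hle
    have h2 : Nat.card (Sign.pm ι F) = 2 := by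
      rw [Sign.pm, Nat.card_zpowers, orderOf_eq_prime_iff]
      exact ⟨by rw [_root_.sq, neg_mul_neg, one_mul], S.neg_one_ne_one⟩
    rw [hcA, h2] at h1
    have h3 : 2 ^ 2 ≤ 2 ^ (k + 1) := Nat.pow_le_pow_right (by norm_num) (by have := S.four; omega)
    omega
  have hrR := hA hrA
  obtain ⟨u, hu, -, hur⟩ := S.sep [] r hrR (fun x hx => absurd hx List.not_mem_nil) hr0
  obtain ⟨y, hy, hy0, hyr, -, -⟩ := S.exists_q hrR R.one_mem R.one_mem hu 0
  rw [hur] at hyr
  have P : Pair0 R r y :=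
    ⟨⟨S.two_ne, hsq r hrA, qv_eq_zero.1 hy0, (S.bv_eq_one hy hrR).1 hyr⟩, hrR, hy⟩
  -- all centralisers
  have cent : ∀ s ∈ R, s ≠ 1 ∧ s ≠ -1 → ∀ g ∈ H, g * s = s * g → g ∈ NR R Q := by
    intro s hs hs0 g hg hgs
    rcases S.sq s hs with h | h
    · obtain ⟨n, hn, hnr⟩ := D.exists_move' hrR hs hr0 hs0 (by rw [qv_eq_zero.2 (hsq r hrA), qv_eq_zero.2 h])
      have hr' : n⁻¹ * g * n * r = r * (n⁻¹ * g * n) := by
        rw [← mul_inv_eq_iff_eq_mul,
          show n⁻¹ * g * n * r * (n⁻¹ * g * n)⁻¹ = n⁻¹ * (g * (n * r * n⁻¹) * g⁻¹) * n by group]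
        rcases hnr with e | e
        · rw [e, hgs, mul_inv_cancel_right, ← e]; group
        · rw [e, mul_neg, neg_mul, hgs, mul_inv_cancel_right, ← e]; group
      have := O.mem_NR_singular P hA hcom hsq hcA hrA (H.mul_mem (H.mul_mem (H.inv_mem (hN hn)) hg) (hN hn)) hr'
      have h' := (NR R Q).mul_mem ((NR R Q).mul_mem hn this) ((NR R Q).inv_mem hn)
      rwa [show n * (n⁻¹ * g * n) * n⁻¹ = g by group] at h'
    · exact O.mem_NR hs h hg hgs
  -- modulo the signs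
  obtain ⟨G, hG⟩ : ∃ G, G = H.map Sign.proj := ⟨_, rfl⟩
  obtain ⟨N, hNd⟩ : ∃ N : Subgroup G, N = ((NR R Q).map Sign.proj).subgroupOf G := ⟨_, rfl⟩
  obtain ⟨E, hEd⟩ : ∃ E : Subgroup G, E = (R.map Sign.proj).subgroupOf G := ⟨_, rfl⟩
  have hmem : ∀ h ∈ H, (Sign.proj h : GL ι F ⧸ Sign.pm ι F) ∈ G := fun h hh => hG ▸ ⟨h, hh, rfl⟩
  have hrep : ∀ g : G, ∃ h ∈ H, (g : GL ι F ⧸ Sign.pm ι F) = Sign.proj h := fun g => by
    obtain ⟨h, hh, e⟩ := (hG ▸ g.2 : (g : GL ι F ⧸ Sign.pm ι F) ∈ H.map Sign.proj)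
    exact ⟨h, hh, e.symm⟩
  have hNm : ∀ g : G, g ∈ N ↔ ∃ n ∈ NR R Q, (g : GL ι F ⧸ Sign.pm ι F) = Sign.proj n := fun g => by
    rw [hNd, Subgroup.mem_subgroupOf, Subgroup.mem_map]
    exact ⟨fun ⟨n, hn, e⟩ => ⟨n, hn, e.symm⟩, fun ⟨n, hn, e⟩ => ⟨n, hn, e.symm⟩⟩
  have hEm : ∀ g : G, g ∈ E ↔ ∃ n ∈ R, (g : GL ι F ⧸ Sign.pm ι F) = Sign.proj n := fun g => by
    rw [hEd, Subgroup.mem_subgroupOf, Subgroup.mem_map]
    exact ⟨fun ⟨n, hn, e⟩ => ⟨n, hn, e.symm⟩, fun ⟨n, hn, e⟩ => ⟨n, hn, e.symm⟩⟩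
  have hnegN : ∀ {n}, n ∈ NR R Q → -n ∈ NR R Q := fun {n} hn => by
    rw [← neg_one_mul n]; exact mul_mem (D.le_NR S.neg) hn
  have hne1 : ∀ {g : G} {a : GL ι F}, (g : GL ι F ⧸ Sign.pm ι F) = Sign.proj a → g ≠ 1 → a ≠ 1 ∧ a ≠ -1 := by
    intro g a e hg
    have h0 : Sign.proj a ≠ 1 := fun h => hg (Subtype.ext (e.trans h))
    refine ⟨fun h => h0 (by rw [h, _root_.map_one]), fun h => h0 ?_⟩
    rw [h, ← _root_.map_one (Sign.proj (ι := ι) (F := F)), Sign.proj_eq]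
    exact Or.inr (neg_neg 1).symm
  obtain ⟨q, hq⟩ : ∃ q : G → ZMod 2, ∀ g, q g = Sign.qq (g : GL ι F ⧸ Sign.pm ι F) := ⟨_, fun g => rfl⟩
  have hqn : ∀ (n a : GL ι F), qv (n * a * n⁻¹) = qv a := fun n a => by
    simp only [qv, show n * a * n⁻¹ * (n * a * n⁻¹) = n * (a * a) * n⁻¹ by group, mul_inv_eq_one, mul_eq_left]
  have SS : QuadSub N E q := by
    refine ⟨fun g hg => ?_, fun n hn a ha => ?_, fun a ha => ?_, fun n hn a ha => ?_, fun u hu v hv w hw => ?_,
      fun n hn hfix => ?_, fun u hu hu1 => ?_⟩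
    · obtain ⟨a, ha, e⟩ := (hEm g).1 hg
      exact (hNm g).2 ⟨a, D.le_NR ha, e⟩
    · obtain ⟨n', hn', e⟩ := (hNm n).1 hn
      obtain ⟨a', ha', e'⟩ := (hEm a).1 ha
      refine (hEm _).2 ⟨_, (Subgroup.mem_normalizer_iff.1 hn'.1 a').1 ha', ?_⟩
      rw [Subgroup.coe_mul, Subgroup.coe_mul, Subgroup.coe_inv, e, e', _root_.map_mul, _root_.map_mul, _root_.map_inv]
    · obtain ⟨a', ha', e'⟩ := (hEm a).1 ha
      exact Subtype.ext (by
        rw [Subgroup.coe_mul, e', Subgroup.coe_one]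
        exact S.quadSub.sq _ ⟨a', ha', rfl⟩)
    · obtain ⟨n', -, e⟩ := (hNm n).1 hn
      obtain ⟨a', ha', e'⟩ := (hEm a).1 ha
      rw [hq, hq, Subgroup.coe_mul, Subgroup.coe_mul, Subgroup.coe_inv, e, e', ← _root_.map_inv, ← _root_.map_mul,
        ← _root_.map_mul, Sign.qq_proj, Sign.qq_proj, hqn]
    · obtain ⟨u', hu', eu⟩ := (hEm u).1 hu
      obtain ⟨v', hv', ev⟩ := (hEm v).1 hv
      obtain ⟨w', hw', ew⟩ := (hEm w).1 hw
      simp only [hq, Subgroup.coe_mul, eu, ev, ew]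
      exact S.quadSub.bilin _ ⟨u', hu', rfl⟩ _ ⟨v', hv', rfl⟩ _ ⟨w', hw', rfl⟩
    · obtain ⟨n', hn', e⟩ := (hNm n).1 hn
      have hpm : ∀ x ∈ R, n' * x * n'⁻¹ = x ∨ n' * x * n'⁻¹ = -x := by
        intro x hx
        have h := hfix ⟨Sign.proj x, hmem x (O.mem_H hx)⟩ ((hEm _).2 ⟨x, hx, rfl⟩)
        have h' := congrArg Subtype.val h
        simp only [Subgroup.coe_mul, Subgroup.coe_inv, e, ← _root_.map_inv, ← _root_.map_mul] at h'
        rcases Sign.proj_eq.1 h' with h'' | h''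
        · exact Or.inl h''.symm
        · exact Or.inr (neg_eq_iff_eq_neg.1 h''.symm)
      have hsc := S.cent (m := (n' : Matrix ι ι F)) fun x hx => by
        rcases hpm x hx with h | h
        · refine ⟨1, ?_⟩
          rw [one_smul, ← Units.val_mul, ← Units.val_mul]
          exact congrArg Units.val (mul_inv_eq_iff_eq_mul.1 h).symm
        · refine ⟨-1, ?_⟩
          rw [neg_one_smul, ← Units.val_mul, ← Units.val_mul, mul_inv_eq_iff_eq_mul.1 h, neg_mul, Units.val_neg,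
            neg_neg]
      obtain ⟨a', ha', c, hca⟩ := hsc.resolve_left n'.ne_zero
      obtain ⟨w, hw⟩ : ∃ w, Q w ≠ 0 := by
        by_contra hc
        push Not at hc
        obtain ⟨u, hu⟩ := exists_ne (0 : ι → F)
        refine hu (D.nondeg u fun x => ?_)
        simp [QuadraticMap.polar, hc]
      have hcc : c * c = 1 := by
        have h1 := mem_iso.1 (omega_le hn'.2) w
        rw [hca, Matrix.smul_mulVec, QuadraticMap.map_smul, mem_iso.1 (D.le ha'), smul_eq_mul] at h1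
        exact mul_right_cancel₀ hw (h1.trans (one_mul _).symm)
      rcases mul_self_eq_one_iff.1 hcc with rfl | rfl
      · exact (hEm n).2 ⟨a', ha', by rw [e]; congr 1; exact Units.ext (by rw [hca, one_smul])⟩
      · exact (hEm n).2 ⟨-a', S.neg_mem ha', by
          rw [e]; congr 1; exact Units.ext (by rw [hca, neg_one_smul, Units.val_neg])⟩
    · obtain ⟨u', hu', eu⟩ := (hEm u).1 hu
      obtain ⟨v, hv, hv'⟩ := S.quadSub.nondeg _ ⟨u', hu', rfl⟩ (fun h => hu1 (Subtype.ext (eu.trans h)))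
      obtain ⟨v', hv0, rfl⟩ := hv
      refine ⟨⟨_, hmem v' (O.mem_H hv0)⟩, (hEm _).2 ⟨v', hv0, rfl⟩, ?_⟩
      simp only [hq, Subgroup.coe_mul, eu]
      exact hv'
  have hk4 := S.four
  have hcardE : Nat.card E = 2 ^ (2 * k) := by
    have h1 : Nat.card E = Nat.card (R.map Sign.proj) := by
      rw [hEd]
      refine Nat.card_congr (Subgroup.subgroupOfEquivOfLe ?_).toEquiv
      rw [hG]
      exact Subgroup.map_mono fun x hx => O.mem_H hx
    have h2 := S.two_card_le S.neg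
    rw [S.card, pow_add, pow_one] at h2
    omega
  obtain ⟨a1, ha1, hqa1, -⟩ := S.exists_q R.one_mem R.one_mem R.one_mem R.one_mem 1
  have ha10 := D.ne_pm hqa1
  have hproj1 : ∀ {a : GL ι F} (ha : a ∈ R), a ≠ 1 ∧ a ≠ -1 → (⟨_, hmem a (O.mem_H ha)⟩ : G) ≠ 1 := by
    intro a ha h0 h
    have h' : Sign.proj a = Sign.proj 1 := (congrArg Subtype.val h).trans (_root_.map_one _).symm
    rcases Sign.proj_eq.1 h' with e | e
    · exact h0.1 e.symm
    · exact h0.2 (neg_eq_iff_eq_neg.1 e.symm)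
  have htop : N = ⊤ := by
    refine SS.eq_top (fun a ha hne' c hc => ?_) (fun a ha hne' g hg => ?_) (fun a ha a' ha' h1 h1' hqe => ?_) ?_
      ((hEm ⟨_, hmem a1 (O.mem_H ha1)⟩).2 ⟨a1, ha1, rfl⟩) (hproj1 ha1 ha10)
      ((hEm ⟨_, hmem r (O.mem_H hrR)⟩).2 ⟨r, hrR, rfl⟩) (hproj1 hrR hr0) ?_
    · obtain ⟨a', ha', ea⟩ := (hEm a).1 ha
      obtain ⟨c', hc', ec⟩ := hrep c
      have h' := congrArg Subtype.val hc
      simp only [Subgroup.coe_mul, Subgroup.coe_inv, ec, ea, ← _root_.map_inv, ← _root_.map_mul] at h'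
      have h0 := hne1 ea hne'
      refine (hNm c).2 ?_
      rcases Sign.proj_eq.1 h' with h'' | h''
      · exact ⟨c', cent a' ha' h0 c' hc' (mul_inv_eq_iff_eq_mul.1 h''.symm), ec⟩
      · obtain ⟨w, hw, -, hwa⟩ := S.sep [] a' ha' (fun x hx => absurd hx List.not_mem_nil) h0
        have hw' := (S.bv_eq_one hw ha').1 hwa
        refine ⟨c', ?_, ec⟩
        have h3 : w * c' * a' = a' * (w * c') := by
          rw [mul_assoc, mul_inv_eq_iff_eq_mul.1 (neg_eq_iff_eq_neg.1 h''.symm), neg_mul, mul_neg, ← mul_assoc, hw',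
            neg_mul, neg_neg, mul_assoc]
        have h4 := cent a' ha' h0 (w * c') (H.mul_mem (O.mem_H hw) hc') h3
        exact (Subgroup.mul_mem_cancel_left (NR R Q) (D.le_NR hw)).1 h4
    · obtain ⟨a', -, ea⟩ := (hEm a).1 ha
      obtain ⟨g', -, eg⟩ := hrep g
      rw [hq, hq, Subgroup.coe_mul, Subgroup.coe_mul, Subgroup.coe_inv, eg, ea, ← _root_.map_inv, ← _root_.map_mul,
        ← _root_.map_mul, Sign.qq_proj, Sign.qq_proj, hqn]
    · obtain ⟨b, hb, eb⟩ := (hEm a).1 ha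
      obtain ⟨b', hb', eb'⟩ := (hEm a').1 ha'
      rw [hq, hq, eb, eb', Sign.qq_proj, Sign.qq_proj] at hqe
      obtain ⟨n, hn, hnb⟩ := D.exists_move' hb hb' (hne1 eb h1) (hne1 eb' h1') hqe
      refine ⟨⟨_, hmem n (hN hn)⟩, (hNm _).2 ⟨n, hn, rfl⟩, Subtype.ext ?_⟩
      simp only [Subgroup.coe_mul, Subgroup.coe_inv, eb, eb', ← _root_.map_inv, ← _root_.map_mul]
      rcases hnb with e | e
      · rw [e]
      · rw [e, Sign.proj_eq]; exact Or.inr (neg_neg b').symm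
    · rw [hcardE]
      exact lt_of_lt_of_le (by norm_num : 4 < 2 ^ 8) (Nat.pow_le_pow_right (by norm_num) (by omega))
    · rw [hq, hq, Sign.qq_proj, Sign.qq_proj, hqa1, qv_eq_zero.2 (hsq r hrA)]
      exact one_ne_zero
  intro h hh
  obtain ⟨n, hn, e⟩ := (hNm ⟨_, hmem h hh⟩).1 (htop ▸ Subgroup.mem_top _)
  rcases Sign.proj_eq.1 e with e' | e'
  · exact e' ▸ hn
  · have h2 := hnegN hn
    rwa [e', neg_neg] at h2

/-- The normaliser is maximal. -/
theorem isMaximalIn (D : Data R k Q) {p : ℕ} (hp : p.Prime) (hF : Fintype.card F = p) {A : Subgroup (GL ι F)}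
    (hA : A ≤ R) (hcom : ∀ a ∈ A, ∀ b ∈ A, a * b = b * a) (hsq : ∀ a ∈ A, a * a = 1)
    (hcA : Nat.card A = 2 ^ (k + 1)) : Cfsg.Geo.IsMaximalIn (Cfsg.Geo.omegaGL ⇑Q) (NR R Q) := by
  refine ⟨lt_of_le_not_ge inf_le_right fun h => omega_not_le D (h.trans inf_le_left), fun M hM hMO => ?_⟩
  rcases le_or_ge D hp hF hA hcom hsq hcA hM hMO with h | h
  · exact Or.inl (le_antisymm h hM)
  · exact Or.inr (le_antisymm hMO h)

end CfsgLib.Classical22.C6Plus
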